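import Mathlib
import Cfsg.Agent.Lib.GL.ElementOrders

/-!
Semisimple endomorphisms and matrices: determined up to similarity by the characteristic polynomial,
determinants of their centralisers, existence with given characteristic polynomial, element orders.
-/

set_option autoImplicit false

open Polynomial Module

namespace Cfsg.Agent.Semisimple

/-- Annihilated by a squarefree polynomial. -/
def SS {K A : Type*} [Field K] [Ring A] [Algebra K A] (f : A) : Prop :=
  ∃ h : K[X], Squarefree h ∧ aeval f h = 0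

theorem SS.map {K A B : Type*} [Field K] [Ring A] [Algebra K A] [Ring B] [Algebra K B] (φ : A →ₐ[K] B)
    {f : A} (hf : SS (K := K) f) : SS (K := K) (φ f) := by
  obtain ⟨h, hh, ha⟩ := hf
  exact ⟨h, hh, by rw [aeval_algHom_apply, ha, map_zero]⟩

universe u

variable {K : Type*} [Field K]

/-- Multiplication by the root. -/
noncomputable def rootMul (g : K[X]) : End K (AdjoinRoot g) :=
  Algebra.lmul K (AdjoinRoot g) (AdjoinRoot.root g)

theorem aeval_rootMul (g : K[X]) : aeval (rootMul g) g = 0 := by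
  rw [rootMul, aeval_algHom_apply, AdjoinRoot.aeval_eq, AdjoinRoot.mk_self, map_zero]

theorem charpoly_rootMul (g : K[X]) (hg : g.Monic) [Module.Finite K (AdjoinRoot g)] :
    (rootMul g).charpoly = g := by
  have h : g ∣ (rootMul g).charpoly := by
    rw [← AdjoinRoot.mk_eq_zero, ← AdjoinRoot.aeval_eq]
    exact Algebra.aeval_self_charpoly_lmul (AdjoinRoot.root g)
  refine (eq_of_monic_of_dvd_of_natDegree_le hg (LinearMap.charpoly_monic _) h ?_).symm ▸ rfl
  rw [LinearMap.charpoly_natDegree, (AdjoinRoot.powerBasis' hg).finrank]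
  simp

section Split

variable {V : Type*} [AddCommGroup V] [Module K V] [FiniteDimensional K V]

theorem exists_vec_of_dvd (f : End K V) {g : K[X]} (hg : Irreducible g) (h : g ∣ f.charpoly) :
    ∃ v : V, v ≠ 0 ∧ aeval f g v = 0 := by
  classical
  let b := Module.finBasis K V
  set M := LinearMap.toMatrixAlgEquiv b f
  have hM : M.charpoly = f.charpoly := LinearMap.charpoly_toMatrix f b
  suffices hdet : (aeval M g).det = 0 by
    have : LinearMap.det (aeval f g) = 0 := by
      rw [← LinearMap.det_toMatrix b]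
      show (LinearMap.toMatrixAlgEquiv b (aeval f g)).det = 0
      rw [← aeval_algHom_apply]
      exact hdet
    obtain ⟨v, hv, hv0⟩ := Submodule.exists_mem_ne_zero_of_ne_bot (LinearMap.bot_lt_ker_of_det_eq_zero this).ne'
    exact ⟨v, hv0, LinearMap.mem_ker.1 hv⟩
  haveI : Fact (Irreducible g) := ⟨hg⟩
  let φ : K →+* AdjoinRoot g := algebraMap K (AdjoinRoot g)
  let ψ : Matrix (Fin (finrank K V)) (Fin (finrank K V)) K →ₐ[K]
      Matrix (Fin (finrank K V)) (Fin (finrank K V)) (AdjoinRoot g) := (Algebra.ofId K (AdjoinRoot g)).mapMatrix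
  apply φ.injective
  rw [map_zero, RingHom.map_det]
  show (ψ (aeval M g)).det = 0
  rw [← aeval_algHom_apply, ← aeval_map_algebraMap (AdjoinRoot g)]
  set r := AdjoinRoot.root g
  have hr : (g.map (algebraMap K (AdjoinRoot g))).IsRoot r := AdjoinRoot.isRoot_root g
  obtain ⟨c, hc⟩ := dvd_iff_isRoot.2 hr
  rw [hc, map_mul, Matrix.det_mul]
  have h0 : (ψ M).charpoly.eval r = 0 := by
    show (M.map φ).charpoly.eval r = 0
    rw [Matrix.charpoly_map, hM]
    obtain ⟨d, hd⟩ := h
    rw [hd, Polynomial.map_mul, eval_mul, hr.eq_zero, zero_mul]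
  rw [Matrix.eval_charpoly] at h0
  have : (aeval (ψ M) (X - C r)).det = 0 := by
    rw [map_sub, aeval_X, aeval_C, show ψ M - algebraMap (AdjoinRoot g) _ r = -(Matrix.scalar _ r - ψ M) by
      rw [neg_sub]; rfl, Matrix.det_neg, h0, mul_zero]
  rw [this, zero_mul]

/-- Split off a simple summand. -/
theorem split (f : End K V) (hf : SS (K := K) f) {g : K[X]} (hg : Irreducible g) (h : g ∣ f.charpoly) :
    ∃ (W' : Submodule K V) (hW' : ∀ x ∈ W', f x ∈ W') (e : (AdjoinRoot g × W') ≃ₗ[K] V),
      ∀ x, e ((rootMul g).prodMap (f.restrict hW') x) = f (e x) := by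
  obtain ⟨v, hv0, hv⟩ := exists_vec_of_dvd f hg h
  let φ : K[X] →ₗ[K] V := (LinearMap.applyₗ v).comp (aeval f).toLinearMap
  let mkL : K[X] →ₗ[K] AdjoinRoot g := (AdjoinRoot.mkₐ g).toLinearMap
  have hsurj : Function.Surjective mkL := AdjoinRoot.mk_surjective
  have hker : LinearMap.ker mkL = LinearMap.ker φ := by
    ext P
    rw [LinearMap.mem_ker, LinearMap.mem_ker]
    show AdjoinRoot.mk g P = 0 ↔ aeval f P v = 0
    rw [AdjoinRoot.mk_eq_zero]
    constructor
    · rintro ⟨c, rfl⟩
      rw [mul_comm, map_mul, Module.End.mul_apply, hv, map_zero]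
    · intro hP
      by_contra hdvd
      obtain ⟨a, b, hab⟩ := (hg.coprime_iff_not_dvd).2 hdvd
      apply hv0
      have := congrArg (fun z => aeval f z v) hab
      simp [map_mul, Module.End.mul_apply, hv, hP] at this
      exact this.symm
  let e0 : AdjoinRoot g ≃ₗ[K] LinearMap.range φ :=
    (mkL.quotKerEquivOfSurjective hsurj).symm.trans ((Submodule.quotEquivOfEq _ _ hker).trans φ.quotKerEquivRange)
  have he0 : ∀ P : K[X], ((e0 (AdjoinRoot.mk g P) : LinearMap.range φ) : V) = aeval f P v := by
    intro P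
    have : (mkL.quotKerEquivOfSurjective hsurj).symm (AdjoinRoot.mk g P) = Submodule.Quotient.mk P := by
      rw [LinearEquiv.symm_apply_eq]; rfl
    simp only [e0, LinearEquiv.trans_apply, this]
    rfl
  have hW : LinearMap.range φ ∈ f.invtSubmodule := by
    rw [Module.End.mem_invtSubmodule f]
    rintro _ ⟨P, rfl⟩
    exact ⟨X * P, by simp [φ, map_mul, Module.End.mul_apply]⟩
  obtain ⟨hsq, hsf, hz⟩ := hf
  obtain ⟨W', hW'inv, hc⟩ := Module.End.isSemisimple_iff.1
    (Module.End.isSemisimple_of_squarefree_aeval_eq_zero hsf hz) _ hW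
  refine ⟨W', (Module.End.mem_invtSubmodule f).1 hW'inv,
    ((e0.prodCongr (LinearEquiv.refl K W')).trans (Submodule.prodEquivOfIsCompl _ _ hc)), ?_⟩
  rintro ⟨x, y⟩
  obtain ⟨P, rfl⟩ := AdjoinRoot.mk_surjective (g := g) x
  simp only [LinearMap.prodMap_apply, LinearEquiv.trans_apply, LinearEquiv.prodCongr_apply,
    Submodule.coe_prodEquivOfIsCompl', LinearEquiv.refl_apply, map_add, LinearMap.restrict_coe_apply]
  rw [show rootMul g (AdjoinRoot.mk g P) = AdjoinRoot.mk g (X * P) by simp [rootMul], he0, he0,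
    map_mul, aeval_X, Module.End.mul_apply]

theorem finrank_adjoinRoot {g : K[X]} (hg : g.Monic) : finrank K (AdjoinRoot g) = g.natDegree := by
  rw [(AdjoinRoot.powerBasis' hg).finrank]; simp

theorem finite_adjoinRoot {g : K[X]} (hg : g.Monic) : Module.Finite K (AdjoinRoot g) :=
  (AdjoinRoot.powerBasis' hg).finite

theorem charpoly_split (f : End K V) {g : K[X]} (hg : g.Monic) {W' : Submodule K V}
    (hW' : ∀ x ∈ W', f x ∈ W') (e : (AdjoinRoot g × W') ≃ₗ[K] V)
    (he : ∀ x, e ((rootMul g).prodMap (f.restrict hW') x) = f (e x)) :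
    f.charpoly = g * (f.restrict hW').charpoly := by
  haveI := finite_adjoinRoot hg
  have : f = e.conj ((rootMul g).prodMap (f.restrict hW')) := by
    refine LinearMap.ext fun x => ?_
    rw [LinearEquiv.conj_apply_apply, he, LinearEquiv.apply_symm_apply]
  conv_lhs => rw [this]
  rw [LinearEquiv.charpoly_conj, LinearMap.charpoly_prodMap, charpoly_rootMul g hg]

theorem ss_restrict (f : End K V) (hf : SS (K := K) f) {W' : Submodule K V} (hW' : ∀ x ∈ W', f x ∈ W') :
    SS (K := K) (f.restrict hW') := by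
  obtain ⟨h, hh, ha⟩ := hf
  refine ⟨h, hh, ?_⟩
  have key : ∀ P : K[X], ∀ x : W', ((aeval (f.restrict hW') P x : W') : V) = aeval f P x := by
    intro P
    induction P using Polynomial.induction_on' with
    | add a b iha ihb => intro x; simp [iha, ihb]
    | monomial m a =>
      intro x
      simp only [aeval_monomial, Module.End.mul_apply, Module.algebraMap_end_apply, Submodule.coe_smul]
      congr 1
      induction m with
      | zero => simp
      | succ m ih => rw [pow_succ', pow_succ', Module.End.mul_apply, Module.End.mul_apply, LinearMap.restrict_coe_apply, ih]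
  refine LinearMap.ext fun x => Subtype.ext ?_
  rw [key, ha]
  simp

end Split

/-- Semisimple endomorphisms with equal characteristic polynomials are conjugate. -/
theorem exists_intertwine : ∀ (n : ℕ) (V W : Type u) [AddCommGroup V] [Module K V] [FiniteDimensional K V]
    [AddCommGroup W] [Module K W] [FiniteDimensional K W] (f : End K V) (f' : End K W),
    finrank K V = n → SS (K := K) f → SS (K := K) f' → f.charpoly = f'.charpoly →
    ∃ e : V ≃ₗ[K] W, ∀ x, e (f x) = f' (e x) := by
  intro n
  induction n using Nat.strong_induction_on with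
  | _ n ih =>
    intro V W _ _ _ _ _ _ f f' hn hf hf' hc
    have hnW : finrank K W = n := by rw [← f'.charpoly_natDegree, ← hc, f.charpoly_natDegree, hn]
    rcases Nat.eq_zero_or_pos n with h0 | h0
    · haveI : Subsingleton W := Module.finrank_zero_iff.1 (hnW.trans h0)
      exact ⟨LinearEquiv.ofFinrankEq V W (hn.trans hnW.symm), fun x => Subsingleton.elim _ _⟩
    obtain ⟨g, hgm, hg, hdvd⟩ := Polynomial.exists_monic_irreducible_factor f.charpoly
      (fun hu => by
        have := natDegree_eq_zero_of_isUnit hu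
        rw [f.charpoly_natDegree, hn] at this
        omega)
    obtain ⟨U, hU, e, he⟩ := split f hf hg hdvd
    obtain ⟨U', hU', e', he'⟩ := split f' hf' hg (hc ▸ hdvd)
    have c1 := charpoly_split f hgm hU e he
    have c2 := charpoly_split f' hgm hU' e' he'
    have hlt : finrank K U < n := by
      haveI := finite_adjoinRoot hgm
      have := e.finrank_eq
      rw [Module.finrank_prod, finrank_adjoinRoot hgm, hn] at this
      have := hg.natDegree_pos
      omega
    obtain ⟨d, hd⟩ := ih _ hlt U U' (f.restrict hU) (f'.restrict hU') rfl (ss_restrict f hf hU)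
      (ss_restrict f' hf' hU') (mul_left_cancel₀ hgm.ne_zero (c1.symm.trans (hc.trans c2)))
    refine ⟨e.symm.trans ((LinearEquiv.refl K (AdjoinRoot g)).prodCongr d |>.trans e'), fun x => ?_⟩
    obtain ⟨⟨a, b⟩, rfl⟩ := e.surjective x
    rw [← he]
    simp only [LinearEquiv.trans_apply, LinearEquiv.symm_apply_apply, LinearMap.prodMap_apply,
      LinearEquiv.prodCongr_apply, LinearEquiv.refl_apply, hd, ← he']

section Mat

variable {n : ℕ}

/-- Semisimple matrices with equal characteristic polynomials are similar. -/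
theorem exists_similar (A B : Matrix (Fin n) (Fin n) K) (hA : SS (K := K) A) (hB : SS (K := K) B)
    (hc : A.charpoly = B.charpoly) : ∃ P : GL (Fin n) K, (P : Matrix (Fin n) (Fin n) K) * A = B * P := by
  obtain ⟨e, he⟩ := exists_intertwine n (Fin n → K) (Fin n → K) (Matrix.toLinAlgEquiv' A) (Matrix.toLinAlgEquiv' B)
    (by simp) (hA.map (Matrix.toLinAlgEquiv' : Matrix (Fin n) (Fin n) K ≃ₐ[K] _).toAlgHom)
    (hB.map (Matrix.toLinAlgEquiv' : Matrix (Fin n) (Fin n) K ≃ₐ[K] _).toAlgHom)
    (by
      show (Matrix.toLin' A).charpoly = (Matrix.toLin' B).charpoly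
      rw [Matrix.charpoly_toLin', Matrix.charpoly_toLin', hc])
  let P : Matrix (Fin n) (Fin n) K := (Matrix.toLinAlgEquiv' : Matrix (Fin n) (Fin n) K ≃ₐ[K] _).symm e.toLinearMap
  have hP : P.det ≠ 0 := by
    rw [show P = LinearMap.toMatrix' e.toLinearMap from rfl, LinearMap.det_toMatrix']
    exact e.isUnit_det'.ne_zero
  refine ⟨Matrix.GeneralLinearGroup.mkOfDetNeZero P hP, ?_⟩
  apply (Matrix.toLinAlgEquiv' : Matrix (Fin n) (Fin n) K ≃ₐ[K] _).injective
  show Matrix.toLinAlgEquiv' (P * A) = Matrix.toLinAlgEquiv' (B * P)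
  rw [map_mul, map_mul]
  simp only [P, AlgEquiv.apply_symm_apply]
  exact LinearMap.ext he

/-- Over a finite field the centraliser of a semisimple matrix has every determinant. -/
theorem exists_commute_det [Finite K] (hn : 0 < n) (A : Matrix (Fin n) (Fin n) K) (hA : SS (K := K) A)
    {c : K} (hc : c ≠ 0) : ∃ C : GL (Fin n) K, Commute (C : Matrix (Fin n) (Fin n) K) A ∧ (C : Matrix (Fin n) (Fin n) K).det = c := by
  set f : End K (Fin n → K) := Matrix.toLinAlgEquiv' A
  obtain ⟨g, hgm, hg, hdvd⟩ := Polynomial.exists_monic_irreducible_factor f.charpoly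
    (fun hu => by
      have := natDegree_eq_zero_of_isUnit hu
      rw [f.charpoly_natDegree] at this
      simp at this
      omega)
  obtain ⟨U, hU, e, he⟩ := split f (hA.map (Matrix.toLinAlgEquiv' : Matrix (Fin n) (Fin n) K ≃ₐ[K] _).toAlgHom) hg hdvd
  haveI := finite_adjoinRoot hgm
  haveI : Fact (Irreducible g) := ⟨hg⟩
  haveI : Finite (AdjoinRoot g) := Module.finite_of_finite K
  obtain ⟨x, hx⟩ := FiniteField.norm_surjective K (AdjoinRoot g) c
  let d : End K (AdjoinRoot g × U) := (Algebra.lmul K (AdjoinRoot g) x).prodMap LinearMap.id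
  let C := LinearMap.toMatrix' (e.conj d)
  have hdet : C.det = c := by
    rw [LinearMap.det_toMatrix']
    show LinearMap.det (e.toLinearMap ∘ₗ d ∘ₗ e.symm.toLinearMap) = c
    rw [LinearMap.det_conj, LinearMap.det_prodMap, LinearMap.det_id, mul_one, ← Algebra.norm_apply, hx]
  refine ⟨Matrix.GeneralLinearGroup.mkOfDetNeZero C (hdet ▸ hc), ?_, hdet⟩
  apply (Matrix.toLinAlgEquiv' : Matrix (Fin n) (Fin n) K ≃ₐ[K] _).injective
  show Matrix.toLinAlgEquiv' (C * A) = Matrix.toLinAlgEquiv' (A * C)
  rw [map_mul, map_mul, show Matrix.toLinAlgEquiv' C = e.conj d from Matrix.toLin'_toMatrix' _]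
  refine LinearMap.ext fun y => ?_
  obtain ⟨⟨a, b⟩, rfl⟩ := e.surjective y
  show e.conj d (f (e (a, b))) = f (e.conj d (e (a, b)))
  rw [← he, LinearEquiv.conj_apply_apply, LinearEquiv.conj_apply_apply, LinearEquiv.symm_apply_apply,
    LinearEquiv.symm_apply_apply, ← he]
  congr 1
  simp only [d, LinearMap.prodMap_apply, LinearMap.id_apply, rootMul, Algebra.coe_lmul_eq_mul, LinearMap.mul_apply_apply]
  rw [mul_left_comm]

theorem squarefree_dvd_of_factors {m Q : K[X]} (hm : Squarefree m)
    (h : ∀ g, Irreducible g → g ∣ m → g ∣ Q) : m ∣ Q := by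
  induction m using UniqueFactorizationMonoid.induction_on_prime with
  | h₁ => exact absurd hm not_squarefree_zero
  | h₂ x hx => exact hx.dvd
  | h₃ a g ha hg ih =>
    refine IsCoprime.mul_dvd ((hg.irreducible.coprime_iff_not_dvd).2 fun hga => ?_)
      (h g hg.irreducible (dvd_mul_right g a)) (ih (hm.squarefree_of_dvd (dvd_mul_left a g))
        fun r hr hra => h r hr (hra.mul_left g))
    exact hg.irreducible.not_isUnit (hm g (mul_dvd_mul_left g hga))

/-- An element of order prime to `p` is semisimple. -/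
theorem ss_of_coprime (p : ℕ) [Fact p.Prime] [CharP K p] {G : Type*} [Group G] {R : Type*} [Ring R]
    [Algebra K R] (φ : G →* R) {g : G} (hg : (orderOf g).Coprime p) : SS (K := K) (φ g) := by
  refine ⟨X ^ orderOf g - 1, ?_, ?_⟩
  · refine (separable_X_pow_sub_C 1 ?_ one_ne_zero).squarefree
    rw [Ne, CharP.cast_eq_zero_iff K p]
    exact fun h => (Fact.out : p.Prime).not_dvd_one (hg ▸ Nat.dvd_gcd h dvd_rfl)
  · rw [map_sub, map_pow, aeval_X, map_one, ← map_pow, pow_orderOf_eq_one, map_one, sub_self]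

/-- Conversely, an invertible semisimple matrix over a finite field has order prime to `p`. -/
theorem coprime_of_ss [Fintype K] (p : ℕ) [Fact p.Prime] [CharP K p] (A : GL (Fin n) K)
    (hA : SS (K := K) (A : Matrix (Fin n) (Fin n) K)) : (orderOf A).Coprime p := by
  obtain ⟨h, hh, ha⟩ := hA
  set L := ∏ d ∈ Finset.Icc 1 n, (Fintype.card K ^ d - 1)
  set m := minpoly K (A : Matrix (Fin n) (Fin n) K)
  have hm : Squarefree m := hh.squarefree_of_dvd (minpoly.dvd _ _ ha)
  have hdvd : m ∣ X ^ L - 1 := by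
    refine squarefree_dvd_of_factors hm fun g hg hgm => ?_
    have hc : g ∣ (A : Matrix (Fin n) (Fin n) K).charpoly := hgm.trans (Matrix.minpoly_dvd_charpoly _)
    refine Cfsg.Agent.GL.irreducible_dvd_X_pow_sub_one hg (Cfsg.Agent.GL.not_dvd_X_of_dvd_charpoly A hg hc)
      (Finset.dvd_prod_of_mem _ (Finset.mem_Icc.2 ⟨hg.natDegree_pos, ?_⟩))
    exact (natDegree_le_of_dvd hc (Matrix.charpoly_monic _).ne_zero).trans
      (le_of_eq (by rw [Matrix.charpoly_natDegree_eq_dim, Fintype.card_fin]))
  obtain ⟨c, hc⟩ := hdvd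
  have h3 := congrArg (aeval (A : Matrix (Fin n) (Fin n) K)) hc
  simp only [m, map_mul, map_sub, map_pow, aeval_X, map_one, minpoly.aeval, zero_mul] at h3
  have hpow : A ^ L = 1 := Units.ext (by simpa using sub_eq_zero.1 h3)
  refine Nat.Coprime.coprime_dvd_left (orderOf_dvd_of_pow_eq_one hpow) ?_
  refine Nat.coprime_prod_left_iff.2 fun d hd => ?_
  refine Nat.Coprime.symm (((Fact.out : p.Prime).coprime_iff_not_dvd).2 fun hp => ?_)
  have hq : p ∣ Fintype.card K := (CharP.cast_eq_zero_iff K p _).1 (FiniteField.cast_card_eq_zero K)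
  have hd1 : 1 ≤ d := (Finset.mem_Icc.1 hd).1
  have h1 : p ∣ Fintype.card K ^ d := dvd_pow hq (by omega)
  have h2 := Nat.dvd_sub h1 hp
  rw [Nat.sub_sub_self (Nat.one_le_pow _ _ Fintype.card_pos)] at h2
  exact (Fact.out : p.Prime).not_dvd_one h2

/-- Every monic polynomial is the characteristic polynomial of a semisimple matrix. -/
theorem exists_ss_charpoly : ∀ (n : ℕ) (P : K[X]), P.Monic → P.natDegree = n →
    ∃ A : Matrix (Fin n) (Fin n) K, A.charpoly = P ∧ SS (K := K) A := by
  intro n
  induction n using Nat.strong_induction_on with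
  | _ n ih =>
    intro P hP hn
    rcases Nat.eq_zero_or_pos n with h0 | h0
    · subst h0
      refine ⟨1, ?_, 1, squarefree_one, Subsingleton.elim _ _⟩
      rw [hP.natDegree_eq_zero.1 hn]
      exact Matrix.charpoly_isEmpty ..
    obtain ⟨g, hgm, hg, c, hc⟩ := Polynomial.exists_monic_irreducible_factor P
      (fun hu => by have := natDegree_eq_zero_of_isUnit hu; omega)
    have hcm : c.Monic := hgm.of_mul_monic_left (hc ▸ hP)
    have hdeg : n = g.natDegree + c.natDegree := by rw [← hn, hc, natDegree_mul hgm.ne_zero hcm.ne_zero]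
    obtain ⟨B, hB, hBs⟩ := ih c.natDegree (by have := hg.natDegree_pos; omega) c hcm rfl
    haveI := finite_adjoinRoot hgm
    let f : End K (AdjoinRoot g × (Fin c.natDegree → K)) :=
      (rootMul g).prodMap (Matrix.toLinAlgEquiv' B)
    let b := Module.finBasisOfFinrankEq K (AdjoinRoot g × (Fin c.natDegree → K))
      (show _ = n by rw [Module.finrank_prod, finrank_adjoinRoot hgm, Module.finrank_fin_fun, hdeg])
    refine ⟨LinearMap.toMatrixAlgEquiv b f, ?_, ?_⟩
    · show (LinearMap.toMatrix b b f).charpoly = P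
      rw [LinearMap.charpoly_toMatrix, LinearMap.charpoly_prodMap, charpoly_rootMul g hgm, hc]
      show g * (Matrix.toLin' B).charpoly = g * c
      rw [Matrix.charpoly_toLin', hB]
    · refine SS.map (LinearMap.toMatrixAlgEquiv b).toAlgHom (f := f) ?_
      obtain ⟨s, hs, hs0⟩ := hBs
      have hz : ∀ Q : K[X], aeval f Q =
          (aeval (rootMul g) Q).prodMap (aeval (Matrix.toLinAlgEquiv' B) Q) := by
        intro Q
        have hp : aeval ((rootMul g, Matrix.toLinAlgEquiv' B) :
            End K (AdjoinRoot g) × End K (Fin c.natDegree → K)) Q =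
            (aeval (rootMul g) Q, aeval (Matrix.toLinAlgEquiv' B) Q) := by rw [Polynomial.aeval_prod_apply]
        have := (aeval_algHom_apply (LinearMap.prodMapAlgHom K (AdjoinRoot g) (Fin c.natDegree → K))
          ((rootMul g, Matrix.toLinAlgEquiv' B) : End K (AdjoinRoot g) × End K (Fin c.natDegree → K)) Q)
        rw [hp] at this
        exact this
      have hB0 : aeval (Matrix.toLinAlgEquiv' B) s = 0 := by
        rw [aeval_algHom_apply, hs0, map_zero]
      by_cases hgs : g ∣ s
      · refine ⟨s, hs, ?_⟩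
        obtain ⟨k, rfl⟩ := hgs
        have hA0 : aeval (rootMul g) (g * k) = 0 := by rw [map_mul, aeval_rootMul, zero_mul]
        rw [hz, hA0, hB0]
        exact LinearMap.ext fun x => by simp
      · refine ⟨g * s, (squarefree_mul_iff).2 ⟨((hg.coprime_iff_not_dvd).2 hgs).isRelPrime, hg.squarefree, hs⟩, ?_⟩
        have hA0 : aeval (rootMul g) (g * s) = 0 := by rw [map_mul, aeval_rootMul, zero_mul]
        have hB1 : aeval (Matrix.toLinAlgEquiv' B) (g * s) = 0 := by rw [map_mul, hB0, mul_zero]
        rw [hz, hA0, hB1]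
        exact LinearMap.ext fun x => by simp

end Mat

end Cfsg.Agent.Semisimple
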