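import Cfsg.Agent.Lib.Semisimple.Basic

/-!
Classes of semisimple elements of `GL` and `SL`: counted by characteristic polynomials.
-/

set_option autoImplicit false

open Polynomial Matrix

namespace Cfsg.Agent.Semisimple

variable {K : Type*} [Field K] {n : ℕ}

/-- The matrix of an element of `SL`. -/
def slVal : Matrix.SpecialLinearGroup (Fin n) K →* Matrix (Fin n) (Fin n) K :=
  ⟨⟨fun g => g.1, rfl⟩, fun _ _ => rfl⟩

theorem isConj_sl [Finite K] (g h : Matrix.SpecialLinearGroup (Fin n) K)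
    (hg : SS (K := K) (g : Matrix (Fin n) (Fin n) K)) (hh : SS (K := K) (h : Matrix (Fin n) (Fin n) K))
    (hc : (g : Matrix (Fin n) (Fin n) K).charpoly = (h : Matrix (Fin n) (Fin n) K).charpoly) : IsConj g h := by
  rcases Nat.eq_zero_or_pos n with rfl | hn
  · rw [show g = h from Subsingleton.elim g h]
  obtain ⟨P, hP⟩ := exists_similar g.1 h.1 hg hh hc
  have hP0 : (P : Matrix (Fin n) (Fin n) K).det ≠ 0 :=
    ((Matrix.isUnit_iff_isUnit_det _).1 P.isUnit).ne_zero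
  obtain ⟨C, hC, hCd⟩ := exists_commute_det hn h.1 hh (inv_ne_zero hP0)
  let M : Matrix.SpecialLinearGroup (Fin n) K :=
    ⟨(C : Matrix (Fin n) (Fin n) K) * P, by rw [Matrix.det_mul, hCd, inv_mul_cancel₀ hP0]⟩
  refine isConj_iff.2 ⟨M, mul_inv_eq_iff_eq_mul.2 ?_⟩
  refine Subtype.ext ?_
  show (C : Matrix (Fin n) (Fin n) K) * P * g.1 = h.1 * ((C : Matrix (Fin n) (Fin n) K) * P)
  rw [mul_assoc, hP, ← mul_assoc, hC.eq, mul_assoc]

theorem isConj_gl (g h : GL (Fin n) K)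
    (hg : SS (K := K) (g : Matrix (Fin n) (Fin n) K)) (hh : SS (K := K) (h : Matrix (Fin n) (Fin n) K))
    (hc : (g : Matrix (Fin n) (Fin n) K).charpoly = (h : Matrix (Fin n) (Fin n) K).charpoly) : IsConj g h := by
  obtain ⟨P, hP⟩ := exists_similar g.1 h.1 hg hh hc
  refine isConj_iff.2 ⟨P, ?_⟩
  rw [mul_inv_eq_iff_eq_mul]
  exact Units.ext hP

theorem card_monic [Fintype K] (T : Set K) (n : ℕ) (hn : 1 ≤ n) :
    Nat.card {P : K[X] // (P.Monic ∧ P.natDegree = n) ∧ P.coeff 0 ∈ T} =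
      Nat.card T * Fintype.card K ^ (n - 1) := by
  obtain ⟨m, rfl⟩ : ∃ m, n = m + 1 := ⟨n - 1, by omega⟩
  have e1 : {P : K[X] // (P.Monic ∧ P.natDegree = m + 1) ∧ P.coeff 0 ∈ T} ≃
      {f : Fin (m + 1) → K // f 0 ∈ T} :=
    ((Equiv.subtypeSubtypeEquivSubtypeInter (fun P : K[X] => P.Monic ∧ P.natDegree = m + 1)
      (fun P => P.coeff 0 ∈ T)).symm).trans
    (((monicEquivDegreeLT (m + 1)).trans (degreeLTEquiv K (m + 1)).toEquiv).subtypeEquiv fun P => by
      show P.1.coeff 0 ∈ T ↔ (P.1.eraseLead).coeff ((0 : Fin (m + 1)) : ℕ) ∈ T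
      rw [Fin.val_zero, eraseLead_coeff_of_ne _ (by rw [P.2.2]; omega)])
  have e2 : {f : Fin (m + 1) → K // f 0 ∈ T} ≃ T × (Fin m → K) :=
    ((Fin.consEquiv (fun _ => K)).symm.subtypeEquiv (q := fun x : K × (Fin m → K) => x.1 ∈ T) fun f => Iff.rfl).trans
      { toFun := fun x => (⟨x.1.1, x.2⟩, x.1.2)
        invFun := fun x => ⟨(x.1.1, x.2), x.1.2⟩
        left_inv := fun x => rfl
        right_inv := fun x => rfl }
  rw [Nat.card_congr (e1.trans e2), Nat.card_prod, Nat.card_fun]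
  simp

/-- Classes with a representative satisfying `Q` correspond to the values of a complete invariant. -/
theorem card_classes {G : Type*} [Group G] {β : Type*} (Q : G → Prop) (T : β → Prop) (χ : G → β)
    (hinv : ∀ g h, IsConj g h → χ g = χ h) (hT : ∀ g, Q g → T (χ g))
    (hinj : ∀ g h, Q g → Q h → χ g = χ h → IsConj g h) (hsurj : ∀ b, T b → ∃ g, Q g ∧ χ g = b) :
    Nat.card {c : ConjClasses G // ∃ g : G, ConjClasses.mk g = c ∧ Q g} = Nat.card {b : β // T b} := by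
  refine Nat.card_congr (Equiv.ofBijective (fun c => ⟨χ c.2.choose, hT _ c.2.choose_spec.2⟩) ⟨?_, ?_⟩)
  · intro c d hcd
    apply Subtype.ext
    rw [← c.2.choose_spec.1, ← d.2.choose_spec.1, ConjClasses.mk_eq_mk_iff_isConj]
    exact hinj _ _ c.2.choose_spec.2 d.2.choose_spec.2 (congrArg Subtype.val hcd)
  · rintro ⟨b, hb⟩
    obtain ⟨g, hg, rfl⟩ := hsurj b hb
    refine ⟨⟨ConjClasses.mk g, g, rfl, hg⟩, Subtype.ext ?_⟩
    refine hinv _ _ (ConjClasses.mk_eq_mk_iff_isConj.1 ?_)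
    exact (⟨g, rfl, hg⟩ : ∃ g', ConjClasses.mk g' = ConjClasses.mk g ∧ Q g').choose_spec.1

theorem charpoly_eq_of_isConj {G : Type*} [Group G] (φ : G →* Matrix (Fin n) (Fin n) K) (g h : G)
    (hc : IsConj g h) : (φ g).charpoly = (φ h).charpoly := by
  obtain ⟨c, rfl⟩ := isConj_iff.1 hc
  rw [map_mul, map_mul]
  obtain ⟨u, hu⟩ := (Group.isUnit c).map φ
  have hi : φ c⁻¹ = ((u⁻¹ : (Matrix (Fin n) (Fin n) K)ˣ) : Matrix (Fin n) (Fin n) K) := by
    refine left_inv_eq_right_inv (a := φ c) ?_ ?_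
    · rw [← map_mul, inv_mul_cancel, map_one]
    · rw [← hu, Units.mul_inv]
  rw [hi, ← hu, Matrix.coe_units_inv, Matrix.charpoly_units_conj]

end Cfsg.Agent.Semisimple
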