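/-
Endomorphisms of prime order `r` prime to the characteristic over a finite field: the multiplicities of the
Frobenius orbits of `r`-th roots of unity as a complete invariant, realisations, and counting of tuples.
-/
import Mathlib
import Cfsg.Agent.Lib.Semisimple.Basic
import Cfsg.Agent.Lib.Semisimple.Classes

set_option autoImplicit false
set_option linter.unusedSectionVars false

open Polynomial Module

namespace Cfsg.Agent.Semisimple

theorem intertwine_pow {R V V' : Type*} [CommSemiring R] [AddCommMonoid V] [Module R V] [AddCommMonoid V']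
    [Module R V'] (f : End R V) (f' : End R V') (e : V ≃ₗ[R] V') (h : ∀ x, e (f x) = f' (e x)) (k : ℕ) (x : V) :
    e ((f ^ k) x) = (f' ^ k) (e x) := by
  induction k generalizing x with
  | zero => simp
  | succ k ih => rw [pow_succ', pow_succ', Module.End.mul_apply, Module.End.mul_apply, h, ih]

section Count

/-- Tuples with bounded sum. -/
theorem card_sum_le (ι : Type*) [Fintype ι] (M : ℕ) :
    Nat.card {a : ι → ℕ // ∑ c, a c ≤ M} = (M + Fintype.card ι).choose (Fintype.card ι) := by
  classical
  let e : {a : ι → ℕ // ∑ c, a c ≤ M} ≃ {P : Option ι → ℕ // ∑ c, P c = M} :=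
    { toFun := fun a => ⟨fun o => o.elim (M - ∑ c, a.1 c) a.1, by
        rw [Fintype.sum_option]
        exact Nat.sub_add_cancel a.2⟩
      invFun := fun P => ⟨fun c => P.1 (some c), by
        have h : P.1 none + ∑ c, P.1 (some c) = M := (Fintype.sum_option P.1).symm.trans P.2
        show ∑ c, P.1 (some c) ≤ M
        omega⟩
      left_inv := fun a => Subtype.ext rfl
      right_inv := fun P => Subtype.ext (funext fun o => by
        have h : P.1 none + ∑ c, P.1 (some c) = M := (Fintype.sum_option P.1).symm.trans P.2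
        cases o with
        | none => show M - ∑ c, P.1 (some c) = P.1 none; omega
        | some c => rfl) }
  rw [Nat.card_congr (e.trans (Sym.equivNatSumOfFintype (Option ι) M).symm), Nat.card_eq_fintype_card,
    Sym.card_sym_eq_multichoose, Nat.multichoose_eq, Fintype.card_option,
    show Fintype.card ι + 1 + M - 1 = M + Fintype.card ι by omega, Nat.choose_symm_add]

theorem finite_sum_le (ι : Type*) [Fintype ι] (M : ℕ) : Finite {a : ι → ℕ // ∑ c, a c ≤ M} :=
  Nat.finite_of_card_ne_zero (by rw [card_sum_le]; exact (Nat.choose_pos (Nat.le_add_left _ _)).ne')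

/-- Remove the zero tuple. -/
theorem card_nonzero (ι : Type*) (p : (ι → ℕ) → Prop) (h0 : p 0) [Finite {a : ι → ℕ // p a}] :
    Nat.card {a : ι → ℕ // p a ∧ a ≠ 0} = Nat.card {a : ι → ℕ // p a} - 1 := by
  classical
  have := Fintype.ofFinite {a : ι → ℕ // p a}
  rw [← Nat.card_congr (Equiv.subtypeSubtypeEquivSubtypeInter p fun a => a ≠ 0), Nat.card_eq_fintype_card,
    Nat.card_eq_fintype_card, Fintype.card_congr
      (Equiv.subtypeEquivRight (q := fun x : {a : ι → ℕ // p a} => ¬x = ⟨0, h0⟩) fun x => by simp [Subtype.ext_iff]),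
    Fintype.card_subtype_compl, Fintype.card_subtype_eq]

end Count

variable {F : Type*} [Field F] [Fintype F] {r : ℕ} [Fact r.Prime] {K : Type} [Field K] [Algebra F K] [Finite K]
  {ζ : K}

/-- A degree `ord_r |F|` extension with a primitive `r`-th root of unity. -/
structure RootField (F : Type*) [Field F] [Fintype F] (r : ℕ) (K : Type) [Field K] [Algebra F K] (ζ : K) :
    Prop where
  prim : IsPrimitiveRoot ζ r
  deg : finrank F K = orderOf (Fintype.card F : ZMod r)
  unit : (r : F) ≠ 0

theorem exists_rootField (p : ℕ) [Fact p.Prime] [CharP F p] (hrp : r ≠ p) :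
    ∃ (K : Type) (_ : Field K) (_ : Algebra F K) (_ : Finite K) (ζ : K), RootField F r K ζ := by
  classical
  set i := orderOf (Fintype.card F : ZMod r) with hi
  have hr := (Fact.out : r.Prime)
  have hQ : (Fintype.card F : ZMod r) ≠ 0 := by
    intro h
    rw [ZMod.natCast_eq_zero_iff] at h
    obtain ⟨n, hp, hn⟩ := FiniteField.card F p
    rw [hn] at h
    exact hrp ((Nat.prime_dvd_prime_iff_eq hr hp).1 (hr.dvd_of_dvd_pow h))
  have hi0 : 0 < i := orderOf_pos_iff.2 (IsUnit.isOfFinOrder (Ne.isUnit hQ))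
  have : NeZero i := ⟨hi0.ne'⟩
  have hr0 : (r : F) ≠ 0 := by
    rw [Ne, CharP.cast_eq_zero_iff F p, Nat.prime_dvd_prime_iff_eq Fact.out hr]
    exact hrp.symm
  let K := FiniteField.Extension F p i
  have hcard : Nat.card K = Fintype.card F ^ i := by
    rw [FiniteField.natCard_extension, Nat.card_eq_fintype_card]
  have hdeg : finrank F K = i := by
    have h := Module.natCard_eq_pow_finrank (K := F) (V := K)
    rw [hcard, Nat.card_eq_fintype_card] at h
    exact (Nat.pow_right_injective Fintype.one_lt_card h).symm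
  have hdvd : r ∣ Nat.card Kˣ := by
    rw [Nat.card_units, hcard, ← ZMod.natCast_eq_zero_iff, Nat.cast_sub (Nat.one_le_pow _ _ Fintype.card_pos),
      Nat.cast_pow, hi, pow_orderOf_eq_one, Nat.cast_one, sub_self]
  obtain ⟨u, hu⟩ := exists_prime_orderOf_dvd_card' r hdvd
  exact ⟨K, inferInstance, inferInstance, inferInstance, (u : K),
    ⟨IsPrimitiveRoot.coe_units_iff.2 (hu ▸ IsPrimitiveRoot.orderOf u), hdeg, hr0⟩⟩

/-- `ζ^u`. -/
def ev (ζ : K) (u : ZMod r) : K := ζ ^ u.val

/-- The multiplicity of `ζ^u` as a root. -/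
noncomputable def mult (ζ : K) (P : F[X]) (u : ZMod r) : ℕ :=
  (P.map (algebraMap F K)).rootMultiplicity (ev ζ u)

namespace RootField

variable (hK : RootField F r K ζ)
include hK

theorem ev_natCast (n : ℕ) : ev ζ (n : ZMod r) = ζ ^ n := by
  rw [ev, ZMod.val_natCast]
  exact (pow_eq_pow_mod n hK.prim.pow_eq_one).symm

theorem ev_mul_natCast (u : ZMod r) (n : ℕ) : ev ζ (u * (n : ZMod r)) = ev ζ u ^ n := by
  rw [show u * (n : ZMod r) = ((u.val * n : ℕ) : ZMod r) by simp, hK.ev_natCast, pow_mul]
  rfl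

theorem ev_injective : Function.Injective (ev ζ : ZMod r → K) := fun u v h =>
  ZMod.val_injective r (hK.prim.pow_inj (ZMod.val_lt u) (ZMod.val_lt v) h)

theorem ev_pow (u : ZMod r) : ev ζ u ^ r = 1 := by
  rw [ev, ← pow_mul, mul_comm, pow_mul, hK.prim.pow_eq_one, one_pow]

theorem exists_ev {x : K} (hx : x ^ r = 1) : ∃ u : ZMod r, ev ζ u = x := by
  obtain ⟨j, hj, rfl⟩ := hK.prim.eq_pow_of_pow_eq_one hx
  exact ⟨j, hK.ev_natCast j⟩

theorem mult_frob (P : F[X]) (u : ZMod r) : mult ζ P (u * (Fintype.card F : ZMod r)) = mult ζ P u := by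
  rw [mult, hK.ev_mul_natCast]
  conv_rhs => rw [mult, eq_rootMultiplicity_map (f := (FiniteField.frobeniusAlgHom F K).toRingHom)
    (FiniteField.frobeniusAlgHom F K).injective]
  rw [Polynomial.map_map, show (FiniteField.frobeniusAlgHom F K).toRingHom.comp (algebraMap F K) = algebraMap F K from
    RingHom.ext fun x => (FiniteField.frobeniusAlgHom F K).commutes x]
  rfl

theorem mult_mul {P P' : F[X]} (hP : P.Monic) (hP' : P'.Monic) (u : ZMod r) :
    mult ζ (P * P') u = mult ζ P u + mult ζ P' u := by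
  rw [mult, mult, mult, Polynomial.map_mul, rootMultiplicity_mul (mul_ne_zero (hP.map _).ne_zero (hP'.map _).ne_zero)]

variable {V : Type*} [AddCommGroup V] [Module F V] [FiniteDimensional F V]

theorem charpoly_roots (f : End F V) (hf : f ^ r = 1) :
    (f.charpoly.map (algebraMap F K)).Splits ∧
      ∀ x ∈ (f.charpoly.map (algebraMap F K)).roots, x ^ r = 1 := by
  classical
  have hr := (Fact.out : r.Prime)
  have hX : (X ^ r - 1 : K[X]).Splits := by
    have h := X_pow_sub_C_splits_of_isPrimitiveRoot hK.prim (a := (1 : K)) (α := 1) (one_pow r)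
    rwa [map_one] at h
  have hne : (X ^ r - 1 : K[X]) ≠ 0 := by
    rw [← map_one C]; exact X_pow_sub_C_ne_zero hr.pos 1
  suffices h : ∀ (n : ℕ) (P : F[X]), P.Monic → P.natDegree = n →
      (∀ g : F[X], Irreducible g → g ∣ P → g ∣ X ^ r - 1) →
      (P.map (algebraMap F K)).Splits ∧ ∀ x ∈ (P.map (algebraMap F K)).roots, x ^ r = 1 by
    refine h _ _ (LinearMap.charpoly_monic f) rfl fun g hg hgd => ?_
    obtain ⟨v, hv0, hv⟩ := exists_vec_of_dvd f hg hgd
    by_contra hnd
    obtain ⟨a, b, hab⟩ := hg.coprime_iff_not_dvd.2 hnd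
    apply hv0
    have h1 := congrArg (fun P : F[X] => aeval f P v) hab
    simpa [Module.End.mul_apply, hv, hf] using h1.symm
  intro n
  induction n using Nat.strong_induction_on with
  | _ n ih =>
    intro P hP hn hdiv
    by_cases hu : IsUnit P
    · rw [hP.eq_one_of_isUnit hu]
      simp
    obtain ⟨g, hgm, hg, c, rfl⟩ := Polynomial.exists_monic_irreducible_factor P hu
    have hcm : c.Monic := hgm.of_mul_monic_left hP
    have hdeg : n = g.natDegree + c.natDegree := by rw [← hn, natDegree_mul hgm.ne_zero hcm.ne_zero]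
    obtain ⟨h1, h2⟩ := ih c.natDegree (by have := hg.natDegree_pos; omega) c hcm rfl
      fun g' hg' hd => hdiv g' hg' (hd.mul_left g)
    have hgd : g.map (algebraMap F K) ∣ X ^ r - 1 := by
      have := Polynomial.map_dvd (algebraMap F K) (hdiv g hg (dvd_mul_right g c))
      simpa using this
    refine ⟨?_, fun x hx => ?_⟩
    · rw [Polynomial.map_mul]
      exact (Splits.of_dvd hX hne hgd).mul h1
    · rw [Polynomial.map_mul, roots_mul (mul_ne_zero (hgm.map _).ne_zero (hcm.map _).ne_zero),
        Multiset.mem_add] at hx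
      rcases hx with hx | hx
      · have := roots.le_of_dvd hne hgd
        have hx' := Multiset.mem_of_le this hx
        rw [mem_roots hne, IsRoot.def, eval_sub, eval_pow, eval_X, eval_one, sub_eq_zero] at hx'
        exact hx'
      · exact h2 x hx

/-- The multiplicities at the non-trivial roots determine the characteristic polynomial. -/
theorem charpoly_eq_of_mult {V' : Type*} [AddCommGroup V'] [Module F V'] [FiniteDimensional F V']
    (f : End F V) (f' : End F V') (hf : f ^ r = 1) (hf' : f' ^ r = 1) (hdim : finrank F V = finrank F V')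
    (h : ∀ u : ZMod r, u ≠ 0 → mult ζ f.charpoly u = mult ζ f'.charpoly u) : f.charpoly = f'.charpoly := by
  classical
  obtain ⟨h1, h2⟩ := hK.charpoly_roots f hf
  obtain ⟨h1', h2'⟩ := hK.charpoly_roots f' hf'
  apply Polynomial.map_injective _ (algebraMap F K).injective
  rw [h1.eq_prod_roots_of_monic ((LinearMap.charpoly_monic f).map _),
    h1'.eq_prod_roots_of_monic ((LinearMap.charpoly_monic f').map _)]
  set R := (f.charpoly.map (algebraMap F K)).roots with hR
  set R' := (f'.charpoly.map (algebraMap F K)).roots with hR'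
  have hne : ∀ x, x ≠ 1 → R.count x = R'.count x := by
    intro x hx
    by_cases hxr : x ^ r = 1
    · obtain ⟨u, rfl⟩ := hK.exists_ev hxr
      rw [hR, hR', count_roots, count_roots]
      exact h u fun h0 => hx (by rw [h0, ev, ZMod.val_zero, pow_zero])
    · rw [Multiset.count_eq_zero.2 fun h => hxr (h2 x h), Multiset.count_eq_zero.2 fun h => hxr (h2' x h)]
  have hcard : R.card = R'.card := by
    rw [hR, hR', ← h1.natDegree_eq_card_roots, ← h1'.natDegree_eq_card_roots, natDegree_map, natDegree_map,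
      f.charpoly_natDegree, f'.charpoly_natDegree, hdim]
  have hfilter : R.filter (fun x => ¬1 = x) = R'.filter (fun x => ¬1 = x) := Multiset.ext.2 fun x => by
    rw [Multiset.count_filter, Multiset.count_filter]
    by_cases hx : 1 = x
    · rw [if_neg (not_not.2 hx), if_neg (not_not.2 hx)]
    · rw [if_pos hx, if_pos hx, hne x (Ne.symm hx)]
  have hsplit : ∀ S : Multiset K, S.card = S.count 1 + (S.filter (fun x => ¬1 = x)).card := fun S => by
    rw [Multiset.count, Multiset.countP_eq_card_filter, ← Multiset.card_add, Multiset.filter_add_not]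
  have hRR : R = R' := Multiset.ext.2 fun x => by
    by_cases hx : x = 1
    · subst hx
      have h3 := hsplit R
      rw [hfilter, hcard, hsplit R'] at h3
      omega
    · exact hne x hx
  rw [hRR]

theorem ss_of_pow (f : End F V) (hf : f ^ r = 1) : SS (K := F) f :=
  ⟨X ^ r - C 1, (separable_X_pow_sub_C 1 hK.unit one_ne_zero).squarefree, by simp [hf]⟩

open scoped Classical in
/-- `u` and `v` lie in one Frobenius orbit. -/
theorem mult_mulBlock (u v : (ZMod r)ˣ) :
    mult ζ (Algebra.lmul F K (ev ζ (u : ZMod r))).charpoly (v : ZMod r) =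
      if (∃ j : ℕ, (v : ZMod r) = u * (Fintype.card F : ZMod r) ^ j) then 1 else 0 := by
  classical
  set Q := (Fintype.card F : ZMod r)
  set i := orderOf Q with hi
  set f := Algebra.lmul F K (ev ζ (u : ZMod r))
  set P := f.charpoly.map (algebraMap F K)
  have hP0 : P ≠ 0 := ((LinearMap.charpoly_monic f).map _).ne_zero
  have hdeg : P.natDegree = i := by rw [natDegree_map, f.charpoly_natDegree, hK.deg]
  have hroot : ∀ j : ℕ, ev ζ ((u : ZMod r) * Q ^ j) ∈ P.roots := by
    intro j
    rw [mem_roots hP0, IsRoot.def]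
    induction j with
    | zero =>
      rw [pow_zero, mul_one, eval_map_algebraMap]
      exact Algebra.aeval_self_charpoly_lmul _
    | succ j ih =>
      rw [pow_succ, ← mul_assoc, hK.ev_mul_natCast, eval_map_algebraMap,
        show ev ζ ((u : ZMod r) * Q ^ j) ^ Fintype.card F =
          FiniteField.frobeniusAlgHom F K (ev ζ ((u : ZMod r) * Q ^ j)) from rfl,
        aeval_algHom_apply, ← eval_map_algebraMap, ih, map_zero]
  let S : Finset K := (Finset.range i).image fun j => ev ζ ((u : ZMod r) * Q ^ j)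
  have hinj : Set.InjOn (fun j => ev ζ ((u : ZMod r) * Q ^ j)) (Finset.range i : Set ℕ) := by
    intro a ha b hb hab
    exact pow_injOn_Iio_orderOf (Finset.mem_range.1 ha) (Finset.mem_range.1 hb)
      (mul_left_cancel₀ u.ne_zero (hK.ev_injective hab))
  have hle : S.1 ≤ P.roots := (Multiset.le_iff_subset S.nodup).2 fun x hx => by
    obtain ⟨j, -, rfl⟩ := Finset.mem_image.1 (show x ∈ S from hx)
    exact hroot j
  have heq : S.1 = P.roots := Multiset.eq_of_le_of_card_le hle (by
    rw [← Finset.card_def, Finset.card_image_of_injOn hinj, Finset.card_range, ← hdeg]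
    exact card_roots' P)
  show P.rootMultiplicity (ev ζ (v : ZMod r)) = _
  rw [← count_roots, ← heq, Multiset.count_eq_of_nodup S.nodup]
  refine if_congr ?_ rfl rfl
  rw [Finset.mem_val, Finset.mem_image]
  constructor
  · rintro ⟨j, -, hj⟩
    exact ⟨j, (hK.ev_injective hj).symm⟩
  · rintro ⟨j, hj⟩
    have hpos : 0 < i := by
      rw [hi, ← hK.deg]
      exact Module.finrank_pos
    exact ⟨j % i, Finset.mem_range.2 (Nat.mod_lt _ hpos), by rw [hj, hi, pow_mod_orderOf]⟩

theorem pow_mulBlock (u : ZMod r) : Algebra.lmul F K (ev ζ u) ^ r = 1 := by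
  rw [← map_pow, hK.ev_pow, map_one]

end RootField

/-- The Frobenius element. -/
noncomputable def frobUnit (F : Type*) [Fintype F] (r : ℕ) [Fact r.Prime] : (ZMod r)ˣ :=
  if h : (Fintype.card F : ZMod r) = 0 then 1 else Units.mk0 _ h

/-- Frobenius orbits of non-trivial `r`-th roots of unity. -/
abbrev Orb (F : Type*) [Fintype F] (r : ℕ) [Fact r.Prime] : Type :=
  (ZMod r)ˣ ⧸ Subgroup.zpowers (frobUnit F r)

noncomputable instance (F : Type*) [Fintype F] (r : ℕ) [Fact r.Prime] : Fintype (Orb F r) := Fintype.ofFinite _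

noncomputable instance (F : Type*) [Fintype F] (r : ℕ) [Fact r.Prime] : DecidableEq (Orb F r) := Classical.decEq _

namespace RootField

variable (hK : RootField F r K ζ)
include hK

theorem card_ne_zero : (Fintype.card F : ZMod r) ≠ 0 := fun h => by
  have hpos : 0 < finrank F K := Module.finrank_pos
  rw [hK.deg, h] at hpos
  exact (orderOf_pos_iff.1 hpos).isUnit.ne_zero rfl

theorem val_frobUnit : (frobUnit F r : ZMod r) = (Fintype.card F : ZMod r) := by
  rw [frobUnit, dif_neg hK.card_ne_zero, Units.val_mk0]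

theorem orbit_iff (u v : (ZMod r)ˣ) :
    ((u : Orb F r) = (v : Orb F r)) ↔ ∃ j : ℕ, (v : ZMod r) = u * (Fintype.card F : ZMod r) ^ j := by
  rw [QuotientGroup.eq, mem_zpowers_iff_mem_range_orderOf, Finset.mem_image]
  constructor
  · rintro ⟨j, -, hj⟩
    refine ⟨j, ?_⟩
    rw [← hK.val_frobUnit, ← Units.val_pow_eq_pow_val, ← Units.val_mul, hj, mul_inv_cancel_left]
  · rintro ⟨j, hj⟩
    refine ⟨j % orderOf (frobUnit F r), Finset.mem_range.2 (Nat.mod_lt _ (orderOf_pos _)), ?_⟩
    rw [pow_mod_orderOf, eq_inv_mul_iff_mul_eq]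
    exact Units.ext (by rw [hj, Units.val_mul, Units.val_pow_eq_pow_val, hK.val_frobUnit])

theorem card_orb {t : ℕ} (ht : t * orderOf (Fintype.card F : ZMod r) = r - 1) :
    Fintype.card (Orb F r) = t := by
  have hord : orderOf (frobUnit F r) = orderOf (Fintype.card F : ZMod r) := by
    rw [← orderOf_units, hK.val_frobUnit]
  have h := Subgroup.card_eq_card_quotient_mul_card_subgroup (Subgroup.zpowers (frobUnit F r))
  rw [Nat.card_eq_fintype_card, ZMod.card_units_eq_totient, Nat.totient_prime Fact.out, Nat.card_zpowers, hord,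
    ← ht, Nat.card_eq_fintype_card] at h
  exact (Nat.eq_of_mul_eq_mul_right (by rw [← hord]; exact orderOf_pos _) h).symm

theorem mult_eq_of_orbit (P : F[X]) (u v : (ZMod r)ˣ) (h : (u : Orb F r) = (v : Orb F r)) :
    mult ζ P (v : ZMod r) = mult ζ P (u : ZMod r) := by
  obtain ⟨j, hj⟩ := (hK.orbit_iff u v).1 h
  rw [hj]
  clear hj
  induction j with
  | zero => rw [pow_zero, mul_one]
  | succ j ih => rw [pow_succ, ← mul_assoc, hK.mult_frob, ih]

end RootField

/-- The orbit multiplicities of an endomorphism. -/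
noncomputable def orbMult {V : Type*} [AddCommGroup V] [Module F V] [FiniteDimensional F V] (ζ : K) (f : End F V) :
    Orb F r → ℕ := fun c => mult ζ f.charpoly ((c.out : (ZMod r)ˣ) : ZMod r)

namespace RootField

variable (hK : RootField F r K ζ) {V : Type*} [AddCommGroup V] [Module F V] [FiniteDimensional F V]
include hK

theorem orbMult_mk (f : End F V) (u : (ZMod r)ˣ) :
    orbMult ζ f (u : Orb F r) = mult ζ f.charpoly (u : ZMod r) :=
  hK.mult_eq_of_orbit _ u _ (QuotientGroup.out_eq' _).symm

theorem charpoly_eq_of_orbMult {V' : Type*} [AddCommGroup V'] [Module F V'] [FiniteDimensional F V']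
    (f : End F V) (f' : End F V') (hf : f ^ r = 1) (hf' : f' ^ r = 1) (hdim : finrank F V = finrank F V')
    (h : (orbMult ζ f : Orb F r → ℕ) = orbMult ζ f') : f.charpoly = f'.charpoly := by
  refine hK.charpoly_eq_of_mult f f' hf hf' hdim fun u hu => ?_
  have := congrFun h ((Units.mk0 u hu : (ZMod r)ˣ) : Orb F r)
  rwa [hK.orbMult_mk, hK.orbMult_mk] at this

theorem orbMult_one : (orbMult ζ (1 : End F V) : Orb F r → ℕ) = 0 := by
  funext c
  rw [orbMult, mult, LinearMap.charpoly_one, Polynomial.map_pow, Polynomial.map_sub, map_X, Polynomial.map_one,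
    rootMultiplicity_eq_zero]
  · rfl
  rw [IsRoot.def, eval_pow, eval_sub, eval_X, eval_one]
  refine pow_ne_zero _ (sub_ne_zero.2 fun h => c.out.ne_zero ?_)
  exact hK.ev_injective (h.trans (by rw [ev, ZMod.val_zero, pow_zero]))

theorem orbMult_prodMap {V' : Type*} [AddCommGroup V'] [Module F V'] [FiniteDimensional F V']
    (f : End F V) (f' : End F V') :
    (orbMult ζ (f.prodMap f') : Orb F r → ℕ) = orbMult ζ f + orbMult ζ f' := by
  funext c
  rw [Pi.add_apply, orbMult, orbMult, orbMult, LinearMap.charpoly_prodMap,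
    hK.mult_mul (LinearMap.charpoly_monic f) (LinearMap.charpoly_monic f')]

omit hK in
theorem orbMult_conj {V' : Type*} [AddCommGroup V'] [Module F V'] [FiniteDimensional F V']
    (f : End F V) (e : V ≃ₗ[F] V') : (orbMult ζ (e.conj f) : Orb F r → ℕ) = orbMult ζ f := by
  funext c
  rw [orbMult, orbMult, LinearEquiv.charpoly_conj]

theorem orbMult_mulBlock (u : (ZMod r)ˣ) :
    (orbMult ζ (Algebra.lmul F K (ev ζ (u : ZMod r))) : Orb F r → ℕ) = Pi.single (u : Orb F r) 1 := by
  classical
  funext c
  rw [orbMult, hK.mult_mulBlock, Pi.single_apply]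
  refine if_congr ?_ rfl rfl
  rw [← hK.orbit_iff, QuotientGroup.out_eq', eq_comm]

theorem eq_one_of_orbMult (f : End F V) (hf : f ^ r = 1) (h : (orbMult ζ f : Orb F r → ℕ) = 0) : f = 1 := by
  obtain ⟨e, he⟩ := exists_intertwine (finrank F V) V V f 1 rfl (hK.ss_of_pow f hf) (hK.ss_of_pow 1 (one_pow r))
    (hK.charpoly_eq_of_orbMult f 1 hf (one_pow r) rfl (h.trans hK.orbMult_one.symm))
  exact LinearMap.ext fun x => e.injective (he x)

/-- Realisation of any tuple by a semisimple endomorphism, compatible with powers. -/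
theorem exists_realisation (a : Orb F r → ℕ) :
    ∃ f : End F (Fin (orderOf (Fintype.card F : ZMod r) * ∑ c, a c) → F), f ^ r = 1 ∧
      (orbMult ζ f : Orb F r → ℕ) = a ∧
      ∀ (k : ℕ) (w : (ZMod r)ˣ), (w : ZMod r) = k → ∀ c, orbMult ζ (f ^ k) (c * (w : Orb F r)) = a c := by
  classical
  generalize hn : ∑ c, a c = n
  induction n generalizing a with
  | zero =>
    refine ⟨1, one_pow r, ?_, fun k w _ c => ?_⟩
    · rw [hK.orbMult_one]
      funext c
      exact (Finset.sum_eq_zero_iff.1 hn c (Finset.mem_univ c)).symm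
    · rw [one_pow, hK.orbMult_one]
      exact (Finset.sum_eq_zero_iff.1 hn c (Finset.mem_univ c)).symm
  | succ n ih =>
    obtain ⟨c₀, hc₀⟩ : ∃ c, a c ≠ 0 := by
      by_contra! h
      simp [h] at hn
    let a' : Orb F r → ℕ := a - Pi.single c₀ 1
    have ha : a = a' + Pi.single c₀ 1 := by
      funext c
      by_cases hc : c = c₀
      · subst hc; simp [a']; omega
      · simp [a', hc]
    obtain ⟨f, hf, hfa, hfk⟩ := ih a' (by
      have h1 : ∑ c, a c = ∑ c, a' c + 1 := by
        conv_lhs => rw [ha]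
        simp [Finset.sum_add_distrib]
      omega)
    let u : (ZMod r)ˣ := c₀.out
    let e : ((Fin (orderOf (Fintype.card F : ZMod r) * n) → F) × K) ≃ₗ[F]
        (Fin (orderOf (Fintype.card F : ZMod r) * (n + 1)) → F) := LinearEquiv.ofFinrankEq _ _ (by
      rw [Module.finrank_prod, Module.finrank_fin_fun, Module.finrank_fin_fun, hK.deg, mul_add, mul_one])
    let g : End F ((Fin (orderOf (Fintype.card F : ZMod r) * n) → F) × K) :=
      f.prodMap (Algebra.lmul F K (ev ζ (u : ZMod r)))
    have hgk : ∀ k, g ^ k = (f ^ k).prodMap (Algebra.lmul F K (ev ζ (u : ZMod r) ^ k)) := by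
      intro k
      induction k with
      | zero =>
        rw [pow_zero, pow_zero, pow_zero, map_one]
        exact LinearMap.ext fun x => rfl
      | succ k ih =>
        rw [pow_succ, ih, pow_succ f, pow_succ (ev ζ _), map_mul]
        exact LinearMap.ext fun x => rfl
    have hconj : ∀ k, (e.conj g) ^ k = e.conj (g ^ k) := fun k => (map_pow e.conjRingEquiv g k).symm
    refine ⟨e.conj g, ?_, ?_, fun k w hw c => ?_⟩
    · rw [hconj, hgk, hf, hK.ev_pow, map_one, Module.End.one_eq_id, Module.End.one_eq_id,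
        LinearMap.prodMap_id]
      exact map_one e.conjRingEquiv
    · rw [orbMult_conj, hK.orbMult_prodMap, hfa, hK.orbMult_mulBlock, QuotientGroup.out_eq', ← ha]
    · have hev : ev ζ (u : ZMod r) ^ k = ev ζ ((u * w : (ZMod r)ˣ) : ZMod r) := by
        rw [← hK.ev_mul_natCast, Units.val_mul, hw]
      rw [hconj, orbMult_conj, hgk, hK.orbMult_prodMap, Pi.add_apply, hfk k w hw c, hev, hK.orbMult_mulBlock]
      conv_rhs => rw [ha]
      rw [Pi.add_apply, QuotientGroup.mk_mul, QuotientGroup.out_eq', Pi.single_apply, Pi.single_apply]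
      simp only [mul_left_inj]

theorem orbMult_le (f : End F V) (hf : f ^ r = 1) :
    orderOf (Fintype.card F : ZMod r) * ∑ c, (orbMult ζ f : Orb F r → ℕ) c ≤ finrank F V := by
  classical
  obtain ⟨h1, -⟩ := hK.charpoly_roots f hf
  set R := (f.charpoly.map (algebraMap F K)).roots with hR
  have hcard : R.card = finrank F V := by
    rw [hR, ← h1.natDegree_eq_card_roots, natDegree_map, f.charpoly_natDegree]
  rw [← hcard]
  calc orderOf (Fintype.card F : ZMod r) * ∑ c, (orbMult ζ f : Orb F r → ℕ) c
      = ∑ u : (ZMod r)ˣ, R.count (ev ζ (u : ZMod r)) := by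
        rw [← Finset.sum_fiberwise Finset.univ (fun u : (ZMod r)ˣ => (u : Orb F r))]
        rw [Finset.mul_sum]
        refine Finset.sum_congr rfl fun c _ => ?_
        rw [Finset.sum_congr rfl (g := fun _ => orbMult ζ f c) fun u hu => by
          rw [← (Finset.mem_filter.1 hu).2, hK.orbMult_mk, hR, count_roots]; rfl,
          Finset.sum_const, smul_eq_mul]
        congr 1
        rw [← Fintype.card_subtype, ← hK.val_frobUnit, orderOf_units, ← Nat.card_zpowers,
          ← Nat.card_eq_fintype_card]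
        refine (Nat.card_congr ?_).symm
        refine Equiv.ofBijective (fun u => ⟨c.out⁻¹ * u.1, QuotientGroup.eq.1 ?_⟩) ⟨?_, ?_⟩
        · rw [QuotientGroup.out_eq', u.2]
        · exact fun a b h => Subtype.ext (mul_left_cancel (congrArg Subtype.val h))
        · rintro ⟨w, hw⟩
          refine ⟨⟨c.out * w, ?_⟩, Subtype.ext (inv_mul_cancel_left _ _)⟩
          rw [QuotientGroup.mk_mul, QuotientGroup.out_eq', (QuotientGroup.eq_one_iff w).2 hw, mul_one]
    _ ≤ R.card := by
        rw [← Finset.sum_image (f := fun x => R.count x) fun a _ b _ h => Units.ext (hK.ev_injective h)]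
        calc ∑ x ∈ Finset.image (fun u : (ZMod r)ˣ => ev ζ (u : ZMod r)) Finset.univ, R.count x
            ≤ ∑ x ∈ Finset.image (fun u : (ZMod r)ˣ => ev ζ (u : ZMod r)) Finset.univ ∪ R.toFinset, R.count x :=
              Finset.sum_le_sum_of_subset Finset.subset_union_left
          _ = R.card := (Multiset.sum_count_eq_card fun x hx => Finset.mem_union_right _
              (Multiset.mem_toFinset.2 hx))

/-- Powers permute the multiplicities. -/
theorem orbMult_pow (f : End F V) (hf : f ^ r = 1) (k : ℕ) (w : (ZMod r)ˣ) (hw : (w : ZMod r) = k)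
    (c : Orb F r) : orbMult ζ (f ^ k) (c * (w : Orb F r)) = orbMult ζ f c := by
  set a : Orb F r → ℕ := orbMult ζ f
  obtain ⟨f₀, hf₀, hf₀a, hf₀k⟩ := hK.exists_realisation a
  set d := finrank F V - orderOf (Fintype.card F : ZMod r) * ∑ c, a c with hd
  have hle : orderOf (Fintype.card F : ZMod r) * ∑ c, a c ≤ finrank F V := hK.orbMult_le f hf
  let e : ((Fin (orderOf (Fintype.card F : ZMod r) * ∑ c, a c) → F) × (Fin d → F)) ≃ₗ[F] V :=
    LinearEquiv.ofFinrankEq _ _ (by rw [Module.finrank_prod, Module.finrank_fin_fun, Module.finrank_fin_fun]; omega)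
  let g : End F V := e.conj (f₀.prodMap 1)
  have hgk : ∀ k, g ^ k = e.conj ((f₀ ^ k).prodMap 1) := fun k => by
    show (e.conjRingEquiv (f₀.prodMap 1)) ^ k = e.conjRingEquiv ((f₀ ^ k).prodMap 1)
    rw [← map_pow]
    congr 1
    induction k with
    | zero => exact LinearMap.ext fun x => rfl
    | succ k ih =>
      rw [pow_succ, ih, pow_succ f₀]
      exact LinearMap.ext fun x => rfl
  have hg : g ^ r = 1 := by
    rw [hgk, hf₀, Module.End.one_eq_id, Module.End.one_eq_id, LinearMap.prodMap_id]
    exact map_one e.conjRingEquiv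
  have hga : (orbMult ζ g : Orb F r → ℕ) = a := by
    rw [orbMult_conj, hK.orbMult_prodMap, hK.orbMult_one, add_zero, hf₀a]
  obtain ⟨T, hT⟩ := exists_intertwine (finrank F V) V V f g rfl (hK.ss_of_pow f hf) (hK.ss_of_pow g hg)
    (hK.charpoly_eq_of_orbMult f g hf hg rfl hga.symm)
  have h1 : T.conj (f ^ k) = g ^ k := LinearMap.ext fun y => by
    rw [LinearEquiv.conj_apply_apply, intertwine_pow f g T hT k, LinearEquiv.apply_symm_apply]
  rw [← orbMult_conj (f ^ k) T, h1, hgk, orbMult_conj, hK.orbMult_prodMap, Pi.add_apply, hK.orbMult_one,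
    Pi.zero_apply, add_zero, hf₀k k w hw c]

/-- Classes of elements of order `r` correspond to admissible non-zero tuples. -/
theorem card_prime_order_classes {G : Type*} [Group G] (φ : G →* End F V) (hφ : Function.Injective φ)
    (T : (Orb F r → ℕ) → Prop) (hT : ∀ g : G, g ^ r = 1 → T (orbMult ζ (φ g)))
    (hconj : ∀ g h : G, g ^ r = 1 → h ^ r = 1 → (φ g).charpoly = (φ h).charpoly → IsConj g h)
    (hsurj : ∀ a, T a → a ≠ 0 → ∃ g : G, g ^ r = 1 ∧ orbMult ζ (φ g) = a) :
    Nat.card {C : ConjClasses G // ∃ g : G, ConjClasses.mk g = C ∧ orderOf g = r} =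
      Nat.card {a : Orb F r → ℕ // T a ∧ a ≠ 0} := by
  have hr := (Fact.out : r.Prime)
  have hpow : ∀ g : G, orderOf g = r → g ^ r = 1 := fun g hg => hg ▸ pow_orderOf_eq_one g
  have hpowφ : ∀ g : G, g ^ r = 1 → φ g ^ r = 1 := fun g hg => by rw [← map_pow, hg, map_one]
  refine card_classes (fun g => orderOf g = r) (fun a => T a ∧ a ≠ 0) (fun g => orbMult ζ (φ g))
    (fun g h hgh => ?_) (fun g hg => ⟨hT g (hpow g hg), fun h0 => ?_⟩)
    (fun g h hg hh heq => hconj g h (hpow g hg) (hpow h hh)
      (hK.charpoly_eq_of_orbMult _ _ (hpowφ g (hpow g hg)) (hpowφ h (hpow h hh)) rfl heq))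
    (fun a ⟨ha, ha0⟩ => ?_)
  · obtain ⟨c, rfl⟩ := isConj_iff.1 hgh
    let e : V ≃ₗ[F] V := LinearEquiv.ofLinear (φ c) (φ c⁻¹)
      (by rw [← Module.End.mul_eq_comp, ← map_mul, mul_inv_cancel, map_one]; rfl)
      (by rw [← Module.End.mul_eq_comp, ← map_mul, inv_mul_cancel, map_one]; rfl)
    rw [← orbMult_conj (φ g) e]
    congr 1
    rw [map_mul, map_mul]
    rfl
  · have h1 : g = 1 := hφ ((hK.eq_one_of_orbMult _ (hpowφ g (hpow g hg)) h0).trans (map_one φ).symm)
    rw [h1, orderOf_one] at hg
    exact hr.one_lt.ne hg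
  · obtain ⟨g, hg, hga⟩ := hsurj a ha ha0
    refine ⟨g, orderOf_eq_prime hg fun h1 => ha0 ?_, hga⟩
    rw [← hga, h1, map_one, hK.orbMult_one]

end RootField

end Cfsg.Agent.Semisimple
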