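/-
Elements of prime order in classical groups, combinatorial side: the inversion on Frobenius orbits, symmetric
tuples and their number, the symmetry forced by an invariant form, and the split case `diag(A, A⁻ᵀ)`.
-/
import Mathlib
import Cfsg.Agent.Lib.Semisimple.PrimeOrder

set_option autoImplicit false
set_option linter.unusedSectionVars false

open Polynomial Module
open scoped Matrix

namespace Cfsg.Agent.Semisimple

section Symmetric

variable {G : Type*} [CommGroup G] [Fintype G]

/-- Tuples invariant under translation by an involution, with bounded sum. -/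
theorem card_symm_le (w : G) (hw : w * w = 1) (hw1 : w ≠ 1) (M : ℕ) :
    Nat.card {a : G → ℕ // (∀ c, a (c * w) = a c) ∧ ∑ c, a c ≤ M} =
      (M / 2 + Fintype.card G / 2).choose (Fintype.card G / 2) := by
  classical
  set H := Subgroup.zpowers w
  have hH : Nat.card H = 2 := by
    rw [Nat.card_zpowers]
    exact orderOf_eq_prime (by rw [pow_two, hw]) hw1
  have : Fintype (G ⧸ H) := Fintype.ofFinite _
  have hcard : Fintype.card G / 2 = Fintype.card (G ⧸ H) := by
    rw [← Nat.card_eq_fintype_card, Subgroup.card_eq_card_quotient_mul_card_subgroup H, hH,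
      Nat.mul_div_cancel _ two_pos, Nat.card_eq_fintype_card]
  have hmem : ∀ {x : G}, x ∈ H → x = 1 ∨ x = w := fun {x} hx => by
    obtain ⟨n, rfl⟩ := Subgroup.mem_zpowers_iff.1 hx
    have hw2 : orderOf w = 2 := orderOf_eq_prime (by rw [pow_two, hw]) hw1
    rw [← zpow_mod_orderOf, hw2]
    rcases Int.emod_two_eq_zero_or_one n with h | h <;> simp [h]
  have hsum : ∀ b : G ⧸ H → ℕ, ∑ c : G, b (c : G ⧸ H) = 2 * ∑ d, b d := by
    intro b
    rw [← Finset.sum_fiberwise Finset.univ (fun c : G => (c : G ⧸ H)), Finset.mul_sum]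
    refine Finset.sum_congr rfl fun d _ => ?_
    rw [Finset.sum_congr rfl (g := fun _ => b d) fun c hc => by rw [(Finset.mem_filter.1 hc).2],
      Finset.sum_const, smul_eq_mul]
    congr 1
    rw [← Fintype.card_subtype, ← hH, ← Nat.card_eq_fintype_card]
    refine Nat.card_congr (Equiv.ofBijective (fun c => ⟨d.out⁻¹ * c.1, QuotientGroup.eq.1 ?_⟩) ⟨?_, ?_⟩)
    · rw [QuotientGroup.out_eq', c.2]
    · exact fun a b h => Subtype.ext (mul_left_cancel (congrArg Subtype.val h))
    · rintro ⟨x, hx⟩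
      refine ⟨⟨d.out * x, ?_⟩, Subtype.ext (inv_mul_cancel_left _ _)⟩
      rw [QuotientGroup.mk_mul, QuotientGroup.out_eq', (QuotientGroup.eq_one_iff x).2 hx, mul_one]
  have hfac : ∀ a : G → ℕ, (∀ c, a (c * w) = a c) → ∀ c : G, a ((c : G ⧸ H).out) = a c := by
    intro a ha c
    obtain ⟨h, hh⟩ := QuotientGroup.mk_out_eq_mul H c
    rw [hh]
    rcases hmem h.2 with h1 | h1 <;> rw [h1]
    · rw [mul_one]
    · rw [ha]
  let e : {a : G → ℕ // (∀ c, a (c * w) = a c) ∧ ∑ c, a c ≤ M} ≃ {b : G ⧸ H → ℕ // ∑ d, b d ≤ M / 2} :=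
    { toFun := fun a => ⟨fun d => a.1 d.out, by
        have h := hsum fun d => a.1 d.out
        simp only [hfac a.1 a.2.1] at h
        have := a.2.2
        show ∑ d : G ⧸ H, a.1 d.out ≤ M / 2
        omega⟩
      invFun := fun b => ⟨fun c => b.1 (c : G ⧸ H), fun c => by
          show b.1 ((c * w : G) : G ⧸ H) = b.1 (c : G ⧸ H)
          rw [QuotientGroup.mk_mul, (QuotientGroup.eq_one_iff w).2 (Subgroup.mem_zpowers w), mul_one], by
          rw [hsum]
          have := b.2
          omega⟩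
      left_inv := fun a => Subtype.ext (funext fun c => hfac a.1 a.2.1 c)
      right_inv := fun b => Subtype.ext (funext fun d => congrArg b.1 (QuotientGroup.out_eq' d)) }
  rw [Nat.card_congr e, card_sum_le, hcard]

/-- A symmetric tuple is the sum of a half and its translate. -/
theorem exists_half (w : G) (hw : w * w = 1) (hw1 : w ≠ 1) (a : G → ℕ) (ha : ∀ c, a (c * w) = a c) :
    ∃ b : G → ℕ, (∀ c, b c + b (c * w) = a c) ∧ 2 * ∑ c, b c = ∑ c, a c := by
  classical
  let p : G → Prop := fun c => ((c : G ⧸ Subgroup.zpowers w).out) = c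
  have hp : ∀ c, p c ↔ ¬ p (c * w) := by
    intro c
    have hcw : ((c * w : G) : G ⧸ Subgroup.zpowers w) = (c : G ⧸ Subgroup.zpowers w) := by
      rw [QuotientGroup.mk_mul, (QuotientGroup.eq_one_iff w).2 (Subgroup.mem_zpowers w), mul_one]
    constructor
    · intro h h'
      simp only [p, hcw] at h h'
      exact hw1 (mul_left_cancel (a := c) (by rw [mul_one, ← h', h]))
    · intro h
      simp only [p, hcw] at h ⊢
      obtain ⟨x, hx⟩ := QuotientGroup.mk_out_eq_mul (Subgroup.zpowers w) c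
      obtain ⟨n, hn⟩ := Subgroup.mem_zpowers_iff.1 x.2
      have hw2 : orderOf w = 2 := orderOf_eq_prime (by rw [pow_two, hw]) hw1
      rw [hx, ← hn, ← zpow_mod_orderOf, hw2] at h ⊢
      rcases Int.emod_two_eq_zero_or_one n with h0 | h0 <;> simp [h0] at h ⊢
  refine ⟨fun c => if p c then a c else 0, fun c => ?_, ?_⟩
  · by_cases h : p c
    · simp [h, (hp c).1 h]
    · have h' : p (c * w) := by_contra fun h' => h ((hp c).2 h')
      simp [h, h', ha]
  · have h1 : ∑ c, (if p (c * w) then a (c * w) else 0) = ∑ c, (if p c then a c else 0) :=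
      Fintype.sum_equiv (Equiv.mulRight w) _ _ fun c => rfl
    rw [two_mul]
    conv_lhs => arg 2; rw [← h1]
    rw [← Finset.sum_add_distrib]
    refine Finset.sum_congr rfl fun c _ => ?_
    by_cases h : p c
    · simp [h, (hp c).1 h]
    · have h' : p (c * w) := by_contra fun h' => h ((hp c).2 h')
      simp [h, h', ha]

end Symmetric

theorem charpoly_dualMap {F V : Type*} [Field F] [AddCommGroup V] [Module F V] [FiniteDimensional F V]
    (f : End F V) : (f.dualMap : End F (Module.Dual F V)).charpoly = f.charpoly := by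
  classical
  let b := Module.finBasis F V
  rw [← LinearMap.charpoly_toMatrix f b, ← LinearMap.charpoly_toMatrix f.dualMap b.dualBasis,
    LinearMap.dualMap_def, LinearMap.toMatrix_transpose, Matrix.charpoly_transpose]

variable {F : Type*} [Field F] [Fintype F] {r : ℕ} [Fact r.Prime] {K : Type} [Field K] [Algebra F K] [Finite K]
  {ζ : K}

/-- The class of `-1`. -/
noncomputable def negOrb (F : Type*) [Fintype F] (r : ℕ) [Fact r.Prime] : Orb F r :=
  ((-1 : (ZMod r)ˣ) : Orb F r)

theorem negOrb_mul_self (F : Type*) [Fintype F] (r : ℕ) [Fact r.Prime] : negOrb F r * negOrb F r = 1 := by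
  rw [negOrb, ← QuotientGroup.mk_mul, neg_one_mul, neg_neg]
  rfl

namespace RootField

variable (hK : RootField F r K ζ)
include hK

theorem neg_one_ne_one (hr2 : r ≠ 2) : (-1 : ZMod r) ≠ 1 := by
  have hr := (Fact.out : r.Prime)
  have : Fact (2 < r) := ⟨lt_of_le_of_ne hr.two_le (Ne.symm hr2)⟩
  exact ZMod.neg_one_ne_one

theorem pow_half (hr2 : r ≠ 2) {k : ℕ} (hk : orderOf (Fintype.card F : ZMod r) = k + k) :
    (Fintype.card F : ZMod r) ^ k = -1 := by
  set Q := (Fintype.card F : ZMod r)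
  have hk0 : 0 < k := by
    have h0 : 0 < orderOf Q := by
      show 0 < orderOf (Fintype.card F : ZMod r)
      rw [← hK.deg]
      exact Module.finrank_pos
    omega
  have h1 : Q ^ k * Q ^ k = 1 := by rw [← pow_add, ← hk, pow_orderOf_eq_one]
  rcases mul_self_eq_one_iff.1 h1 with h | h
  · have := orderOf_le_of_pow_eq_one hk0 h
    omega
  · exact h

theorem negOrb_eq_one_iff (hr2 : r ≠ 2) :
    negOrb F r = 1 ↔ Even (orderOf (Fintype.card F : ZMod r)) := by
  rw [negOrb, ← QuotientGroup.mk_one, eq_comm, hK.orbit_iff]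
  simp only [Units.val_one, one_mul, Units.val_neg]
  constructor
  · rintro ⟨j, hj⟩
    by_contra hodd
    have h2 : (Fintype.card F : ZMod r) ^ (2 * j) = 1 := by rw [mul_comm, pow_mul, ← hj]; ring
    rw [← orderOf_dvd_iff_pow_eq_one] at h2
    have h3 := (Nat.Coprime.dvd_of_dvd_mul_left
      ((Nat.coprime_two_right).2 (Nat.not_even_iff_odd.1 hodd)) h2)
    rw [orderOf_dvd_iff_pow_eq_one.1 h3] at hj
    exact hK.neg_one_ne_one hr2 hj
  · rintro ⟨k, hk⟩
    exact ⟨k, (hK.pow_half hr2 hk).symm⟩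

theorem ev_add (u v : ZMod r) : ev ζ (u + v) = ev ζ u * ev ζ v := by
  conv_lhs => rw [← ZMod.natCast_zmod_val u, ← ZMod.natCast_zmod_val v, ← Nat.cast_add, hK.ev_natCast]
  rw [pow_add]
  rfl

theorem orbMult_inv {V : Type*} [AddCommGroup V] [Module F V] [FiniteDimensional F V] (f : End F V)
    (hf : f ^ r = 1) (c : Orb F r) : orbMult ζ (f ^ (r - 1)) (c * negOrb F r) = orbMult ζ f c :=
  hK.orbMult_pow f hf (r - 1) (-1) (by
    rw [Units.val_neg, Units.val_one, Nat.cast_sub (Fact.out : r.Prime).one_lt.le, ZMod.natCast_self,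
      Nat.cast_one, zero_sub]) c

/-- An invariant non-degenerate bilinear form makes the multiplicities symmetric. -/
theorem orbMult_symm {V : Type*} [AddCommGroup V] [Module F V] [FiniteDimensional F V] (B : LinearMap.BilinForm F V)
    (hB : ∀ x, (∀ y, B x y = 0) → x = 0) (f : End F V) (hf : f ^ r = 1) (hmap : ∀ x y, B (f x) (f y) = B x y)
    (c : Orb F r) : orbMult ζ f (c * negOrb F r) = orbMult ζ f c := by
  let e : V ≃ₗ[F] Module.Dual F V := LinearMap.linearEquivOfInjective B
    (by rw [injective_iff_map_eq_zero]; exact fun x hx => hB x fun y => by rw [hx, LinearMap.zero_apply])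
    Subspace.dual_finrank_eq.symm
  have hinv : f * f ^ (r - 1) = 1 := by
    rw [← pow_succ', Nat.sub_add_cancel (Fact.out : r.Prime).one_lt.le, hf]
  have h : e.conj f = (f ^ (r - 1)).dualMap := by
    refine LinearMap.ext fun φ => ?_
    obtain ⟨x, rfl⟩ := e.surjective φ
    rw [LinearEquiv.conj_apply_apply, LinearEquiv.symm_apply_apply]
    refine LinearMap.ext fun y => ?_
    rw [LinearMap.dualMap_apply]
    show B (f x) y = B x ((f ^ (r - 1)) y)
    conv_lhs => rw [show y = (f * f ^ (r - 1)) y by rw [hinv, Module.End.one_apply]]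
    exact hmap x _
  have hc : f.charpoly = (f ^ (r - 1)).charpoly := by
    rw [← LinearEquiv.charpoly_conj e f, h, charpoly_dualMap]
  conv_lhs => rw [orbMult, hc, ← orbMult]
  exact hK.orbMult_inv f hf c

theorem orbMult_matrix {ι : Type} [Fintype ι] [DecidableEq ι] (A : Matrix ι ι F) (c : Orb F r) :
    orbMult ζ (Matrix.toLinAlgEquiv' A : End F (ι → F)) c = mult ζ A.charpoly ((c.out : (ZMod r)ˣ) : ZMod r) := by
  show mult ζ (Matrix.toLin' A).charpoly _ = _
  rw [Matrix.charpoly_toLin']

/-- The split elements `diag(A, A⁻ᵀ)`. -/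
theorem exists_split_element (m : ℕ) (a b : Orb F r → ℕ) (hab : ∀ c, b c + b (c * negOrb F r) = a c)
    (hle : orderOf (Fintype.card F : ZMod r) * ∑ c, b c ≤ m) :
    ∃ A : Matrix (Fin m) (Fin m) F, A * A ^ (r - 1) = 1 ∧ A ^ r = 1 ∧
      Matrix.fromBlocks A 0 0 (A ^ (r - 1))ᵀ ^ r = 1 ∧
      (orbMult ζ (Matrix.toLinAlgEquiv' (Matrix.fromBlocks A 0 0 (A ^ (r - 1))ᵀ) :
        End F (Fin m ⊕ Fin m → F)) : Orb F r → ℕ) = a := by
  classical
  set i := orderOf (Fintype.card F : ZMod r)
  obtain ⟨f, hf, hfb, -⟩ := hK.exists_realisation b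
  let e : ((Fin (i * ∑ c, b c) → F) × (Fin (m - i * ∑ c, b c) → F)) ≃ₗ[F] (Fin m → F) :=
    LinearEquiv.ofFinrankEq _ _ (by
      rw [Module.finrank_prod, Module.finrank_fin_fun, Module.finrank_fin_fun, Module.finrank_fin_fun]; omega)
  have hfp : ∀ k, (f.prodMap (1 : End F (Fin (m - i * ∑ c, b c) → F))) ^ k = (f ^ k).prodMap 1 := by
    intro k
    induction k with
    | zero => exact LinearMap.ext fun x => rfl
    | succ k ih =>
      rw [pow_succ, ih, pow_succ f]
      exact LinearMap.ext fun x => rfl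
  let A : Matrix (Fin m) (Fin m) F :=
    (Matrix.toLinAlgEquiv' : Matrix (Fin m) (Fin m) F ≃ₐ[F] _).symm (e.conjRingEquiv (f.prodMap 1))
  have hAf : Matrix.toLinAlgEquiv' A = e.conj (f.prodMap 1) := AlgEquiv.apply_symm_apply _ _
  have hA : A ^ r = 1 := by
    rw [← map_pow, ← map_pow, hfp, hf,
      show LinearMap.prodMap (1 : End F (Fin (i * ∑ c, b c) → F))
        (1 : End F (Fin (m - i * ∑ c, b c) → F)) = 1 from LinearMap.ext fun x => rfl, map_one, map_one]
  have hmul : A * A ^ (r - 1) = 1 := by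
    rw [← pow_succ', Nat.sub_add_cancel (Fact.out : r.Prime).one_lt.le, hA]
  refine ⟨A, hmul, hA, ?_, funext fun c => ?_⟩
  · rw [Matrix.fromBlocks_diagonal_pow, ← Matrix.transpose_pow, ← pow_mul, mul_comm (r - 1) r, pow_mul, hA, one_pow,
      Matrix.transpose_one, Matrix.fromBlocks_one]
  · rw [hK.orbMult_matrix, Matrix.charpoly_fromBlocks_zero₁₂, Matrix.charpoly_transpose,
      hK.mult_mul (Matrix.charpoly_monic _) (Matrix.charpoly_monic _), ← hK.orbMult_matrix, ← hK.orbMult_matrix,
      map_pow, hAf]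
    have h1 := hK.orbMult_inv (e.conj (f.prodMap 1)) (by rw [← hAf, ← map_pow, hA, map_one]) (c * negOrb F r)
    rw [mul_assoc, negOrb_mul_self, mul_one] at h1
    rw [h1, orbMult_conj, hK.orbMult_prodMap, hK.orbMult_one, add_zero, hfb, hab]

/-- The Frobenius power inverting `ζ`, for even degree. -/
theorem exists_inverter (hr2 : r ≠ 2) {k : ℕ} (hk : orderOf (Fintype.card F : ZMod r) = k + k) :
    ∃ J : K ≃ₐ[F] K, (∀ x, J (J x) = x) ∧ (∀ u : ZMod r, J (ev ζ u) * ev ζ u = 1) ∧ J ζ ≠ ζ := by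
  have hJ : ∀ (n : ℕ) (x : K), ((FiniteField.frobeniusAlgHom F K) ^ n) x = x ^ Fintype.card F ^ n := by
    intro n
    induction n with
    | zero => intro x; simp
    | succ n ih =>
      intro x
      rw [pow_succ', AlgHom.mul_apply, ih, pow_succ]
      show (x ^ Fintype.card F ^ n) ^ Fintype.card F = _
      rw [← pow_mul]
  let J : K ≃ₐ[F] K := AlgEquiv.ofBijective (FiniteField.frobeniusAlgHom F K ^ k)
    (Finite.injective_iff_bijective.1 (RingHom.injective (FiniteField.frobeniusAlgHom F K ^ k).toRingHom))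
  have happ : ∀ x, J x = x ^ Fintype.card F ^ k := hJ k
  have hev : ∀ u : ZMod r, J (ev ζ u) = ev ζ (-u) := fun u => by
    rw [happ, ← hK.ev_mul_natCast, Nat.cast_pow, hK.pow_half hr2 hk, mul_neg, mul_one]
  refine ⟨J, fun x => ?_, fun u => ?_, fun h => ?_⟩
  · have := Fintype.ofFinite K
    rw [happ, happ, ← pow_mul, ← pow_add, ← hk, ← hK.deg, ← Module.card_eq_pow_finrank, FiniteField.pow_card]
  · rw [hev, ← hK.ev_add, neg_add_cancel, ev, ZMod.val_zero, pow_zero]
  · have h1 : ev ζ (1 : ZMod r) = ζ := by rw [← Nat.cast_one, hK.ev_natCast, pow_one]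
    rw [← h1, hev] at h
    exact hK.neg_one_ne_one hr2 (hK.ev_injective h)

end RootField

end Cfsg.Agent.Semisimple
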