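/-
Semisimple isometries of alternating, symmetric and hermitian forms over finite fields are determined up to
isometric conjugacy by the characteristic polynomial (for symmetric forms: without fixed points of the square).
-/
import Mathlib
import Cfsg.Agent.Lib.Semisimple.Basic

set_option autoImplicit false

open Polynomial Module

namespace Cfsg.Agent.Semisimple

/-- A fixed point of a non-trivial involution of a finite field is a norm. -/
theorem exists_norm_fixed {K : Type*} [Field K] [Finite K] (J : K →+* K) (hJ : ∀ x, J (J x) = x)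
    (hne : ∃ x, J x ≠ x) {c : K} (hc : J c = c) : ∃ d, d * J d = c := by
  have := Fintype.ofFinite K
  by_cases h2 : (2 : K) = 0
  · have : CharP K 2 := CharTwo.of_one_ne_zero_of_two_eq_zero one_ne_zero h2
    obtain ⟨s, hs⟩ := FiniteField.isSquare_of_char_two (CharP.eq K (ringChar.charP K) inferInstance) c
    have hs' : J s = s := by
      have h : J s * J s = s * s := by rw [← map_mul, ← hs, hc, hs]
      exact CharTwo.sq_injective (by simpa [pow_two] using h)
    exact ⟨s, by rw [hs', hs]⟩
  · obtain ⟨z, hz⟩ := hne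
    let E : Subfield K := J.eqLocusField (RingHom.id K)
    have hmem : ∀ k : K, k ∈ E ↔ J k = k := fun k => Iff.rfl
    set x := z - J z with hx
    have hx0 : x ≠ 0 := sub_ne_zero.2 (Ne.symm hz)
    have hJx : J x = -x := by rw [hx, map_sub, hJ]; ring
    let d : E := ⟨x * x, by rw [hmem, map_mul, hJx]; ring⟩
    let c' : E := ⟨c, (hmem c).2 hc⟩
    have hd : d ≠ 0 := fun h => hx0 (mul_self_eq_zero.1 (congrArg Subtype.val h))
    have : Fintype E := Fintype.ofFinite E
    have hodd : Fintype.card E % 2 = 1 := by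
      refine FiniteField.odd_card_of_char_ne_two fun hch => h2 ?_
      have : CharP E 2 := ringChar.of_eq hch
      rw [← map_ofNat E.subtype 2, CharTwo.two_eq_zero, map_zero]
    obtain ⟨s, t, hst⟩ := FiniteField.exists_root_sum_quadratic (R := E)
      (f := X ^ 2 - C c') (g := C (-d) * X ^ 2) (degree_X_pow_sub_C two_pos _)
      (by rw [degree_C_mul_X_pow _ (neg_ne_zero.2 hd)]; rfl) hodd
    simp only [eval_sub, eval_pow, eval_X, eval_C, eval_mul] at hst
    have hst' := congrArg Subtype.val hst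
    simp only [Subfield.coe_add, Subfield.coe_sub, Subfield.coe_mul, SubmonoidClass.coe_pow, Subfield.coe_neg,
      ZeroMemClass.coe_zero, c', d] at hst'
    refine ⟨(s : K) + (t : K) * x, ?_⟩
    rw [map_add, map_mul, hJx, (hmem _).1 s.2, (hmem _).1 t.2]
    linear_combination hst'

variable {F : Type*} [Field F] (σ : F →+* F)

/-- A non-degenerate `ε`-hermitian form, semilinear in the first variable. -/
structure IsHerm (ε : F) {V : Type*} [AddCommGroup V] [Module F V] (B : V →ₛₗ[σ] V →ₗ[F] F) : Prop where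
  swap : ∀ x y, B y x = ε * σ (B x y)
  invol : ∀ a, σ (σ a) = a
  sep : ∀ x, (∀ y, B x y = 0) → x = 0

/-- `p ↦ pᶿ(X⁻¹)` for exponent `N`. -/
noncomputable def star (N : ℕ) : F[X] →+* F[X] := (compRingHom (X ^ (N - 1))).comp (mapRingHom σ)

theorem aeval_star {A : Type*} [Ring A] [Algebra F A] (N : ℕ) (a : A) (p : F[X]) :
    aeval a (star σ N p) = aeval (a ^ (N - 1)) (p.map σ) := by
  show aeval a ((p.map σ).comp (X ^ (N - 1))) = _
  rw [aeval_comp, map_pow, aeval_X]

theorem star_C (N : ℕ) (c : F) : star σ N (C c) = C (σ c) := by simp [star]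

theorem star_X (N : ℕ) : star σ N X = X ^ (N - 1) := by simp [star]

section One

variable {σ} {ε : F} {V : Type*} [AddCommGroup V] [Module F V] {B : V →ₛₗ[σ] V →ₗ[F] F} {g : End F V} {N : ℕ}

/-- A semisimple isometry of exponent `N`. -/
structure IsSSIsom (B : V →ₛₗ[σ] V →ₗ[F] F) (g : End F V) (N : ℕ) : Prop where
  map : ∀ x y, B (g x) (g y) = B x y
  pow : g ^ N = 1
  unit : (N : F) ≠ 0

theorem IsSSIsom.pos (hg : IsSSIsom B g N) : 0 < N :=
  Nat.pos_of_ne_zero fun h => hg.unit (by rw [h, Nat.cast_zero])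

theorem IsSSIsom.mul_pred (hg : IsSSIsom B g N) : g * g ^ (N - 1) = 1 := by
  rw [← pow_succ', Nat.sub_add_cancel hg.pos, hg.pow]

theorem IsSSIsom.pred_pred (hg : IsSSIsom B g N) : (g ^ (N - 1)) ^ (N - 1) = g := by
  have h1 : g ^ (N - 1) * g = 1 := by rw [← pow_succ, Nat.sub_add_cancel hg.pos, hg.pow]
  calc (g ^ (N - 1)) ^ (N - 1) = (g ^ (N - 1)) ^ (N - 1) * (g ^ (N - 1) * g) := by rw [h1, mul_one]
    _ = (g ^ (N - 1)) ^ N * g := by rw [← mul_assoc, ← pow_succ, Nat.sub_add_cancel hg.pos]
    _ = g := by rw [← pow_mul, mul_comm, pow_mul, hg.pow, one_pow, one_mul]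

theorem IsSSIsom.star_invol (hB : IsHerm σ ε B) (hg : IsSSIsom B g N) (p : F[X]) :
    aeval g (star σ N (star σ N p)) = aeval g p := by
  rw [aeval_star]
  show aeval (g ^ (N - 1)) (((p.map σ).comp (X ^ (N - 1))).map σ) = _
  rw [Polynomial.map_comp, Polynomial.map_map, Polynomial.map_pow, map_X, aeval_comp, map_pow, aeval_X,
    hg.pred_pred, show σ.comp σ = RingHom.id F from RingHom.ext hB.invol, Polynomial.map_id]

/-- The adjoint of a polynomial in an isometry. -/
theorem IsSSIsom.adjoint (hg : IsSSIsom B g N) (p : F[X]) (u v : V) :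
    B (aeval g p u) v = B u (aeval g (star σ N p) v) := by
  rw [aeval_star]
  induction p using Polynomial.induction_on' with
  | add a b ha hb => simp [ha, hb]
  | monomial n c =>
    have hpow : ∀ (n : ℕ) (u v : V), B ((g ^ n) u) v = B u (((g ^ (N - 1)) ^ n) v) := by
      intro n
      induction n with
      | zero => intro u v; simp
      | succ n ih =>
        intro u v
        rw [pow_succ g, Module.End.mul_apply, ih, pow_succ' (g ^ (N - 1)), Module.End.mul_apply]
        conv_lhs => rw [show ((g ^ (N - 1)) ^ n) v = (g * g ^ (N - 1)) (((g ^ (N - 1)) ^ n) v) by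
          rw [hg.mul_pred, Module.End.one_apply]]
        exact hg.map _ _
    rw [aeval_monomial, map_monomial, aeval_monomial, Module.End.mul_apply, Module.End.mul_apply,
      Module.algebraMap_end_apply, Module.algebraMap_end_apply]
    simp only [map_smulₛₗ, LinearMap.smul_apply, smul_eq_mul, hpow, RingHom.id_apply]

/-- A polynomial in a semisimple isometry has semisimple kernel. -/
theorem IsSSIsom.aeval_sq_eq_zero (hg : IsSSIsom B g N) (P : F[X]) {v : V}
    (h : aeval g P (aeval g P v) = 0) : aeval g P v = 0 := by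
  classical
  set h0 : F[X] := X ^ N - C 1
  have hsq : Squarefree h0 := (separable_X_pow_sub_C 1 hg.unit one_ne_zero).squarefree
  have hann : aeval g h0 = 0 := by simp [h0, hg.pow]
  obtain ⟨a, b, hab⟩ : ∃ a b : F[X], EuclideanDomain.gcd (P * P) h0 = P * P * a + h0 * b :=
    ⟨_, _, EuclideanDomain.gcd_eq_gcd_ab _ _⟩
  have hd : EuclideanDomain.gcd (P * P) h0 ∣ P := by
    have h1 : EuclideanDomain.gcd (P * P) h0 ∣ P * P := EuclideanDomain.gcd_dvd_left _ _
    have h2 : EuclideanDomain.gcd (P * P) h0 ∣ h0 := EuclideanDomain.gcd_dvd_right _ _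
    exact ((hsq.squarefree_of_dvd h2).dvd_pow_iff_dvd two_ne_zero).1 (by rwa [pow_two])
  obtain ⟨e, he⟩ := hd
  rw [he, hab, mul_comm (P * P) a, mul_comm h0 b, mul_comm _ e]
  simp only [map_mul, map_add, Module.End.mul_apply, LinearMap.add_apply, hann, LinearMap.zero_apply, map_zero,
    add_zero]
  rw [h]
  simp

variable [FiniteDimensional F V]

theorem IsSSIsom.exists_decomp (hg : IsSSIsom B g N) (P : F[X]) (v : V) :
    ∃ w₀ w : V, aeval g P w₀ = 0 ∧ v = w₀ + aeval g P w := by
  set f := aeval g P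
  have hdisj : Disjoint (LinearMap.ker f) (LinearMap.range f) := by
    rw [Submodule.disjoint_def]
    rintro x hx ⟨y, rfl⟩
    exact hg.aeval_sq_eq_zero P hx
  have htop := Submodule.eq_top_of_disjoint _ _
    (by rw [add_comm, LinearMap.finrank_range_add_finrank_ker]) hdisj
  obtain ⟨a, ha, b, ⟨w, rfl⟩, hab⟩ := Submodule.mem_sup.1 (htop ▸ Submodule.mem_top (x := v))
  exact ⟨a, w, ha, hab.symm⟩

variable {π : F[X]}

/-- The partner of a vector killed by `π(g)`. -/
theorem IsSSIsom.exists_partner (hB : IsHerm σ ε B) (hg : IsSSIsom B g N) {x : V} (hx0 : x ≠ 0)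
    (hx : aeval g π x = 0) : ∃ y, aeval g (star σ N π) y = 0 ∧ B x y ≠ 0 := by
  by_contra! hno
  refine hx0 (hB.sep x fun v => ?_)
  obtain ⟨w₀, w, hw₀, rfl⟩ := hg.exists_decomp (star σ N π) v
  rw [map_add, hno w₀ hw₀, ← hg.adjoint, hx, map_zero, LinearMap.zero_apply, zero_add]

omit [FiniteDimensional F V] in
/-- The cyclic map `k ↦ k(g) x`. -/
theorem exists_embed (g : End F V) {x : V} (hx : aeval g π x = 0) :
    ∃ j : AdjoinRoot π →ₗ[F] V, ∀ p, j (AdjoinRoot.mk π p) = aeval g p x := by
  have hwd : ∀ p q : F[X], AdjoinRoot.mk π p = AdjoinRoot.mk π q → aeval g p x = aeval g q x := by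
    intro p q h
    obtain ⟨t, ht⟩ := AdjoinRoot.mk_eq_mk.1 h
    rw [eq_add_of_sub_eq ht, map_add, mul_comm, map_mul, LinearMap.add_apply, Module.End.mul_apply, hx, map_zero,
      zero_add]
  refine ⟨{ toFun := fun k => aeval g (Function.surjInv AdjoinRoot.mk_surjective k) x
            map_add' := fun a b => ?_
            map_smul' := fun c a => ?_ },
    fun p => hwd _ _ (Function.surjInv_eq AdjoinRoot.mk_surjective _)⟩
  · rw [← LinearMap.add_apply, ← map_add]
    refine hwd _ _ ?_
    rw [map_add, Function.surjInv_eq AdjoinRoot.mk_surjective, Function.surjInv_eq AdjoinRoot.mk_surjective,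
      Function.surjInv_eq AdjoinRoot.mk_surjective]
  · rw [RingHom.id_apply, ← LinearMap.smul_apply, ← map_smul]
    refine hwd _ _ ?_
    rw [Function.surjInv_eq AdjoinRoot.mk_surjective, ← AdjoinRoot.smul_mk,
      Function.surjInv_eq AdjoinRoot.mk_surjective]

omit [FiniteDimensional F V] in
theorem embed_injective (g : End F V) (hπ : Irreducible π) {x : V} (hx0 : x ≠ 0) (hx : aeval g π x = 0)
    (j : AdjoinRoot π →ₗ[F] V) (hj : ∀ p, j (AdjoinRoot.mk π p) = aeval g p x) : Function.Injective j := by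
  rw [injective_iff_map_eq_zero]
  intro k hk
  obtain ⟨p, rfl⟩ := AdjoinRoot.mk_surjective k
  by_contra hne
  obtain ⟨a, b, hab⟩ := hπ.coprime_iff_not_dvd.2 fun h => hne (AdjoinRoot.mk_eq_zero.2 h)
  apply hx0
  have h1 := congrArg (fun P : F[X] => aeval g P x) hab
  rw [hj] at hk
  simpa [Module.End.mul_apply, hx, hk] using h1.symm

omit [FiniteDimensional F V] in
/-- A vector killed by `star π` has no self pairing, unless it is killed by `π`. -/
theorem IsSSIsom.partner_cases (hB : IsHerm σ ε B) (hg : IsSSIsom B g N) (hπ : Irreducible π) {y : V}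
    (hy : aeval g (star σ N π) y = 0) : aeval g π y = 0 ∨ ∀ p : F[X], B y (aeval g p y) = 0 := by
  by_cases hd : π ∣ star σ N π
  · obtain ⟨t, ht⟩ := hd
    refine Or.inl ?_
    rw [← hg.star_invol hB π, ht, map_mul, mul_comm, map_mul, Module.End.mul_apply, hy, map_zero]
  · obtain ⟨a, b, hab⟩ := hπ.coprime_iff_not_dvd.2 hd
    refine Or.inr fun p => ?_
    have h1 := congrArg (fun P : F[X] => aeval g P y) hab
    simp only [map_add, map_mul, map_one, LinearMap.add_apply, Module.End.mul_apply, hy, map_zero, add_zero,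
      Module.End.one_apply] at h1
    have h3 : aeval g (star σ N π) (aeval g a y) = 0 := by
      rw [← Module.End.mul_apply, ← map_mul, mul_comm, map_mul, Module.End.mul_apply, hy, map_zero]
    rw [← h1, ← Module.End.mul_apply, ← map_mul, mul_comm a π, map_mul, Module.End.mul_apply, hg.adjoint,
      ← Module.End.mul_apply, ← map_mul, ← Module.End.mul_apply, ← map_mul,
      show star σ N π * p * π = p * π * star σ N π by ring, map_mul, Module.End.mul_apply, h3, map_zero,
      map_zero]

omit [FiniteDimensional F V] in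
/-- A vector killed by `π(g)` with a self pairing makes `π` self-dual, with a non-trivial involution. -/
theorem IsSSIsom.exists_involution (hB : IsHerm σ ε B) (hg : IsSSIsom B g N)
    (hH : σ = RingHom.id F → ∀ v, g (g v) = v → B v v = 0) (hπ : Irreducible π) {x : V}
    (hx : aeval g π x = 0) (hd : ∃ p : F[X], B x (aeval g p x) ≠ 0) :
    π ∣ star σ N π ∧ ∃ J : AdjoinRoot π →+* AdjoinRoot π,
      (∀ p, J (AdjoinRoot.mk π p) = AdjoinRoot.mk π (star σ N p)) ∧ (∀ k, J (J k) = k) ∧ ∃ k, J k ≠ k := by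
  classical
  have : Fact (Irreducible π) := ⟨hπ⟩
  obtain ⟨p₀, hp₀⟩ := hd
  have hx0 : x ≠ 0 := fun h => hp₀ (by simp [h])
  have hdvd : π ∣ star σ N π := by
    by_contra hnd
    obtain ⟨a, b, hab⟩ := hπ.coprime_iff_not_dvd.2 hnd
    apply hp₀
    have h1 : aeval g p₀ x = aeval g (star σ N π) (aeval g (b * p₀) x) := by
      have h2 := congrArg (fun P : F[X] => aeval g (P * p₀) x) hab
      rw [one_mul, add_mul, map_add, LinearMap.add_apply, mul_comm (a * π) p₀, ← mul_assoc, map_mul,
        Module.End.mul_apply, hx, map_zero, zero_add] at h2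
      rw [← h2, ← Module.End.mul_apply, ← map_mul]
      congr 2
      ring
    rw [h1, ← hg.adjoint, hx, map_zero, LinearMap.zero_apply]
  have hr : AdjoinRoot.root π * AdjoinRoot.root π ^ (N - 1) = 1 := by
    obtain ⟨j, hj⟩ := exists_embed g hx
    refine embed_injective g hπ hx0 hx j hj ?_
    rw [← AdjoinRoot.mk_X, ← map_pow, ← map_mul, hj, ← map_one (AdjoinRoot.mk π), hj, map_mul, map_pow, aeval_X,
      hg.mul_pred, map_one]
  have hlift : π.eval₂ ((algebraMap F (AdjoinRoot π)).comp σ) (AdjoinRoot.root π ^ (N - 1)) = 0 := by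
    rw [← eval₂_map, ← aeval_def, ← aeval_star, AdjoinRoot.aeval_eq]
    exact AdjoinRoot.mk_eq_zero.2 hdvd
  let J := AdjoinRoot.lift ((algebraMap F (AdjoinRoot π)).comp σ) (AdjoinRoot.root π ^ (N - 1)) hlift
  have hJ : ∀ p, J (AdjoinRoot.mk π p) = AdjoinRoot.mk π (star σ N p) := fun p => by
    rw [AdjoinRoot.lift_mk, ← AdjoinRoot.aeval_eq, aeval_star, aeval_def, eval₂_map]
  have hJr : J (AdjoinRoot.root π) = (AdjoinRoot.root π)⁻¹ := by
    rw [AdjoinRoot.lift_root]
    exact eq_inv_of_mul_eq_one_right hr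
  refine ⟨hdvd, J, hJ, fun k => ?_, ?_⟩
  · have h2 : J.comp J = RingHom.id _ := by
      refine RingHom.ext fun k => ?_
      obtain ⟨p, rfl⟩ := AdjoinRoot.mk_surjective k
      induction p using Polynomial.induction_on' with
      | add a b ha hb => rw [map_add, map_add, map_add, ha, hb]
      | monomial n c =>
        rw [← C_mul_X_pow_eq_monomial, map_mul, map_mul, map_mul, map_pow, AdjoinRoot.mk_X, map_pow, map_pow,
          RingHom.comp_apply, RingHom.comp_apply, hJ, star_C, hJ, star_C, hB.invol, hJr, map_inv₀, hJr, inv_inv]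
        rfl
    exact RingHom.congr_fun h2 k
  · by_contra! hid
    have hσ : σ = RingHom.id F := RingHom.ext fun c => (algebraMap F (AdjoinRoot π)).injective (by
      have := hid (AdjoinRoot.mk π (C c))
      rw [hJ, star_C, AdjoinRoot.mk_C, AdjoinRoot.mk_C] at this
      exact this)
    obtain ⟨j, hj⟩ := exists_embed g hx
    have hrr := hid (AdjoinRoot.root π)
    rw [hJr] at hrr
    have hr0 : AdjoinRoot.root π ≠ 0 := left_ne_zero_of_mul_eq_one hr
    have hsq : AdjoinRoot.root π * AdjoinRoot.root π = 1 := by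
      nth_rw 1 [← hrr]
      exact inv_mul_cancel₀ hr0
    obtain ⟨e, he⟩ : ∃ e : F, AdjoinRoot.root π = algebraMap F (AdjoinRoot π) e := by
      rcases mul_self_eq_one_iff.1 hsq with h | h
      · exact ⟨1, by rw [h, map_one]⟩
      · exact ⟨-1, by rw [h, map_neg, map_one]⟩
    have hscal : ∀ p, aeval g p x = p.eval e • x := fun p => by
      rw [← hj, ← AdjoinRoot.aeval_eq, he, aeval_algebraMap_apply_eq_algebraMap_eval,
        Algebra.algebraMap_eq_smul_one, map_smul, ← map_one (AdjoinRoot.mk π), hj, map_one, Module.End.one_apply]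
    have hgg : g (g x) = x := by
      have h1 := congrArg j hsq
      rw [← AdjoinRoot.mk_X, ← map_mul, hj, ← map_one (AdjoinRoot.mk π), hj, map_mul, aeval_X, map_one] at h1
      exact h1
    apply hp₀
    rw [hscal, map_smul, hH hσ x hgg, smul_zero]

/-- No space can have all of `ker π(g)` self-orthogonal when `π` carries a non-trivial involution. -/
theorem IsSSIsom.not_all_isotropic (hB : IsHerm σ ε B) (hg : IsSSIsom B g N) (hπ : Irreducible π)
    (hdvd : π ∣ star σ N π) (J : AdjoinRoot π →+* AdjoinRoot π)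
    (hJ : ∀ p, J (AdjoinRoot.mk π p) = AdjoinRoot.mk π (star σ N p)) (hJne : ∃ k, J k ≠ k)
    (hd : ∀ x, aeval g π x = 0 → ∀ p : F[X], B x (aeval g p x) = 0)
    (hne : ∃ x, x ≠ 0 ∧ aeval g π x = 0) : False := by
  obtain ⟨x, hx0, hx⟩ := hne
  obtain ⟨y, hy, hxy⟩ := hg.exists_partner hB hx0 hx
  have hstar : ∀ v, aeval g (star σ N π) v = 0 → aeval g π v = 0 := fun v hv => by
    obtain ⟨t, ht⟩ := hdvd
    rw [← hg.star_invol hB π, ht, map_mul, mul_comm, map_mul, Module.End.mul_apply, hv, map_zero]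
  have hyπ : aeval g π y = 0 := hstar y hy
  have hpol : ∀ (p : F[X]) u v, aeval g π u = 0 → aeval g π v = 0 →
      B u (aeval g p v) + B v (aeval g p u) = 0 := by
    intro p u v hu hv
    have h := hd (u + v) (by rw [map_add, hu, hv, add_zero]) p
    simp only [map_add, LinearMap.add_apply] at h
    linear_combination h - hd u hu p - hd v hv p
  by_cases hσ : σ = RingHom.id F
  · subst hσ
    have hz : ∀ p, AdjoinRoot.mk π (p + C ε * star (RingHom.id F) N p) = 0 := by
      intro p
      obtain ⟨j, hj⟩ := exists_embed g hx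
      refine embed_injective g hπ hx0 hx j hj ?_
      rw [map_zero, hj]
      set w := aeval g (p + C ε * star (RingHom.id F) N p) x
      have hw : aeval g π w = 0 := by
        rw [← Module.End.mul_apply, ← map_mul, mul_comm, map_mul, Module.End.mul_apply, hx, map_zero]
      refine hB.sep w fun v => ?_
      obtain ⟨w₀, w₁, hw₀, rfl⟩ := hg.exists_decomp (star (RingHom.id F) N π) v
      have h1 : B w₀ w = 0 := by
        have h2 := hpol p w₀ x (hstar w₀ hw₀) hx
        rw [hB.swap (aeval g p w₀) x, hg.adjoint, RingHom.id_apply] at h2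
        simp only [w, map_add, map_mul, aeval_C, LinearMap.add_apply, Module.End.mul_apply,
          Module.algebraMap_end_apply, map_smul, smul_eq_mul]
        exact h2
      rw [map_add, hB.swap w₀ w, h1, map_zero, mul_zero, zero_add, ← hg.adjoint, hw, map_zero,
        LinearMap.zero_apply]
    have h1 := hz 1
    rw [map_one, mul_one, map_add, map_one, AdjoinRoot.mk_C] at h1
    obtain ⟨k, hk⟩ := hJne
    obtain ⟨p, rfl⟩ := AdjoinRoot.mk_surjective k
    apply hk
    have h2 := hz p
    rw [map_add, map_mul, AdjoinRoot.mk_C] at h2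
    rw [hJ]
    linear_combination (AdjoinRoot.mk π (star (RingHom.id F) N p)) * h1 - h2
  · obtain ⟨c, hc⟩ : ∃ c, σ c ≠ c := by
      by_contra! h
      exact hσ (RingHom.ext h)
    apply hxy
    have h1 := hpol 1 x y hx hyπ
    have h2 := hpol 1 x (c • y) hx (by rw [map_smul, hyπ, smul_zero])
    simp only [map_one, Module.End.one_apply, map_smul, map_smulₛₗ, LinearMap.smul_apply, smul_eq_mul,
      RingHom.id_apply] at h1 h2
    refine (mul_eq_zero.1 (?_ : (c - σ c) * B x y = 0)).resolve_left (sub_ne_zero.2 (Ne.symm hc))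
    linear_combination h2 - σ c * h1

omit [FiniteDimensional F V] in
theorem embed_root (g : End F V) {x : V} (j : AdjoinRoot π →ₗ[F] V)
    (hj : ∀ p, j (AdjoinRoot.mk π p) = aeval g p x) (k : AdjoinRoot π) : g (j k) = j (AdjoinRoot.root π * k) := by
  obtain ⟨p, rfl⟩ := AdjoinRoot.mk_surjective k
  rw [← AdjoinRoot.mk_X, ← map_mul, hj, hj, map_mul, aeval_X, Module.End.mul_apply]

omit [FiniteDimensional F V] in
theorem exists_pairing (hB : IsHerm σ ε B) (j : AdjoinRoot π →ₗ[F] V) (y : V) :
    ∃ f : AdjoinRoot π →ₗ[F] F, ∀ k, f k = σ (B (j k) y) :=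
  ⟨{ toFun := fun k => σ (B (j k) y)
     map_add' := fun a b => by simp
     map_smul' := fun c a => by simp [hB.invol] }, fun k => rfl⟩

omit [FiniteDimensional F V] in
/-- The semilinear cyclic map of a partner. -/
theorem exists_coembed (σ : F →+* F) (N : ℕ) (g : End F V) {y : V} (hy : aeval g (star σ N π) y = 0) :
    ∃ l : AdjoinRoot π →+ V, ∀ p, l (AdjoinRoot.mk π p) = aeval g (star σ N p) y := by
  have hwd : ∀ p r : F[X], AdjoinRoot.mk π p = AdjoinRoot.mk π r →
      aeval g (star σ N p) y = aeval g (star σ N r) y := by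
    intro p r h
    obtain ⟨t, ht⟩ := AdjoinRoot.mk_eq_mk.1 h
    rw [eq_add_of_sub_eq ht, map_add, map_mul, map_add, mul_comm, map_mul, LinearMap.add_apply,
      Module.End.mul_apply, hy, map_zero, zero_add]
  refine ⟨AddMonoidHom.mk' (fun k => aeval g (star σ N (Function.surjInv AdjoinRoot.mk_surjective k)) y)
    fun a b => ?_, fun p => hwd _ _ (Function.surjInv_eq AdjoinRoot.mk_surjective _)⟩
  rw [← LinearMap.add_apply, ← map_add, ← map_add]
  refine hwd _ _ ?_
  rw [map_add, Function.surjInv_eq AdjoinRoot.mk_surjective, Function.surjInv_eq AdjoinRoot.mk_surjective,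
    Function.surjInv_eq AdjoinRoot.mk_surjective]

omit [FiniteDimensional F V] in
theorem coembed_smul (σ : F →+* F) (hinv : ∀ a, σ (σ a) = a) (N : ℕ) (g : End F V) {y : V}
    (l : AdjoinRoot π →+ V) (hlp : ∀ p, l (AdjoinRoot.mk π p) = aeval g (star σ N p) y) (c : F)
    (b : AdjoinRoot π) : c • l b = l (σ c • b) := by
  obtain ⟨r, rfl⟩ := AdjoinRoot.mk_surjective b
  rw [AdjoinRoot.smul_mk, hlp, hlp, ← C_mul', map_mul, star_C, hinv, map_mul, aeval_C,
    Module.End.mul_apply, Module.algebraMap_end_apply]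

omit [FiniteDimensional F V] in
theorem coembed_root (σ : F →+* F) (N : ℕ) (g : End F V) (hgg : (g ^ (N - 1)) ^ (N - 1) = g) {y : V}
    (l : AdjoinRoot π →+ V) (hlp : ∀ p, l (AdjoinRoot.mk π p) = aeval g (star σ N p) y)
    (b : AdjoinRoot π) : g (l b) = l (AdjoinRoot.root π ^ (N - 1) * b) := by
  obtain ⟨r, rfl⟩ := AdjoinRoot.mk_surjective b
  rw [← AdjoinRoot.mk_X, ← map_pow, ← map_mul, hlp, hlp, map_mul, map_pow, star_X, map_mul, map_pow,
    map_pow, aeval_X, hgg, Module.End.mul_apply]

omit [FiniteDimensional F V] in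
theorem exists_lin_scalar (hπ : Irreducible π) [Module.Finite F (AdjoinRoot π)] (f f' : AdjoinRoot π →ₗ[F] F)
    (hf : f ≠ 0) (hf' : f' ≠ 0) : ∃ c : AdjoinRoot π, c ≠ 0 ∧ ∀ k, f' k = f (c * k) := by
  have : Fact (Irreducible π) := ⟨hπ⟩
  let T : AdjoinRoot π →ₗ[F] Module.Dual F (AdjoinRoot π) := (LinearMap.mul F (AdjoinRoot π)).compr₂ f
  have hT : ∀ c k, T c k = f (c * k) := fun c k => rfl
  have hinj : Function.Injective T := by
    rw [injective_iff_map_eq_zero]
    intro c hc
    by_contra hc0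
    apply hf
    refine LinearMap.ext fun k => ?_
    have := LinearMap.congr_fun hc (c⁻¹ * k)
    rwa [hT, ← mul_assoc, mul_inv_cancel₀ hc0, one_mul] at this
  obtain ⟨c, hc⟩ := (LinearMap.injective_iff_surjective_of_finrank_eq_finrank
    (Subspace.dual_finrank_eq).symm).1 hinj f'
  refine ⟨c, ?_, fun k => by rw [← hT, hc]⟩
  rintro rfl
  exact hf' (by rw [← hc, map_zero])

end One

universe u

/-- Two peeled-off blocks. -/
structure Block {V V' : Type*} [AddCommGroup V] [Module F V] [AddCommGroup V'] [Module F V'] {σ : F →+* F}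
    (B : V →ₛₗ[σ] V →ₗ[F] F) (B' : V' →ₛₗ[σ] V' →ₗ[F] F) (g : End F V) (g' : End F V') where
  W : Submodule F V
  W' : Submodule F V'
  φ : W ≃ₗ[F] W'
  ne : ∃ w : W, w ≠ 0
  stable : ∀ w ∈ W, g w ∈ W
  stable' : ∀ w ∈ W', g' w ∈ W'
  comm : ∀ w : W, g' (φ w : V') = (φ ⟨g w, stable w w.2⟩ : V')
  form : ∀ a b : W, B' (φ a : V') (φ b : V') = B (a : V) (b : V)
  nondeg : ∀ a : W, (∀ b : W, B (a : V) (b : V) = 0) → a = 0

theorem exists_block_of_maps {V V' : Type*} [AddCommGroup V] [Module F V] [AddCommGroup V'] [Module F V']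
    {σ : F →+* F} {B : V →ₛₗ[σ] V →ₗ[F] F} {B' : V' →ₛₗ[σ] V' →ₗ[F] F} {g : End F V} {g' : End F V'}
    {U : Type*} [AddCommGroup U] [Nontrivial U] (Ψ : U →+ V) (Ψ' : U →+ V') (hΨ' : Function.Injective Ψ')
    (s : F → U → U) (hs : ∀ c u, c • Ψ u = Ψ (s c u)) (hs' : ∀ c u, c • Ψ' u = Ψ' (s c u))
    (T : U → U) (hT : ∀ u, g (Ψ u) = Ψ (T u)) (hT' : ∀ u, g' (Ψ' u) = Ψ' (T u))
    (hform : ∀ u v, B' (Ψ' u) (Ψ' v) = B (Ψ u) (Ψ v)) (hnd : ∀ u, (∀ v, B (Ψ u) (Ψ v) = 0) → u = 0) :
    Nonempty (Block B B' g g') := by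
  have hΨ : Function.Injective Ψ := by
    rw [injective_iff_map_eq_zero]
    exact fun u hu => hnd u fun v => by rw [hu, map_zero, LinearMap.zero_apply]
  let W : Submodule F V := { Ψ.range with smul_mem' := by rintro c _ ⟨u, rfl⟩; exact ⟨s c u, (hs c u).symm⟩ }
  let W' : Submodule F V' := { Ψ'.range with smul_mem' := by rintro c _ ⟨u, rfl⟩; exact ⟨s c u, (hs' c u).symm⟩ }
  let e : U ≃ W := Equiv.ofBijective (fun u => ⟨Ψ u, u, rfl⟩)
    ⟨fun a b h => hΨ (congrArg Subtype.val h), by rintro ⟨_, u, rfl⟩; exact ⟨u, rfl⟩⟩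
  let e' : U ≃ W' := Equiv.ofBijective (fun u => ⟨Ψ' u, u, rfl⟩)
    ⟨fun a b h => hΨ' (congrArg Subtype.val h), by rintro ⟨_, u, rfl⟩; exact ⟨u, rfl⟩⟩
  have he : ∀ u, (e u : V) = Ψ u := fun u => rfl
  have he' : ∀ u, (e' u : V') = Ψ' u := fun u => rfl
  let φ : W ≃ₗ[F] W' :=
    { (e.symm.trans e') with
      map_add' := fun a b => by
        obtain ⟨u, rfl⟩ := e.surjective a
        obtain ⟨v, rfl⟩ := e.surjective b
        have h : e u + e v = e (u + v) := Subtype.ext (by simp [he])
        simp only [Equiv.toFun_as_coe, Equiv.trans_apply, h, Equiv.symm_apply_apply]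
        exact Subtype.ext (by simp [he'])
      map_smul' := fun c a => by
        obtain ⟨u, rfl⟩ := e.surjective a
        have h : c • e u = e (s c u) := Subtype.ext (by simp [he, hs])
        simp only [Equiv.toFun_as_coe, Equiv.trans_apply, h, Equiv.symm_apply_apply, RingHom.id_apply]
        exact Subtype.ext (by simp [he', hs']) }
  have hφ : ∀ u, (φ (e u) : V') = Ψ' u := fun u => congrArg Subtype.val (congrArg e' (e.symm_apply_apply u))
  obtain ⟨u₀, hu₀⟩ := exists_ne (0 : U)
  refine ⟨⟨W, W', φ, ⟨e u₀, fun h => hu₀ (hΨ (by rw [map_zero]; exact congrArg Subtype.val h))⟩,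
    by rintro _ ⟨u, rfl⟩; exact ⟨T u, (hT u).symm⟩, by rintro _ ⟨u, rfl⟩; exact ⟨T u, (hT' u).symm⟩,
    fun w => ?_, fun a b => ?_, fun a ha => ?_⟩⟩
  · obtain ⟨u, rfl⟩ := e.surjective w
    rw [hφ, hT', ← hφ (T u)]
    exact congrArg (fun z => (φ z : V')) (Subtype.ext (hT u).symm)
  · obtain ⟨u, rfl⟩ := e.surjective a
    obtain ⟨v, rfl⟩ := e.surjective b
    rw [hφ, hφ, hform]
    rfl
  · obtain ⟨u, rfl⟩ := e.surjective a
    obtain rfl := hnd u fun v => ha (e v)
    exact Subtype.ext (map_zero Ψ)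

variable [Finite F] {σ} {ε : F} {N : ℕ}

theorem exists_block {V V' : Type*} [AddCommGroup V] [Module F V] [FiniteDimensional F V] [AddCommGroup V']
    [Module F V'] [FiniteDimensional F V'] {B : V →ₛₗ[σ] V →ₗ[F] F} {B' : V' →ₛₗ[σ] V' →ₗ[F] F}
    {g : End F V} {g' : End F V'} (hB : IsHerm σ ε B) (hB' : IsHerm σ ε B') (hg : IsSSIsom B g N)
    (hg' : IsSSIsom B' g' N) (hH : σ = RingHom.id F → ∀ v, g (g v) = v → B v v = 0)
    (hH' : σ = RingHom.id F → ∀ v, g' (g' v) = v → B' v v = 0) {π : F[X]} (hπm : π.Monic) (hπ : Irreducible π)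
    (hne : ∃ x, x ≠ 0 ∧ aeval g π x = 0) (hne' : ∃ x, x ≠ 0 ∧ aeval g' π x = 0) :
    Nonempty (Block B B' g g') := by
  classical
  have : Fact (Irreducible π) := ⟨hπ⟩
  have : Module.Finite F (AdjoinRoot π) := (AdjoinRoot.powerBasis' hπm).finite
  have : Finite (AdjoinRoot π) := Module.finite_of_finite F
  by_cases hd : ∃ x, aeval g π x = 0 ∧ ∃ p : F[X], B x (aeval g p x) ≠ 0
  · obtain ⟨x, hx, hxp⟩ := hd
    obtain ⟨hdvd, J, hJ, hJJ, hJne⟩ := hg.exists_involution hB hH hπ hx hxp
    by_cases hd' : ∃ x', aeval g' π x' = 0 ∧ ∃ p : F[X], B' x' (aeval g' p x') ≠ 0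
    · obtain ⟨x', hx', hxp'⟩ := hd'
      obtain ⟨j, hj⟩ := exists_embed g hx
      obtain ⟨j', hj'⟩ := exists_embed g' hx'
      let f : AdjoinRoot π →ₗ[F] F := (B x).comp j
      let f' : AdjoinRoot π →ₗ[F] F := (B' x').comp j'
      have hβ : ∀ a b, B (j a) (j b) = f (J a * b) := by
        intro a b
        obtain ⟨p, rfl⟩ := AdjoinRoot.mk_surjective a
        obtain ⟨r, rfl⟩ := AdjoinRoot.mk_surjective b
        rw [hj, hj, hJ, ← map_mul, hg.adjoint, ← Module.End.mul_apply, ← map_mul, ← hj]
        rfl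
      have hβ' : ∀ a b, B' (j' a) (j' b) = f' (J a * b) := by
        intro a b
        obtain ⟨p, rfl⟩ := AdjoinRoot.mk_surjective a
        obtain ⟨r, rfl⟩ := AdjoinRoot.mk_surjective b
        rw [hj', hj', hJ, ← map_mul, hg'.adjoint, ← Module.End.mul_apply, ← map_mul, ← hj']
        rfl
      have hf : f ≠ 0 := fun h => by
        obtain ⟨p, hp⟩ := hxp
        exact hp (by rw [← hj]; exact LinearMap.congr_fun h _)
      have hf' : f' ≠ 0 := fun h => by
        obtain ⟨p, hp⟩ := hxp'
        exact hp (by rw [← hj']; exact LinearMap.congr_fun h _)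
      obtain ⟨c, hc0, hc⟩ := exists_lin_scalar hπ f f' hf hf'
      have hsep : ∀ a : AdjoinRoot π, (∀ b, f (a * b) = 0) → a = 0 := fun a ha => by
        by_contra ha0
        apply hf
        refine LinearMap.ext fun k => ?_
        have := ha (a⁻¹ * k)
        rwa [← mul_assoc, mul_inv_cancel₀ ha0, one_mul] at this
      have hJc : J c = c := by
        rw [← sub_eq_zero]
        refine hsep _ fun k => ?_
        have h1 : f (c * k) = ε * σ (f (J k * c)) := by
          have h0 := hB'.swap (j' k) (j' 1)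
          rw [hβ', hβ', map_one, one_mul, mul_one, hc, hc, mul_comm c (J k)] at h0
          exact h0
        have h2 : f (J c * k) = ε * σ (f (J k * c)) := by
          rw [← hβ k c, ← hB.swap, hβ]
        rw [sub_mul, map_sub, h1, h2, sub_self]
      obtain ⟨d, hd0⟩ := exists_norm_fixed J hJJ hJne hJc
      have hd' : d ≠ 0 := fun h => hc0 (by rw [← hd0, h, zero_mul])
      refine exists_block_of_maps (B := B) (B' := B') (U := AdjoinRoot π) j.toAddMonoidHom
        (j'.comp (LinearMap.mulLeft F d⁻¹)).toAddMonoidHom ?_ (fun c a => c • a) (fun c a => (LinearMap.map_smul j c a).symm)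
        (fun c a => (LinearMap.map_smul (j'.comp (LinearMap.mulLeft F d⁻¹)) c a).symm) (fun a => AdjoinRoot.root π * a) (embed_root g j hj) (fun a => ?_)
        (fun a b => ?_) (fun a ha => ?_)
      · exact (embed_injective g' hπ (by rintro rfl; obtain ⟨p, hp⟩ := hxp'; simp at hp) hx' j' hj').comp
          (mul_right_injective₀ (inv_ne_zero hd'))
      · show g' (j' (d⁻¹ * a)) = j' (d⁻¹ * (AdjoinRoot.root π * a))
        rw [embed_root g' j' hj', mul_left_comm]
      · show B' (j' (d⁻¹ * a)) (j' (d⁻¹ * b)) = B (j a) (j b)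
        rw [hβ', hβ, hc]
        congr 1
        rw [map_mul J, map_inv₀ J, ← hd0]
        have hJd : J d ≠ 0 := fun h => hd' (J.injective (by rw [h, map_zero]))
        field_simp
      · have hJa : J a = 0 := hsep _ fun b => by rw [← hβ]; exact ha b
        exact J.injective (by rw [hJa, map_zero])
    · push Not at hd'
      exact (hg'.not_all_isotropic hB' hπ hdvd J hJ hJne hd' hne').elim
  · by_cases hd' : ∃ x', aeval g' π x' = 0 ∧ ∃ p : F[X], B' x' (aeval g' p x') ≠ 0
    · push Not at hd
      obtain ⟨x', hx', hxp'⟩ := hd'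
      obtain ⟨hdvd, J, hJ, -, hJne⟩ := hg'.exists_involution hB' hH' hπ hx' hxp'
      exact (hg.not_all_isotropic hB hπ hdvd J hJ hJne hd hne).elim
    · push Not at hd hd'
      obtain ⟨x, hx0, hx⟩ := hne
      obtain ⟨x₁, hx₁0, hx₁⟩ := hne'
      obtain ⟨y, hy, hxy⟩ := hg.exists_partner hB hx0 hx
      obtain ⟨y', hy', hxy'⟩ := hg'.exists_partner hB' hx₁0 hx₁
      obtain ⟨j, hj⟩ := exists_embed g hx
      obtain ⟨j₁, hj₁⟩ := exists_embed g' hx₁
      -- the pairing functionals
      obtain ⟨f, hf⟩ := exists_pairing hB j y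
      obtain ⟨f', hf'⟩ := exists_pairing hB' j₁ y'
      have hj1 : j 1 = x := by rw [← map_one (AdjoinRoot.mk π), hj, map_one, Module.End.one_apply]
      have hj₁1 : j₁ 1 = x₁ := by rw [← map_one (AdjoinRoot.mk π), hj₁, map_one, Module.End.one_apply]
      have hfne : f ≠ 0 := fun h => hxy (σ.injective (by
        rw [← hj1, ← hf, h, LinearMap.zero_apply, map_zero]))
      have hfne' : f' ≠ 0 := fun h => hxy' (σ.injective (by
        rw [← hj₁1, ← hf', h, LinearMap.zero_apply, map_zero]))
      obtain ⟨c, hc0, hc⟩ := exists_lin_scalar hπ f' f hfne' hfne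
      obtain ⟨pc, hpc⟩ := AdjoinRoot.mk_surjective c
      -- replace `x₁`
      set x' := j₁ c with hx'def
      have hx'π : aeval g' π x' = 0 := by
        rw [hx'def, ← hpc, hj₁, ← Module.End.mul_apply, ← map_mul, mul_comm, map_mul, Module.End.mul_apply, hx₁,
          map_zero]
      have hx'0 : x' ≠ 0 := fun h => hc0 (embed_injective g' hπ hx₁0 hx₁ j₁ hj₁ (by rw [map_zero, ← h]))
      obtain ⟨j', hj'⟩ := exists_embed g' hx'π
      have hjc : ∀ k, j' k = j₁ (c * k) := fun k => by
        obtain ⟨p, rfl⟩ := AdjoinRoot.mk_surjective k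
        rw [hj', hx'def, ← hpc, hj₁, ← Module.End.mul_apply, ← map_mul, ← map_mul, ← hj₁, mul_comm]
      have hpair : ∀ k, B' (j' k) y' = B (j k) y := fun k => σ.injective (by rw [hjc, ← hf', ← hc, hf])
      -- the semilinear companions
      obtain ⟨l, hlp⟩ := exists_coembed σ N g hy
      obtain ⟨l', hlp'⟩ := exists_coembed σ N g' hy'
      -- the four pairings
      have hjj : ∀ a b, B (j a) (j b) = 0 := fun a b => by
        obtain ⟨p, rfl⟩ := AdjoinRoot.mk_surjective a
        obtain ⟨r, rfl⟩ := AdjoinRoot.mk_surjective b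
        rw [hj, hj, hg.adjoint, ← Module.End.mul_apply, ← map_mul]
        exact hd x hx _
      have hjj' : ∀ a b, B' (j' a) (j' b) = 0 := fun a b => by
        obtain ⟨p, rfl⟩ := AdjoinRoot.mk_surjective a
        obtain ⟨r, rfl⟩ := AdjoinRoot.mk_surjective b
        rw [hj', hj', hg'.adjoint, ← Module.End.mul_apply, ← map_mul]
        exact hd' x' hx'π _
      have hll : ∀ a b, B (l a) (l b) = 0 := fun a b => by
        obtain ⟨p, rfl⟩ := AdjoinRoot.mk_surjective a
        obtain ⟨r, rfl⟩ := AdjoinRoot.mk_surjective b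
        rw [hlp, hlp, hg.adjoint, ← Module.End.mul_apply, ← map_mul]
        exact (hg.partner_cases hB hπ hy).elim (fun h => hd y h _) fun h => h _
      have hll' : ∀ a b, B' (l' a) (l' b) = 0 := fun a b => by
        obtain ⟨p, rfl⟩ := AdjoinRoot.mk_surjective a
        obtain ⟨r, rfl⟩ := AdjoinRoot.mk_surjective b
        rw [hlp', hlp', hg'.adjoint, ← Module.End.mul_apply, ← map_mul]
        exact (hg'.partner_cases hB' hπ hy').elim (fun h => hd' y' h _) fun h => h _
      have hjl : ∀ a b, B (j a) (l b) = B (j (b * a)) y := fun a b => by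
        obtain ⟨p, rfl⟩ := AdjoinRoot.mk_surjective a
        obtain ⟨r, rfl⟩ := AdjoinRoot.mk_surjective b
        rw [hlp, ← hg.adjoint, ← map_mul, hj, hj, ← Module.End.mul_apply, ← map_mul]
      have hjl' : ∀ a b, B' (j' a) (l' b) = B' (j' (b * a)) y' := fun a b => by
        obtain ⟨p, rfl⟩ := AdjoinRoot.mk_surjective a
        obtain ⟨r, rfl⟩ := AdjoinRoot.mk_surjective b
        rw [hlp', ← hg'.adjoint, ← map_mul, hj', hj', ← Module.End.mul_apply, ← map_mul]
      have hyj : B' x' y' = B x y := by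
        have := hpair 1
        rwa [hj1, ← map_one (AdjoinRoot.mk π), hj', map_one, Module.End.one_apply] at this
      refine exists_block_of_maps (B := B) (B' := B') (U := AdjoinRoot π × AdjoinRoot π)
        (j.toAddMonoidHom.coprod l) (j'.toAddMonoidHom.coprod l') ?_ (fun c u => (c • u.1, σ c • u.2))
        (fun c u => by simp [coembed_smul σ hB.invol N g l hlp]) (fun c u => by simp [coembed_smul σ hB.invol N g' l' hlp'])
        (fun u => (AdjoinRoot.root π * u.1, AdjoinRoot.root π ^ (N - 1) * u.2))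
        (fun u => by simp [embed_root g j hj, coembed_root σ N g hg.pred_pred l hlp])
        (fun u => by simp [embed_root g' j' hj', coembed_root σ N g' hg'.pred_pred l' hlp'])
        (fun u v => by
          simp only [AddMonoidHom.coprod_apply, LinearMap.toAddMonoidHom_coe, map_add, LinearMap.add_apply, hjj,
            hjj', hll, hll', hB'.swap (j' _) (l' _), hB.swap (j _) (l _), hjl, hjl', hpair]) ?_
      · rw [injective_iff_map_eq_zero]
        rintro ⟨a, b⟩ h
        simp only [AddMonoidHom.coprod_apply, LinearMap.toAddMonoidHom_coe] at h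
        have ha : a = 0 := by
          by_contra ha
          have h2 := congrArg (fun z => B' z (l' a⁻¹)) h
          simp only [map_add, LinearMap.add_apply, hjl', hll', add_zero, map_zero, LinearMap.zero_apply,
            inv_mul_cancel₀ ha] at h2
          rw [← map_one (AdjoinRoot.mk π), hj', map_one, Module.End.one_apply, hyj] at h2
          exact hxy h2
        have hb : b = 0 := by
          by_contra hb
          have h2 := congrArg (fun z => B' (j' b⁻¹) z) h
          simp only [map_add, hjl', hjj', zero_add, map_zero, mul_inv_cancel₀ hb] at h2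
          rw [← map_one (AdjoinRoot.mk π), hj', map_one, Module.End.one_apply, hyj] at h2
          exact hxy h2
        rw [ha, hb]
        rfl
      · rintro ⟨a, b⟩ h
        have ha : a = 0 := by
          by_contra ha
          have h2 := h (0, a⁻¹)
          simp only [AddMonoidHom.coprod_apply, LinearMap.toAddMonoidHom_coe, map_zero, zero_add, map_add,
            LinearMap.add_apply, hjl, hll, add_zero, inv_mul_cancel₀ ha, hj1] at h2
          exact hxy h2
        have hb : b = 0 := by
          by_contra hb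
          have h2 := h (b⁻¹, 0)
          simp only [AddMonoidHom.coprod_apply, LinearMap.toAddMonoidHom_coe, map_zero, add_zero, map_add,
            LinearMap.add_apply, hjj, zero_add] at h2
          have h3 := hB.swap (l b) (j b⁻¹)
          rw [h2, map_zero, mul_zero, hjl, mul_inv_cancel₀ hb, hj1] at h3
          exact hxy h3
        rw [ha, hb]
        rfl

omit [Finite F] in
/-- Split off a non-degenerate invariant subspace. -/
theorem exists_split {V : Type*} [AddCommGroup V] [Module F V] [FiniteDimensional F V]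
    {B : V →ₛₗ[σ] V →ₗ[F] F} (hB : IsHerm σ ε B) (W : Submodule F V)
    (hnd : ∀ a : W, (∀ w : W, B (a : V) (w : V) = 0) → a = 0) (g : End F V) (hmap : ∀ x y, B (g x) (g y) = B x y)
    (hst : ∀ w ∈ W, g w ∈ W) (P : Submodule F V) (hP : ∀ v, v ∈ P ↔ ∀ w : W, B (w : V) v = 0) :
    ∃ (e : (W × P) ≃ₗ[F] V) (hPst : ∀ x ∈ P, g x ∈ P),
      g.charpoly = (g.restrict hst).charpoly * (g.restrict hPst).charpoly ∧
      (∀ x : P, (∀ y : P, B (x : V) (y : V) = 0) → x = 0) ∧
      (∀ a c, g (e (a, c)) = e (g.restrict hst a, g.restrict hPst c)) ∧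
      ∀ a a' c c', B (e (a, c)) (e (a', c')) = B (a : V) (a' : V) + B (c : V) (c' : V) := by
  let b := Module.finBasis F W
  let T : V →ₗ[F] (Fin (finrank F W) → F) := LinearMap.pi fun i => B (b i : V)
  have hT : ∀ v, T v = 0 → ∀ w : W, B (w : V) v = 0 := by
    intro v hv w
    rw [← b.sum_repr w]
    simp only [Submodule.coe_sum, Submodule.coe_smul, map_sum, LinearMap.sum_apply, map_smulₛₗ,
      LinearMap.smul_apply]
    exact Finset.sum_eq_zero fun i _ => by rw [show B (b i : V) v = 0 from congrFun hv i, smul_zero]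
  have hzero : ∀ a : W, (∀ w : W, B (w : V) (a : V) = 0) → a = 0 := fun a ha =>
    hnd a fun w => by rw [hB.swap, ha, map_zero, mul_zero]
  have hinjW : Function.Injective (T.comp W.subtype) := by
    rw [injective_iff_map_eq_zero]
    exact fun a ha => hzero a (hT _ ha)
  have hsurjW := (LinearMap.injective_iff_surjective_of_finrank_eq_finrank (by simp)).1 hinjW
  let Φ : (W × P) →ₗ[F] V := W.subtype.coprod P.subtype
  have hΦ : Function.Bijective Φ := by
    constructor
    · rw [injective_iff_map_eq_zero]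
      rintro ⟨a, c⟩ h
      have h' : (a : V) + c = 0 := h
      have ha : a = 0 := hzero a fun w => by
        rw [eq_neg_of_add_eq_zero_left h', map_neg, (hP _).1 c.2 w, neg_zero]
      subst ha
      rw [Submodule.coe_zero, zero_add] at h'
      exact Prod.ext rfl (Subtype.ext h')
    · intro v
      obtain ⟨a, ha⟩ := hsurjW (T v)
      refine ⟨(a, ⟨v - a, (hP _).2 (hT _ ?_)⟩), add_sub_cancel _ _⟩
      rw [map_sub, sub_eq_zero]
      exact ha.symm
  have hgi : Function.Injective g := by
    rw [injective_iff_map_eq_zero]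
    exact fun x hx => hB.sep x fun y => by rw [← hmap, hx, map_zero, LinearMap.zero_apply]
  have hPst : ∀ x ∈ P, g x ∈ P := fun x hx => (hP _).2 fun w => by
    obtain ⟨w₀, hw₀⟩ := (LinearMap.injective_iff_surjective (f := g.restrict hst)).1
      (fun a b h => Subtype.ext (hgi (congrArg Subtype.val h))) w
    rw [← hw₀, LinearMap.restrict_coe_apply, hmap]
    exact (hP x).1 hx w₀
  have hgΦ : ∀ a c, g (Φ (a, c)) = Φ (g.restrict hst a, g.restrict hPst c) := fun a c => map_add g _ _
  have hform : ∀ a a' c c', B (Φ (a, c)) (Φ (a', c')) = B (a : V) (a' : V) + B (c : V) (c' : V) := by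
    intro a a' c c'
    simp [Φ, (hP _).1 c'.2 a, hB.swap (a' : V) (c : V), (hP _).1 c.2 a']
  refine ⟨LinearEquiv.ofBijective Φ hΦ, hPst, ?_, fun x hx => ?_, hgΦ, hform⟩
  · rw [← LinearMap.charpoly_prodMap, ← LinearEquiv.charpoly_conj (LinearEquiv.ofBijective Φ hΦ)]
    congr 1
    refine LinearMap.ext fun v => ?_
    obtain ⟨⟨a, c⟩, rfl⟩ := (LinearEquiv.ofBijective Φ hΦ).surjective v
    rw [LinearEquiv.conj_apply_apply, LinearEquiv.symm_apply_apply]
    exact hgΦ a c
  · refine Subtype.ext (hB.sep _ fun v => ?_)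
    obtain ⟨⟨a, c⟩, rfl⟩ := hΦ.2 v
    have := hx c
    simp [Φ, hB.swap (a : V) (x : V), (hP _).1 x.2 a, this]

/-- Semisimple isometries with equal characteristic polynomials are conjugate by an isometry. -/
theorem exists_isometric_conj : ∀ (n : ℕ) (V V' : Type u) [AddCommGroup V] [Module F V] [FiniteDimensional F V]
    [AddCommGroup V'] [Module F V'] [FiniteDimensional F V'] (B : V →ₛₗ[σ] V →ₗ[F] F)
    (B' : V' →ₛₗ[σ] V' →ₗ[F] F) (g : End F V) (g' : End F V'), finrank F V = n →
    IsHerm σ ε B → IsHerm σ ε B' → IsSSIsom B g N → IsSSIsom B' g' N →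
    (σ = RingHom.id F → ∀ v, g (g v) = v → B v v = 0) →
    (σ = RingHom.id F → ∀ v, g' (g' v) = v → B' v v = 0) → g.charpoly = g'.charpoly →
    ∃ e : V ≃ₗ[F] V', (∀ x, e (g x) = g' (e x)) ∧ ∀ x y, B' (e x) (e y) = B x y := by
  intro n
  induction n using Nat.strong_induction_on with
  | _ n ih =>
    intro V V' _ _ _ _ _ _ B B' g g' hn hB hB' hg hg' hH hH' hc
    have hn' : finrank F V' = n := by rw [← g'.charpoly_natDegree, ← hc, g.charpoly_natDegree, hn]
    rcases Nat.eq_zero_or_pos n with h0 | h0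
    · have : Subsingleton V' := Module.finrank_zero_iff.1 (hn'.trans h0)
      have : Subsingleton V := Module.finrank_zero_iff.1 (hn.trans h0)
      exact ⟨LinearEquiv.ofFinrankEq V V' (hn.trans hn'.symm), fun x => Subsingleton.elim _ _,
        fun x y => by rw [Subsingleton.elim x 0, map_zero, map_zero, map_zero, LinearMap.zero_apply,
          LinearMap.zero_apply]⟩
    obtain ⟨π, hπm, hπ, hdvd⟩ := Polynomial.exists_monic_irreducible_factor g.charpoly
      (fun hu => by
        have := natDegree_eq_zero_of_isUnit hu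
        rw [g.charpoly_natDegree, hn] at this
        omega)
    have hroot : ∀ {W : Type u} [AddCommGroup W] [Module F W] [FiniteDimensional F W] (f : End F W),
        π ∣ f.charpoly → ∃ x, x ≠ 0 ∧ aeval f π x = 0 :=
      fun f hf => exists_vec_of_dvd f hπ hf
    obtain ⟨b⟩ := exists_block hB hB' hg hg' hH hH' hπm hπ (hroot g hdvd) (hroot g' (hc ▸ hdvd))
    -- orthogonal complements
    let P : Submodule F V := ⨅ w : b.W, LinearMap.ker (B (w : V))
    let P' : Submodule F V' := ⨅ w : b.W', LinearMap.ker (B' (w : V'))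
    have hmemP : ∀ v, v ∈ P ↔ ∀ w : b.W, B (w : V) v = 0 := fun v => by simp [P]
    have hmemP' : ∀ v, v ∈ P' ↔ ∀ w : b.W', B' (w : V') v = 0 := fun v => by simp [P']
    have hnd' : ∀ a : b.W', (∀ w : b.W', B' (a : V') (w : V') = 0) → a = 0 := by
      intro a ha
      obtain ⟨a, rfl⟩ := b.φ.surjective a
      rw [b.nondeg a fun w => by rw [← b.form]; exact ha (b.φ w), map_zero]
    obtain ⟨eP, hPst, hcp, hPB, hPg, hPform⟩ := exists_split hB b.W b.nondeg g hg.map b.stable P hmemP
    obtain ⟨eP', hPst', hcp', hPB', hPg', hPform'⟩ := exists_split hB' b.W' hnd' g' hg'.map b.stable' P' hmemP'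
    have hlt : finrank F P < n := by
      have h1 := eP.finrank_eq
      rw [Module.finrank_prod, hn] at h1
      obtain ⟨w, hw⟩ := b.ne
      have : Nontrivial b.W := ⟨⟨w, 0, hw⟩⟩
      have := Module.finrank_pos (R := F) (M := b.W)
      omega
    have hφc : (g.restrict b.stable).charpoly = (g'.restrict b.stable').charpoly := by
      rw [← LinearEquiv.charpoly_conj b.φ]
      congr 1
      refine LinearMap.ext fun w => Subtype.ext ?_
      rw [LinearEquiv.conj_apply_apply, LinearMap.restrict_coe_apply]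
      conv_rhs => rw [show (w : V') = (b.φ (b.φ.symm w) : V') by rw [LinearEquiv.apply_symm_apply], b.comm]
      rfl
    have hpow : ∀ {W : Type u} [AddCommGroup W] [Module F W] (f : End F W) (S : Submodule F W)
        (hS : ∀ x ∈ S, f x ∈ S), f ^ N = 1 → (f.restrict hS) ^ N = 1 := fun f S hS hf => by
      refine LinearMap.ext fun x => Subtype.ext ?_
      rw [Module.End.pow_restrict, LinearMap.restrict_coe_apply, hf]
      rfl
    obtain ⟨d, hd, hdB⟩ := ih _ hlt P P' ((B.comp P.subtype).flip.comp P.subtype).flip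
      ((B'.comp P'.subtype).flip.comp P'.subtype).flip (g.restrict hPst) (g'.restrict hPst') rfl
      ⟨fun x y => hB.swap _ _, hB.invol, hPB⟩ ⟨fun x y => hB'.swap _ _, hB'.invol, hPB'⟩
      ⟨fun x y => hg.map _ _, hpow g P hPst hg.pow, hg.unit⟩
      ⟨fun x y => hg'.map _ _, hpow g' P' hPst' hg'.pow, hg'.unit⟩
      (fun hσ v hv => hH hσ v (congrArg Subtype.val hv)) (fun hσ v hv => hH' hσ v (congrArg Subtype.val hv))
      (mul_left_cancel₀ (LinearMap.charpoly_monic _).ne_zero (hcp.symm.trans (hc.trans (hcp'.trans (by rw [hφc])))))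
    refine ⟨eP.symm.trans ((b.φ.prodCongr d).trans eP'), fun x => ?_, fun x y => ?_⟩
    · obtain ⟨⟨a, c⟩, rfl⟩ := eP.surjective x
      rw [hPg]
      simp only [LinearEquiv.trans_apply, LinearEquiv.symm_apply_apply, LinearEquiv.prodCongr_apply]
      rw [hPg', ← hd]
      exact congrArg (fun z => eP' (z, _)) (Subtype.ext (b.comm a).symm)
    · obtain ⟨⟨a, c⟩, rfl⟩ := eP.surjective x
      obtain ⟨⟨a', c'⟩, rfl⟩ := eP.surjective y
      simp only [LinearEquiv.trans_apply, LinearEquiv.symm_apply_apply, LinearEquiv.prodCongr_apply]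
      rw [hPform, hPform', b.form]
      exact congrArg (B (a : V) (a' : V) + ·) (hdB c c')

end Cfsg.Agent.Semisimple
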