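/-
Isometries of odd prime order of quadratic spaces: fixed space and moved space, conjugacy by characteristic
polynomial.
-/
import Mathlib
import Cfsg.Agent.Lib.Semisimple.Isometry
import Cfsg.Agent.Lib.Semisimple.Duality
import Cfsg.Agent.Lib.Forms.Witt

set_option autoImplicit false
set_option linter.unusedSectionVars false

open Polynomial Module

namespace Cfsg.Agent.Semisimple

section Moved

variable {F V : Type*} [Field F] [AddCommGroup V] [Module F V] [FiniteDimensional F V] {r : ℕ} {f : End F V}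

theorem isCompl_moved (hf : f ^ r = 1) (hr : (r : F) ≠ 0) :
    IsCompl (LinearMap.range (f - 1)) (LinearMap.ker (f - 1)) := by
  have h : IsSSIsom (σ := RingHom.id F) (0 : V →ₗ[F] V →ₗ[F] F) f r := ⟨fun _ _ => rfl, hf, hr⟩
  have hP : aeval f (X - 1 : F[X]) = f - 1 := by simp
  refine ⟨?_, ?_⟩
  · rw [Submodule.disjoint_def]
    rintro _ ⟨y, rfl⟩ hx
    rw [LinearMap.mem_ker, ← hP] at hx
    rw [← hP]
    exact h.aeval_sq_eq_zero _ hx
  · rw [codisjoint_iff, eq_top_iff]
    intro v _
    obtain ⟨w₀, w, hw₀, rfl⟩ := h.exists_decomp (X - 1 : F[X]) v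
    rw [hP] at hw₀ ⊢
    rw [add_comm]
    exact Submodule.add_mem_sup ⟨w, rfl⟩ hw₀

theorem moved_stable (f : End F V) : ∀ x ∈ LinearMap.range (f - 1), f x ∈ LinearMap.range (f - 1) := by
  rintro _ ⟨y, rfl⟩
  exact ⟨f y, by simp⟩

theorem moved_fixed (hf : f ^ r = 1) (hr : (r : F) ≠ 0) {x : V} (hx : x ∈ LinearMap.range (f - 1))
    (hfx : f x = x) : x = 0 :=
  (Submodule.disjoint_def.1 (isCompl_moved hf hr).disjoint) x hx (by simp [hfx])

theorem restrict_pow_eq_one {W : Submodule F V} (hW : ∀ x ∈ W, f x ∈ W) {n : ℕ} (h : f ^ n = 1) :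
    (f.restrict hW) ^ n = 1 := by
  refine LinearMap.ext fun x => Subtype.ext ?_
  rw [Module.End.pow_restrict]
  show (f ^ n) (x : V) = x
  rw [h]
  rfl

theorem odd_fixed (hf : f ^ r = 1) (ho : Odd r) {x : V} (h : f (f x) = x) : f x = x := by
  obtain ⟨k, hk⟩ := ho
  have h2 : ∀ j : ℕ, (f ^ (2 * j)) x = x := by
    intro j
    induction j with
    | zero => simp
    | succ j ih => rw [mul_add, mul_one, pow_add, Module.End.mul_apply, pow_two, Module.End.mul_apply, h, ih]
  have h3 := congrArg (fun T : End F V => T x) hf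
  simp only [Module.End.one_apply] at h3
  rw [hk, pow_succ', Module.End.mul_apply, h2] at h3
  exact h3

end Moved

variable {F : Type*} [Field F] [Fintype F] {r : ℕ} [Fact r.Prime] {K : Type} [Field K] [Algebra F K] [Finite K]
  {ζ : K}

namespace RootField

variable (hK : RootField F r K ζ)
include hK

/-- A fixed vector leaves less room for the non-trivial orbits. -/
theorem orbMult_lt_of_fixed {V : Type*} [AddCommGroup V] [Module F V] [FiniteDimensional F V] (f : End F V)
    (hf : f ^ r = 1) {v : V} (hv0 : v ≠ 0) (hv : f v = v) :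
    orderOf (Fintype.card F : ZMod r) * ∑ c, (orbMult ζ f : Orb F r → ℕ) c < finrank F V := by
  have hc := isCompl_moved hf hK.unit
  let e := Submodule.prodEquivOfIsCompl _ _ hc
  let g : End F (LinearMap.range (f - 1) × LinearMap.ker (f - 1)) :=
    (f.restrict (moved_stable f)).prodMap 1
  have hconj : e.conj g = f := by
    refine LinearMap.ext fun x => ?_
    obtain ⟨⟨a, b⟩, rfl⟩ := e.surjective x
    rw [LinearEquiv.conj_apply_apply, LinearEquiv.symm_apply_apply]
    have hb : f (b : V) = b := by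
      have := b.2
      rw [LinearMap.mem_ker, LinearMap.sub_apply, Module.End.one_apply, sub_eq_zero] at this
      exact this
    show f (a : V) + (b : V) = f ((a : V) + b)
    rw [map_add, hb]
  have hmult : (orbMult ζ f : Orb F r → ℕ) = orbMult ζ (f.restrict (moved_stable f)) := by
    rw [← hconj, orbMult_conj, hK.orbMult_prodMap, hK.orbMult_one, add_zero]
    rw [hconj]
  have h1 := hK.orbMult_le (f.restrict (moved_stable f)) (restrict_pow_eq_one _ hf)
  have h2 := e.finrank_eq
  rw [Module.finrank_prod] at h2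
  have h3 : 0 < finrank F (LinearMap.ker (f - 1)) := by
    have : Nontrivial (LinearMap.ker (f - 1)) :=
      ⟨⟨⟨v, by simp [hv]⟩, 0, fun h => hv0 (congrArg Subtype.val h)⟩⟩
    exact Module.finrank_pos
  rw [hmult]
  omega

end RootField

universe u

variable {V V' : Type u} [AddCommGroup V] [Module F V] [FiniteDimensional F V] [AddCommGroup V'] [Module F V']
  [FiniteDimensional F V']

theorem isHerm_polar (Q : QuadraticForm F V) (hQ : (QuadraticMap.polarBilin Q).Nondegenerate) :
    IsHerm (RingHom.id F) (1 : F) (QuadraticMap.polarBilin Q) :=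
  ⟨fun x y => by
    show QuadraticMap.polar ⇑Q y x = 1 * RingHom.id F (QuadraticMap.polar ⇑Q x y)
    rw [one_mul, RingHom.id_apply, QuadraticMap.polar_comm], fun _ => rfl, hQ.1⟩

theorem polar_map {Q : QuadraticForm F V} {Q' : QuadraticForm F V'} (T : V →ₗ[F] V') (h : ∀ x, Q' (T x) = Q x)
    (x y : V) : QuadraticMap.polar ⇑Q' (T x) (T y) = QuadraticMap.polar ⇑Q x y := by
  simp only [QuadraticMap.polar]
  rw [← map_add, h, h, h]

/-- Fixed-point-free isometries with equal characteristic polynomials are conjugate by an isometry. -/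
theorem exists_isometry_of_fpf {V V' : Type u} [AddCommGroup V] [Module F V] [FiniteDimensional F V]
    [AddCommGroup V'] [Module F V'] [FiniteDimensional F V'] (Q : QuadraticForm F V) (Q' : QuadraticForm F V')
    (hQ : (QuadraticMap.polarBilin Q).Nondegenerate) (hQ' : (QuadraticMap.polarBilin Q').Nondegenerate)
    (f : End F V) (f' : End F V') (hf : f ^ r = 1) (hf' : f' ^ r = 1) (hr : (r : F) ≠ 0) (ho : Odd r)
    (hQf : ∀ x, Q (f x) = Q x) (hQf' : ∀ x, Q' (f' x) = Q' x) (hfix : ∀ x, f x = x → x = 0)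
    (hfix' : ∀ x, f' x = x → x = 0) (hc : f.charpoly = f'.charpoly) :
    ∃ φ : V ≃ₗ[F] V', (∀ x, φ (f x) = f' (φ x)) ∧ ∀ x, Q' (φ x) = Q x := by
  obtain ⟨φ, hφ, hB⟩ := exists_isometric_conj (N := r) _ V V' (QuadraticMap.polarBilin Q)
    (QuadraticMap.polarBilin Q') f f' rfl (isHerm_polar Q hQ) (isHerm_polar Q' hQ')
    ⟨fun x y => polar_map f hQf x y, hf, hr⟩ ⟨fun x y => polar_map f' hQf' x y, hf', hr⟩
    (fun _ x hx => by rw [hfix x (odd_fixed hf ho hx)]; simp)
    (fun _ x hx => by rw [hfix' x (odd_fixed hf' ho hx)]; simp) hc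
  refine ⟨φ, hφ, fun x => ?_⟩
  obtain ⟨y, rfl⟩ := (LinearMap.injective_iff_surjective (f := f - 1)).1 (by
    rw [injective_iff_map_eq_zero]
    exact fun z hz => hfix z (sub_eq_zero.1 hz)) x
  have hp : ∀ a b, QuadraticMap.polar ⇑Q' (φ a) (φ b) = QuadraticMap.polar ⇑Q a b := hB
  have hy : 2 * Q' (φ y) = 2 * Q y := by
    have := hp y y
    rwa [QuadraticMap.polar_self, QuadraticMap.polar_self, nsmul_eq_mul, nsmul_eq_mul, Nat.cast_ofNat] at this
  have e : (f - 1) y = f y - y := rfl
  have e1 : Q (f y - y) = Q (f y) + Q y - QuadraticMap.polar ⇑Q (f y) y := by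
    rw [sub_eq_add_neg, Forms.quadratic_map_add, QuadraticMap.map_neg, map_neg,
      QuadraticMap.polarBilin_apply_apply]
    ring
  have e2 : Q' (f' (φ y) - φ y) = Q' (f' (φ y)) + Q' (φ y) - QuadraticMap.polar ⇑Q' (f' (φ y)) (φ y) := by
    rw [sub_eq_add_neg, Forms.quadratic_map_add, QuadraticMap.map_neg, map_neg,
      QuadraticMap.polarBilin_apply_apply]
    ring
  rw [e, map_sub, e1, hφ, e2, hQf, hQf', ← hφ, hp]
  linear_combination hy

/-- Isometries of odd prime order with equal characteristic polynomials are conjugate in the orthogonal group. -/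
theorem exists_orth_conj (Q : QuadraticForm F V) (hQ : (QuadraticMap.polarBilin Q).Nondegenerate)
    (f f' : End F V) (hf : f ^ r = 1) (hf' : f' ^ r = 1) (hr : (r : F) ≠ 0) (ho : Odd r)
    (hQf : ∀ x, Q (f x) = Q x) (hQf' : ∀ x, Q (f' x) = Q x) (hc : f.charpoly = f'.charpoly) :
    ∃ τ : V ≃ₗ[F] V, (∀ x, τ (f x) = f' (τ x)) ∧ ∀ x, Q (τ x) = Q x := by
  have hss : ∀ g : End F V, g ^ r = 1 → SS (K := F) g := fun g hg =>
    ⟨X ^ r - C 1, (separable_X_pow_sub_C 1 hr one_ne_zero).squarefree, by simp [hg]⟩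
  obtain ⟨T, hT⟩ := exists_intertwine (finrank F V) V V f f' rfl (hss f hf) (hss f' hf') hc
  have hmap : ∀ x, x ∈ LinearMap.range (f - 1) ↔ T x ∈ LinearMap.range (f' - 1) := by
    intro x
    constructor
    · rintro ⟨y, rfl⟩
      exact ⟨T y, by simp [hT]⟩
    · rintro ⟨y, hy⟩
      exact ⟨T.symm y, T.injective (by rw [← hy]; simp [hT])⟩
  let R := LinearMap.range (f - 1)
  let R' := LinearMap.range (f' - 1)
  let TR : R ≃ₗ[F] R' := T.ofSubmodules R R' (le_antisymm
    (by rintro _ ⟨x, hx, rfl⟩; exact (hmap x).1 hx)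
    (fun y hy => ⟨T.symm y, (hmap _).2 (by rw [LinearEquiv.apply_symm_apply]; exact hy), T.apply_symm_apply y⟩))
  have hcR : (f.restrict (moved_stable f)).charpoly = (f'.restrict (moved_stable f')).charpoly := by
    rw [← LinearEquiv.charpoly_conj TR]
    congr 1
    refine LinearMap.ext fun y => ?_
    obtain ⟨x, rfl⟩ := TR.surjective y
    rw [LinearEquiv.conj_apply_apply, LinearEquiv.symm_apply_apply]
    exact Subtype.ext (hT x)
  -- the moved spaces are non-degenerate, the fixed spaces are their orthogonals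
  have horth : ∀ (g : End F V), (∀ x, Q (g x) = Q x) → ∀ x k, x ∈ LinearMap.range (g - 1) → g k = k →
      QuadraticMap.polar ⇑Q x k = 0 := by
    rintro g hg _ k ⟨y, rfl⟩ hk
    rw [LinearMap.sub_apply, Module.End.one_apply, QuadraticMap.polar_sub_left]
    conv_lhs => arg 1; arg 3; rw [← hk]
    rw [polar_map g hg, sub_self]
  have hnd : ∀ (g : End F V) (hg : g ^ r = 1), (∀ x, Q (g x) = Q x) →
      (QuadraticMap.polarBilin (Q.comp (LinearMap.range (g - 1)).subtype)).Nondegenerate := by
    intro g hg hQg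
    have hl : ∀ x : LinearMap.range (g - 1), (∀ y : LinearMap.range (g - 1),
        QuadraticMap.polar ⇑Q (x : V) y = 0) → x = 0 := by
      intro x hx
      refine Subtype.ext (hQ.1 (x : V) fun z => ?_)
      have hz : z ∈ LinearMap.range (g - 1) ⊔ LinearMap.ker (g - 1) := by
        rw [(isCompl_moved hg hr).sup_eq_top]; trivial
      obtain ⟨a, ha, k, hk, rfl⟩ := Submodule.mem_sup.1 hz
      rw [LinearMap.mem_ker, LinearMap.sub_apply, Module.End.one_apply, sub_eq_zero] at hk
      rw [map_add, QuadraticMap.polarBilin_apply_apply, QuadraticMap.polarBilin_apply_apply,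
        hx ⟨a, ha⟩, horth g hQg _ _ x.2 hk, add_zero]
    exact ⟨fun x hx => hl x hx, fun y hy => hl y fun x => by rw [QuadraticMap.polar_comm]; exact hy x⟩
  obtain ⟨φ, hφ, hφQ⟩ := exists_isometry_of_fpf (r := r) (Q.comp R.subtype) (Q.comp R'.subtype) (hnd f hf hQf)
    (hnd f' hf' hQf') (f.restrict (moved_stable f)) (f'.restrict (moved_stable f')) (restrict_pow_eq_one _ hf)
    (restrict_pow_eq_one _ hf') hr ho (fun x => hQf _) (fun x => hQf' _)
    (fun x hx => Subtype.ext (moved_fixed hf hr x.2 (congrArg Subtype.val hx)))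
    (fun x hx => Subtype.ext (moved_fixed hf' hr x.2 (congrArg Subtype.val hx))) hcR
  obtain ⟨τ, hτ, hτR⟩ := Forms.witt_quadratic hQ R (R'.subtype ∘ₗ φ.toLinearMap)
    (R'.subtype_injective.comp φ.injective) fun x => hφQ x
  have hτQ : ∀ x, Q (τ x) = Q x := fun x => hτ x x
  refine ⟨τ, fun x => ?_, hτQ⟩
  have hx : x ∈ R ⊔ LinearMap.ker (f - 1) := by
    show x ∈ LinearMap.range (f - 1) ⊔ LinearMap.ker (f - 1)
    rw [(isCompl_moved hf hr).sup_eq_top]; trivial
  obtain ⟨a, ha, k, hk, rfl⟩ := Submodule.mem_sup.1 hx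
  rw [LinearMap.mem_ker, LinearMap.sub_apply, Module.End.one_apply, sub_eq_zero] at hk
  have h1 : τ (f a) = f' (τ a) := by
    rw [hτR ⟨f a, moved_stable f a ha⟩, hτR ⟨a, ha⟩]
    exact congrArg Subtype.val (hφ ⟨a, ha⟩)
  -- `τ k` is orthogonal to the moved space of `f'`, hence fixed
  have h2 : f' (τ k) = τ k := by
    have hperp : ∀ b ∈ R', QuadraticMap.polar ⇑Q b (τ k) = 0 := by
      intro b hb
      obtain ⟨c, hc'⟩ := φ.surjective ⟨b, hb⟩
      have hb' : τ (c : V) = b := by rw [hτR c]; exact congrArg Subtype.val hc'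
      rw [← hb']
      rw [show QuadraticMap.polar ⇑Q (τ (c : V)) (τ k) = QuadraticMap.polar ⇑Q (c : V) k from
        polar_map (τ : V →ₗ[F] V) hτQ _ _]
      exact horth f hQf _ _ c.2 hk
    refine sub_eq_zero.1 (hQ.1 _ fun z => ?_)
    rw [map_sub, LinearMap.sub_apply, QuadraticMap.polarBilin_apply_apply, QuadraticMap.polarBilin_apply_apply,
      sub_eq_zero]
    obtain ⟨w, rfl⟩ := (LinearMap.injective_iff_surjective (f := f')).1 (fun u v huv => by
      have hinv : ∀ u : V, (f' ^ (r - 1)) (f' u) = u := fun u => by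
        rw [← Module.End.mul_apply, ← pow_succ, Nat.sub_add_cancel (Fact.out : r.Prime).one_lt.le, hf',
          Module.End.one_apply]
      rw [← hinv u, huv, hinv]) z
    rw [polar_map f' hQf']
    have := hperp (f' w - w) ⟨w, rfl⟩
    rw [QuadraticMap.polar_sub_left, sub_eq_zero] at this
    rw [QuadraticMap.polar_comm ⇑Q (τ k) w, QuadraticMap.polar_comm ⇑Q (τ k) (f' w), this]
  rw [map_add, hk, map_add, map_add, map_add, h1, h2]

end Cfsg.Agent.Semisimple
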