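/-
Orthogonal realisations of elements of odd prime order, and the type of the space such an element fills.
-/
import Mathlib
import Cfsg.Agent.Lib.Semisimple.OrthConj
import Cfsg.Agent.Lib.QForm.Classify

set_option autoImplicit false
set_option linter.unusedSectionVars false

open Polynomial Module

namespace Cfsg.Agent.Semisimple

variable {F : Type*} [Field F] [Fintype F]

theorem exists_binary_anisotropic :
    ∃ a b : F, ∀ z₁ z₂ : F, z₁ ^ 2 + a * z₁ * z₂ + b * z₂ ^ 2 = 0 → z₁ = 0 ∧ z₂ = 0 := by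
  have h : ¬ Function.Surjective fun x : F => x * x + x := fun hs => by
    have := (Finite.injective_iff_surjective.2 hs) (a₁ := 0) (a₂ := -1) (by ring)
    simp at this
  simp only [Function.Surjective, not_forall, not_exists] at h
  obtain ⟨c, hc⟩ := h
  refine ⟨1, -c, fun z₁ z₂ hz => ?_⟩
  by_cases h2 : z₂ = 0
  · subst h2
    simp at hz
    exact ⟨hz, rfl⟩
  · exact absurd (by field_simp; linear_combination hz) (hc (z₁ / z₂))

theorem binQ_nondegenerate {a b : F}
    (hab : ∀ z₁ z₂ : F, z₁ ^ 2 + a * z₁ * z₂ + b * z₂ ^ 2 = 0 → z₁ = 0 ∧ z₂ = 0) :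
    (QuadraticMap.polarBilin (Forms.binQ a b)).Nondegenerate :=
  Forms.polar_nondegenerate_of_equiv (Forms.binCoord F).symm
    (fun v => by rw [← Forms.binQ_binCoord, LinearEquiv.apply_symm_apply]) (Forms.quadMinus_nondegenerate 0 hab)

theorem prod_nondegenerate {V W : Type*} [AddCommGroup V] [Module F V] [AddCommGroup W] [Module F W]
    {Q : QuadraticForm F V} {Q' : QuadraticForm F W} (h : (QuadraticMap.polarBilin Q).Nondegenerate)
    (h' : (QuadraticMap.polarBilin Q').Nondegenerate) :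
    (QuadraticMap.polarBilin (Q.prod Q')).Nondegenerate := by
  have key : ∀ p, (∀ p', QuadraticMap.polar ⇑(Q.prod Q') p p' = 0) → p = 0 := by
    intro p hp
    refine Prod.ext (h.1 _ fun y => ?_) (h'.1 _ fun y => ?_)
    · simpa using hp (y, 0)
    · simpa using hp (0, y)
  exact ⟨key, fun p hp => key p fun p' => by rw [QuadraticMap.polar_comm]; exact hp p'⟩

variable {r : ℕ} [Fact r.Prime] {K : Type} [Field K] [Algebra F K] [Finite K] {ζ : K}

/-- `Q` has an isometry of order dividing `r` with the given orbit multiplicities. -/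
def Realises {V : Type*} [AddCommGroup V] [Module F V] [FiniteDimensional F V] (ζ : K)
    (Q : QuadraticForm F V) (a : Orb F r → ℕ) : Prop :=
  ∃ f : End F V, f ^ r = 1 ∧ (∀ x, Q (f x) = Q x) ∧ (orbMult ζ f : Orb F r → ℕ) = a

variable {V W : Type*} [AddCommGroup V] [Module F V] [FiniteDimensional F V] [AddCommGroup W] [Module F W]
  [FiniteDimensional F W]

theorem Realises.transport {Q : QuadraticForm F V} {Q' : QuadraticForm F W} {a : Orb F r → ℕ}
    (h : Realises ζ Q a) (e : V ≃ₗ[F] W) (he : ∀ x, Q' (e x) = Q x) : Realises ζ Q' a := by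
  obtain ⟨f, hf, hQ, ha⟩ := h
  refine ⟨e.conj f, ?_, fun y => ?_, (RootField.orbMult_conj f e).trans ha⟩
  · show (e.conjRingEquiv f) ^ r = 1
    rw [← map_pow, hf, map_one]
  · obtain ⟨x, rfl⟩ := e.surjective y
    rw [LinearEquiv.conj_apply_apply, LinearEquiv.symm_apply_apply, he, he, hQ]

theorem Realises.of_scale {Q : QuadraticForm F V} {Q' : QuadraticForm F W} {a : Orb F r → ℕ}
    (h : Realises ζ Q a) (e : V ≃ₗ[F] W) {c : F} (hc : c ≠ 0) (he : ∀ x, c * Q' (e x) = Q x) :
    Realises ζ Q' a := by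
  obtain ⟨f, hf, hQ, ha⟩ := h.transport (Q' := c • Q') e fun x => by simpa using he x
  exact ⟨f, hf, fun x => mul_left_cancel₀ hc (by simpa using hQ x), ha⟩

theorem prodMap_pow {f : End F V} {g : End F W} (n : ℕ) : (f.prodMap g) ^ n = (f ^ n).prodMap (g ^ n) := by
  induction n with
  | zero => exact LinearMap.ext fun x => rfl
  | succ n ih =>
    rw [pow_succ, ih, pow_succ f, pow_succ g]
    exact LinearMap.ext fun x => rfl

theorem prodMap_one_one :
    LinearMap.prodMap (1 : End F V) (1 : End F W) = 1 := LinearMap.ext fun _ => rfl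

namespace RootField

variable (hK : RootField F r K ζ)
include hK

theorem realises_prod {Q : QuadraticForm F V} {a : Orb F r → ℕ} (h : Realises ζ Q a) (Q' : QuadraticForm F W) :
    Realises ζ (Q.prod Q') a ∧ Realises ζ (Q'.prod Q) a := by
  obtain ⟨f, hf, hQ, ha⟩ := h
  refine ⟨⟨f.prodMap 1, ?_, fun x => ?_, ?_⟩, ⟨(1 : End F W).prodMap f, ?_, fun x => ?_, ?_⟩⟩
  · rw [prodMap_pow, hf, one_pow, prodMap_one_one]
  · simp [hQ]
  · rw [hK.orbMult_prodMap, hK.orbMult_one, add_zero, ha]
  · rw [prodMap_pow, hf, one_pow, prodMap_one_one]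
  · simp [hQ]
  · rw [hK.orbMult_prodMap, hK.orbMult_one, zero_add, ha]

theorem realises_plus_mono {a : Orb F r → ℕ} {j m : ℕ} (h : Realises ζ (Forms.quadPlus j F) a) (hjm : j ≤ m) :
    Realises ζ (Forms.quadPlus m F) a := by
  induction m, hjm using Nat.le_induction with
  | base => exact h
  | succ n _ ih =>
    exact (hK.realises_prod ih _).2.transport (Forms.splitPair n F).symm
      fun p => by
        rw [← Forms.quadPlus_succ, LinearEquiv.apply_symm_apply]
        rfl

theorem realises_minus_mono {a : Orb F r → ℕ} {A B : F} {j m : ℕ}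
    (h : Realises ζ (Forms.quadMinus j F A B) a) (hjm : j ≤ m) : Realises ζ (Forms.quadMinus m F A B) a := by
  induction m, hjm using Nat.le_induction with
  | base => exact h
  | succ n _ ih =>
    exact (hK.realises_prod ih _).2.transport (Forms.splitMinus n F).symm
      fun p => by
        rw [← Forms.quadMinus_succ, LinearEquiv.apply_symm_apply]
        rfl

/-- A plus space and an anisotropic plane make a minus space. -/
theorem realises_minus_of_plus {a : Orb F r → ℕ} {j : ℕ} (A B : F) (h : Realises ζ (Forms.quadPlus j F) a) :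
    Realises ζ (Forms.quadMinus j F A B) a :=
  (hK.realises_prod h (Forms.binQ A B)).1.transport
    (((LinearEquiv.refl F _).prodCongr (LinearEquiv.finTwoArrow F F).symm).trans
      (LinearEquiv.sumArrowLequivProdArrow _ _ F F).symm) fun p => by
    simp [Forms.quadMinus, Forms.quadPlus, Forms.binQ_apply, LinearEquiv.sumArrowLequivProdArrow_symm_apply_inl,
      LinearEquiv.sumArrowLequivProdArrow_symm_apply_inr]
    ring

/-- Any even-dimensional realisation gives one in the odd-dimensional group. -/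
theorem realises_odd (h2 : (2 : F) ≠ 0) {Q : QuadraticForm F V} (hQ : (QuadraticMap.polarBilin Q).Nondegenerate)
    {j m : ℕ} (hd : finrank F V = 2 * j) (hjm : j ≤ m) {a : Orb F r → ℕ} (h : Realises ζ Q a) :
    Realises ζ (Forms.quadOdd m F) a := by
  obtain ⟨c, hc, e, he⟩ := QForm.exists_iso_odd h2 m (Q.prod (Forms.quadOdd (m - j) F))
    (prod_nondegenerate hQ (Forms.quadOdd_nondegenerate h2 _)) (by simp [hd]; omega)
  exact (hK.realises_prod h _).1.of_scale e hc fun x => by rw [Forms.quadOdd_apply]; exact he x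

/-- The block: `K` with a non-degenerate quadratic form preserved by every `r`-th root of unity. -/
theorem exists_quad_block (hr2 : r ≠ 2) (hi : Even (orderOf (Fintype.card F : ZMod r))) :
    ∃ Q : QuadraticForm F K, (QuadraticMap.polarBilin Q).Nondegenerate ∧
      ∀ (u : ZMod r) x, Q (ev ζ u * x) = Q x := by
  obtain ⟨k, hk⟩ := hi
  obtain ⟨J, hJJ, hJu, -⟩ := hK.exists_inverter hr2 hk
  let B : LinearMap.BilinForm F K :=
    LinearMap.mk₂ F (fun a b => Algebra.trace F K (ζ * J a * b))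
      (fun a a' b => by simp [mul_add, add_mul]) (fun c a b => by simp [mul_smul_comm, smul_mul_assoc])
      (fun a b b' => by simp [mul_add]) (fun c a b => by simp [mul_smul_comm])
  have hp : ∀ x y, QuadraticMap.polar ⇑(LinearMap.BilinMap.toQuadraticMap B) x y =
      Algebra.trace F K ((ζ + J ζ) * J x * y) := by
    intro x y
    rw [LinearMap.BilinMap.polar_toQuadraticMap]
    show Algebra.trace F K (ζ * J x * y) + Algebra.trace F K (ζ * J y * x) = _
    have h1 : J (ζ * J y * x) = J ζ * y * J x := by rw [map_mul, map_mul, hJJ]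
    rw [← Algebra.trace_eq_of_algEquiv J (ζ * J y * x), h1, ← map_add]
    congr 1
    ring
  have hθ : ζ + J ζ ≠ 0 := by
    intro h0
    have hu := hJu 1
    rw [show ev ζ (1 : ZMod r) = ζ by rw [← Nat.cast_one, hK.ev_natCast, pow_one],
      eq_neg_of_add_eq_zero_right h0] at hu
    have h4 : ζ ^ 4 = 1 := by linear_combination (1 - ζ ^ 2) * hu
    have hd := (hK.prim.pow_eq_one_iff_dvd 4).1 h4
    have hr := (Fact.out : r.Prime)
    exact hr2 ((Nat.prime_dvd_prime_iff_eq hr Nat.prime_two).1 (hr.dvd_of_dvd_pow (n := 2) hd))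
  have key : ∀ x, (∀ y, QuadraticMap.polar ⇑(LinearMap.BilinMap.toQuadraticMap B) x y = 0) → x = 0 := by
    intro x hx
    have h0 : (ζ + J ζ) * J x = 0 := (traceForm_nondegenerate F K).1 _ fun y => by
      have := hx y
      rw [hp] at this
      exact this
    exact J.injective (((mul_eq_zero.1 h0).resolve_left hθ).trans (map_zero J).symm)
  refine ⟨LinearMap.BilinMap.toQuadraticMap B,
    ⟨key, fun x hx => key x fun y => by rw [QuadraticMap.polar_comm]; exact hx y⟩, fun u x => ?_⟩
  show Algebra.trace F K (ζ * J (ev ζ u * x) * (ev ζ u * x)) = Algebra.trace F K (ζ * J x * x)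
  congr 1
  rw [map_mul]
  linear_combination (ζ * J x * x) * hJu u

/-- Fixed-point-free orthogonal realisation for even `i`. -/
theorem exists_orth_realisation (hr2 : r ≠ 2) (hi : Even (orderOf (Fintype.card F : ZMod r))) (a : Orb F r → ℕ) :
    ∃ (Q : QuadraticForm F (Fin (orderOf (Fintype.card F : ZMod r) * ∑ c, a c) → F))
      (f : End F (Fin (orderOf (Fintype.card F : ZMod r) * ∑ c, a c) → F)),
      (QuadraticMap.polarBilin Q).Nondegenerate ∧ (∀ x, Q (f x) = Q x) ∧ f ^ r = 1 ∧
      (∀ x, f x = x → x = 0) ∧ (orbMult ζ f : Orb F r → ℕ) = a := by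
  classical
  generalize hn : ∑ c, a c = n
  induction n generalizing a with
  | zero =>
    have : Subsingleton (Fin (orderOf (Fintype.card F : ZMod r) * 0) → F) := by
      rw [mul_zero]
      infer_instance
    refine ⟨0, 1, ⟨fun x _ => Subsingleton.elim _ _, fun x _ => Subsingleton.elim _ _⟩, fun x => rfl, one_pow r,
      fun x _ => Subsingleton.elim _ _, ?_⟩
    rw [hK.orbMult_one]
    funext c
    exact (Finset.sum_eq_zero_iff.1 hn c (Finset.mem_univ c)).symm
  | succ n ih =>
    obtain ⟨c₀, hc₀⟩ : ∃ c, a c ≠ 0 := by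
      by_contra! h
      simp [h] at hn
    let a' : Orb F r → ℕ := a - Pi.single c₀ 1
    have ha : a = a' + Pi.single c₀ 1 := by
      funext c
      by_cases hc : c = c₀
      · subst hc; simp [a']; omega
      · simp [a', hc]
    obtain ⟨Q, f, hQ, hf, hfr, hfix, hfa⟩ := ih a' (by
      have h1 : ∑ c, a c = ∑ c, a' c + 1 := by
        conv_lhs => rw [ha]
        simp [Finset.sum_add_distrib]
      omega)
    obtain ⟨Q₁, hQ₁, hu₁⟩ := hK.exists_quad_block hr2 hi
    set z := ev ζ ((c₀.out : (ZMod r)ˣ) : ZMod r) with hz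
    have hz1 : z ≠ 1 := fun h => c₀.out.ne_zero
      (hK.ev_injective (h.trans (by rw [ev, ZMod.val_zero, pow_zero])))
    let e : ((Fin (orderOf (Fintype.card F : ZMod r) * n) → F) × K) ≃ₗ[F]
        (Fin (orderOf (Fintype.card F : ZMod r) * (n + 1)) → F) := LinearEquiv.ofFinrankEq _ _ (by
      rw [Module.finrank_prod, Module.finrank_fin_fun, Module.finrank_fin_fun, hK.deg, mul_add, mul_one])
    let g : End F ((Fin (orderOf (Fintype.card F : ZMod r) * n) → F) × K) :=
      f.prodMap (Algebra.lmul F K z)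
    refine ⟨(Q.prod Q₁).comp e.symm.toLinearMap, e.conj g, ?_, fun x => ?_, ?_, fun x hx => ?_, ?_⟩
    · exact Forms.polar_nondegenerate_of_equiv e.symm (fun v => rfl) (prod_nondegenerate hQ hQ₁)
    · obtain ⟨p, rfl⟩ := e.surjective x
      simp only [QuadraticMap.comp_apply, LinearEquiv.coe_coe, LinearEquiv.conj_apply_apply,
        LinearEquiv.symm_apply_apply, QuadraticMap.prod_apply]
      show Q (f p.1) + Q₁ (z * p.2) = _
      rw [hf, hz, hu₁]
    · show (e.conjRingEquiv g) ^ r = 1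
      rw [← map_pow, prodMap_pow, hfr, ← map_pow, hK.ev_pow, map_one, prodMap_one_one, map_one]
    · obtain ⟨p, rfl⟩ := e.surjective x
      rw [LinearEquiv.conj_apply_apply, LinearEquiv.symm_apply_apply] at hx
      have hp := e.injective hx
      have h2 : z * p.2 = p.2 := congrArg Prod.snd hp
      rw [show p = 0 from Prod.ext (hfix _ (congrArg Prod.fst hp))
        (by_contra fun hne => hz1 (mul_right_cancel₀ hne (h2.trans (one_mul _).symm))), map_zero]
    · rw [orbMult_conj, hK.orbMult_prodMap, hfa, hz, hK.orbMult_mulBlock, QuotientGroup.out_eq', ← ha]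

omit hK in
/-- If only anisotropic vectors and zero are fixed, the number of zeros is `1` modulo `r`. -/
theorem card_zeros_modEq (Q : QuadraticForm F V) (f : End F V) (hf : f ^ r = 1) (hQ : ∀ x, Q (f x) = Q x)
    (hfix : ∀ x, f x = x → Q x = 0 → x = 0) : (Nat.card {v // Q v = 0} : ZMod r) = 1 := by
  classical
  have := Module.finite_of_finite (M := V) F
  have := Fintype.ofFinite {v // Q v = 0}
  let g : Function.End {v // Q v = 0} := fun v => ⟨f v.1, (hQ v.1).trans v.2⟩
  have hgn : ∀ (n : ℕ) v, ((g ^ n) v).1 = (f ^ n) v.1 := by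
    intro n
    induction n with
    | zero => intro v; rfl
    | succ n ih =>
      intro v
      rw [pow_succ', pow_succ', Module.End.mul_apply, ← ih v]
      rfl
  have hg : g ^ r ^ 1 = 1 := funext fun v => Subtype.ext (by rw [pow_one, hgn, hf]; rfl)
  have h := Equiv.Perm.card_fixedPoints_modEq hg
  have h1 : Fintype.card g.fixedPoints = 1 := Fintype.card_eq_one_iff.2
    ⟨⟨⟨0, QuadraticMap.map_zero Q⟩, Subtype.ext (map_zero f)⟩, fun v =>
      Subtype.ext (Subtype.ext (hfix _ (congrArg Subtype.val v.2) v.1.2))⟩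
  rw [h1, ← ZMod.natCast_eq_natCast_iff, Nat.cast_one] at h
  rw [Nat.card_eq_fintype_card]
  exact h

omit hK in
theorem plus_zeros_ne {M : ℕ} (h1 : (Fintype.card F : ZMod r) ^ M ≠ 1)
    (h2 : (Fintype.card F : ZMod r) ^ (M - 1) ≠ -1) :
    (Nat.card {v // Forms.quadPlus M F v = 0} : ZMod r) ≠ 1 := by
  obtain ⟨N, rfl⟩ : ∃ N, M = N + 1 := by
    refine ⟨M - 1, ?_⟩
    by_contra hM
    exact h1 (by rw [show M = 0 by omega, pow_zero])
  rw [Nat.add_sub_cancel] at h2
  rw [Forms.card_quadPlus_zeros, Nat.cast_add, Nat.cast_mul, Nat.cast_sub (Nat.one_le_pow _ _ Fintype.card_pos)]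
  push_cast
  intro h
  rcases mul_eq_zero.1 (add_eq_right.1 h) with h0 | h0
  · exact h1 (sub_eq_zero.1 h0)
  · exact h2 (eq_neg_of_add_eq_zero_left h0)

omit hK in
theorem minus_zeros_ne {A B : F} (hab : ∀ z₁ z₂ : F, z₁ ^ 2 + A * z₁ * z₂ + B * z₂ ^ 2 = 0 → z₁ = 0 ∧ z₂ = 0)
    {M : ℕ} (hM : 1 ≤ M) (h1 : (Fintype.card F : ZMod r) ^ M ≠ -1)
    (h2 : (Fintype.card F : ZMod r) ^ (M - 1) ≠ 1) :
    (Nat.card {v // Forms.quadMinus (M - 1) F A B v = 0} : ZMod r) ≠ 1 := by
  obtain ⟨N, rfl⟩ : ∃ N, M = N + 1 := ⟨M - 1, by omega⟩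
  rw [Nat.add_sub_cancel] at h2 ⊢
  rw [Forms.card_quadMinus_zeros N hab, Nat.cast_add, Nat.cast_mul,
    Nat.cast_sub (Nat.one_le_pow _ _ Fintype.card_pos)]
  push_cast
  intro h
  rcases mul_eq_zero.1 (add_eq_right.1 h) with h0 | h0
  · exact h1 (eq_neg_of_add_eq_zero_left h0)
  · exact h2 (sub_eq_zero.1 h0)

omit hK in
theorem iso_plus_of_zeros {M : ℕ} {Q : QuadraticForm F V} (hQ : (QuadraticMap.polarBilin Q).Nondegenerate)
    (hd : finrank F V = 2 * M) (hz : (Nat.card {v // Q v = 0} : ZMod r) = 1)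
    (h1 : (Fintype.card F : ZMod r) ^ M ≠ -1) (h2 : (Fintype.card F : ZMod r) ^ (M - 1) ≠ 1) :
    ∃ e : V ≃ₗ[F] (Fin M ⊕ Fin M → F), ∀ v, Forms.quadPlus M F (e v) = Q v := by
  obtain ⟨a, b, hab⟩ := exists_binary_anisotropic (F := F)
  rcases QForm.exists_iso_plus_or_minus hab M Q hQ hd with ⟨e, he⟩ | ⟨hM, e, he⟩
  · exact ⟨e, fun v => by rw [Forms.quadPlus_apply, he]⟩
  · refine absurd ?_ (minus_zeros_ne (r := r) hab hM h1 h2)
    rw [← Forms.card_zeros_congr e (fun v => by rw [Forms.quadMinus_apply, he])]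
    exact hz

omit hK in
theorem iso_minus_of_zeros {A B : F} (hab : ∀ z₁ z₂ : F, z₁ ^ 2 + A * z₁ * z₂ + B * z₂ ^ 2 = 0 → z₁ = 0 ∧ z₂ = 0)
    {M : ℕ} {Q : QuadraticForm F V} (hQ : (QuadraticMap.polarBilin Q).Nondegenerate)
    (hd : finrank F V = 2 * M) (hz : (Nat.card {v // Q v = 0} : ZMod r) = 1)
    (h1 : (Fintype.card F : ZMod r) ^ M ≠ 1) (h2 : (Fintype.card F : ZMod r) ^ (M - 1) ≠ -1) :
    ∃ e : V ≃ₗ[F] ((Fin (M - 1) ⊕ Fin (M - 1)) ⊕ Fin 2 → F),
      ∀ v, Forms.quadMinus (M - 1) F A B (e v) = Q v := by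
  rcases QForm.exists_iso_plus_or_minus hab M Q hQ hd with ⟨e, he⟩ | ⟨-, e, he⟩
  · refine absurd ?_ (plus_zeros_ne (r := r) h1 h2)
    rw [← Forms.card_zeros_congr e (fun v => by rw [Forms.quadPlus_apply, he])]
    exact hz
  · exact ⟨e, fun v => by rw [Forms.quadMinus_apply, he]⟩

end RootField

end Cfsg.Agent.Semisimple
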