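/-
Symplectic realisations of elements of prime order.
-/
import Mathlib
import Cfsg.Agent.Lib.Semisimple.Duality
import Cfsg.Agent.Lib.Forms.SympTwo

set_option autoImplicit false
set_option linter.unusedSectionVars false

open Polynomial Module

namespace Cfsg.Agent.Semisimple

variable {F : Type*} [Field F] [Fintype F] {r : ℕ} [Fact r.Prime] {K : Type} [Field K] [Algebra F K] [Finite K]
  {ζ : K}

namespace RootField

variable (hK : RootField F r K ζ)
include hK

/-- The block: `K` with a non-degenerate alternating form preserved by every `r`-th root of unity. -/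
theorem exists_alt_block (hr2 : r ≠ 2) (hi : Even (orderOf (Fintype.card F : ZMod r))) :
    ∃ B : LinearMap.BilinForm F K, B.IsAlt ∧ (∀ x, (∀ y, B x y = 0) → x = 0) ∧
      ∀ (u : ZMod r) x y, B (ev ζ u * x) (ev ζ u * y) = B x y := by
  obtain ⟨k, hk⟩ := hi
  obtain ⟨J, hJJ, hJu, hJζ⟩ := hK.exists_inverter hr2 hk
  set θ := ζ - J ζ with hθ
  let B : LinearMap.BilinForm F K :=
    LinearMap.mk₂ F (fun a b => Algebra.trace F K (θ * J a * b))
      (fun a a' b => by simp [mul_add, add_mul]) (fun c a b => by simp [mul_smul_comm, smul_mul_assoc])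
      (fun a b b' => by simp [mul_add]) (fun c a b => by simp [mul_smul_comm])
  refine ⟨B, fun a => ?_, fun x hx => ?_, fun u x y => ?_⟩
  · show Algebra.trace F K (θ * J a * a) = 0
    rw [show θ * J a * a = ζ * J a * a - J (ζ * J a * a) by
      rw [map_mul, map_mul, hJJ, hθ]; ring, map_sub, Algebra.trace_eq_of_algEquiv, sub_self]
  · have h0 : θ * J x = 0 := (traceForm_nondegenerate F K).1 _ fun y => hx y
    exact J.injective ((mul_eq_zero.1 h0).resolve_left (sub_ne_zero.2 (Ne.symm hJζ)) |>.trans (map_zero J).symm)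
  · show Algebra.trace F K (θ * J (ev ζ u * x) * (ev ζ u * y)) = Algebra.trace F K (θ * J x * y)
    congr 1
    rw [map_mul]
    linear_combination (θ * J x * y) * hJu u

/-- Symplectic realisation for even `i`. -/
theorem exists_symp_realisation (hr2 : r ≠ 2) (hi : Even (orderOf (Fintype.card F : ZMod r))) (a : Orb F r → ℕ) :
    ∃ (B : LinearMap.BilinForm F (Fin (orderOf (Fintype.card F : ZMod r) * ∑ c, a c) → F))
      (f : End F (Fin (orderOf (Fintype.card F : ZMod r) * ∑ c, a c) → F)),
      B.IsAlt ∧ (∀ x, (∀ y, B x y = 0) → x = 0) ∧ (∀ x y, B (f x) (f y) = B x y) ∧ f ^ r = 1 ∧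
      (orbMult ζ f : Orb F r → ℕ) = a := by
  classical
  generalize hn : ∑ c, a c = n
  induction n generalizing a with
  | zero =>
    refine ⟨0, 1, fun x => rfl, fun x _ => ?_, fun x y => rfl, one_pow r, ?_⟩
    · funext j
      exact absurd j.2 (by simp)
    · rw [hK.orbMult_one]
      funext c
      exact (Finset.sum_eq_zero_iff.1 hn c (Finset.mem_univ c)).symm
  | succ n ih =>
    obtain ⟨c₀, hc₀⟩ : ∃ c, a c ≠ 0 := by
      by_contra! h
      simp [h] at hn
    let a' : Orb F r → ℕ := a - Pi.single c₀ 1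
    have ha : a = a' + Pi.single c₀ 1 := by
      funext c
      by_cases hc : c = c₀
      · subst hc; simp [a']; omega
      · simp [a', hc]
    obtain ⟨B, f, hA, hS, hf, hfr, hfa⟩ := ih a' (by
      have h1 : ∑ c, a c = ∑ c, a' c + 1 := by
        conv_lhs => rw [ha]
        simp [Finset.sum_add_distrib]
      omega)
    obtain ⟨B₁, hA₁, hS₁, hu₁⟩ := hK.exists_alt_block hr2 hi
    let e : ((Fin (orderOf (Fintype.card F : ZMod r) * n) → F) × K) ≃ₗ[F]
        (Fin (orderOf (Fintype.card F : ZMod r) * (n + 1)) → F) := LinearEquiv.ofFinrankEq _ _ (by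
      rw [Module.finrank_prod, Module.finrank_fin_fun, Module.finrank_fin_fun, hK.deg, mul_add, mul_one])
    let g : End F ((Fin (orderOf (Fintype.card F : ZMod r) * n) → F) × K) :=
      f.prodMap (Algebra.lmul F K (ev ζ ((c₀.out : (ZMod r)ˣ) : ZMod r)))
    let B₂ : LinearMap.BilinForm F (Fin (orderOf (Fintype.card F : ZMod r) * (n + 1)) → F) :=
      B.comp (LinearMap.fst F _ _ ∘ₗ e.symm.toLinearMap) (LinearMap.fst F _ _ ∘ₗ e.symm.toLinearMap) +
        B₁.comp (LinearMap.snd F _ _ ∘ₗ e.symm.toLinearMap) (LinearMap.snd F _ _ ∘ₗ e.symm.toLinearMap)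
    have hB₂ : ∀ p q, B₂ (e p) (e q) = B p.1 q.1 + B₁ p.2 q.2 := fun p q => by
      simp [B₂, LinearMap.BilinForm.comp_apply]
    have hgk : ∀ k, g ^ k = (f ^ k).prodMap (Algebra.lmul F K (ev ζ ((c₀.out : (ZMod r)ˣ) : ZMod r) ^ k)) := by
      intro k
      induction k with
      | zero =>
        rw [pow_zero, pow_zero, pow_zero, map_one]
        exact LinearMap.ext fun x => rfl
      | succ k ih =>
        rw [pow_succ, ih, pow_succ f, pow_succ (ev ζ _), map_mul]
        exact LinearMap.ext fun x => rfl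
    refine ⟨B₂, e.conj g, fun x => ?_, fun x hx => ?_, fun x y => ?_, ?_, ?_⟩
    · obtain ⟨p, rfl⟩ := e.surjective x
      rw [hB₂, hA, hA₁, add_zero]
    · obtain ⟨p, rfl⟩ := e.surjective x
      have h1 : p.1 = 0 := hS _ fun y => by
        have := hx (e (y, 0))
        rwa [hB₂, map_zero, add_zero] at this
      have h2 : p.2 = 0 := hS₁ _ fun y => by
        have := hx (e (0, y))
        rwa [hB₂, map_zero, zero_add] at this
      rw [show p = 0 from Prod.ext h1 h2, map_zero]
    · obtain ⟨p, rfl⟩ := e.surjective x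
      obtain ⟨q, rfl⟩ := e.surjective y
      simp only [LinearEquiv.conj_apply_apply, LinearEquiv.symm_apply_apply]
      rw [hB₂, hB₂]
      show B (f p.1) (f q.1) + B₁ (_ * p.2) (_ * q.2) = _
      rw [hf, hu₁]
    · show (e.conjRingEquiv g) ^ r = 1
      rw [← map_pow, hgk, hfr, hK.ev_pow, map_one,
        show LinearMap.prodMap (1 : End F (Fin (orderOf (Fintype.card F : ZMod r) * n) → F)) (1 : End F K) = 1
          from LinearMap.ext fun x => rfl, map_one]
    · rw [orbMult_conj, hK.orbMult_prodMap, hfa, hK.orbMult_mulBlock, QuotientGroup.out_eq', ← ha]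

end RootField

end Cfsg.Agent.Semisimple
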