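/-
Classes of elements of odd prime order in orthogonal groups: admissible tuples for each type.
-/
import Mathlib
import Cfsg.Agent.Lib.Semisimple.OrthBlocks

set_option autoImplicit false
set_option linter.unusedSectionVars false

open Polynomial Module
open scoped Matrix

namespace Cfsg.Agent.Semisimple

/-- The number of tuples strictly below the bound, as a difference. -/
theorem choose_pred_add (M t : ℕ) (hM : 1 ≤ M) (ht : 1 ≤ t) :
    (M + t).choose t - 1 - (M + t - 1).choose (t - 1) = (M - 1 + t).choose t - 1 := by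
  obtain ⟨a, rfl⟩ : ∃ a, M = a + 1 := ⟨M - 1, by omega⟩
  obtain ⟨b, rfl⟩ : ∃ b, t = b + 1 := ⟨t - 1, by omega⟩
  have h := Nat.choose_succ_succ' (a + 1 + b) b
  rw [show a + 1 + (b + 1) = (a + 1 + b) + 1 by omega, h, show a + 1 - 1 + (b + 1) = a + 1 + b by omega,
    show a + 1 + b + 1 - 1 = a + 1 + b by omega, show b + 1 - 1 = b by omega]
  omega

variable {F : Type*} [Field F] [Fintype F] {r : ℕ} [Fact r.Prime]

/-- An isometry group acting on column vectors. -/
noncomputable def isoHom {ι : Type} [Fintype ι] [DecidableEq ι] (f' : (ι → F) → F) :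
    ↥(isometryGroup F f') →* End F (ι → F) :=
  (Matrix.toLinAlgEquiv' : Matrix ι ι F ≃ₐ[F] _).toAlgHom.toRingHom.toMonoidHom.comp
    ((Units.coeHom _).comp (isometryGroup F f').subtype)

theorem isoHom_apply {ι : Type} [Fintype ι] [DecidableEq ι] (f' : (ι → F) → F) (g : ↥(isometryGroup F f'))
    (v : ι → F) : isoHom f' g v = ((g : GL ι F) : Matrix ι ι F) *ᵥ v :=
  Matrix.toLin'_apply _ _

theorem isoHom_injective {ι : Type} [Fintype ι] [DecidableEq ι] (f' : (ι → F) → F) :
    Function.Injective (isoHom f') := fun _ _ h =>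
  Subtype.ext (Units.ext (Matrix.toLinAlgEquiv'.injective h))

variable {K : Type} [Field K] [Algebra F K] [Finite K] {ζ : K}

namespace RootField

variable (hK : RootField F r K ζ)
include hK

/-- Classes of elements of order `r` in an orthogonal group correspond to the admissible tuples. -/
theorem card_orth_classes {ι : Type} [Fintype ι] [DecidableEq ι] {f' : (ι → F) → F}
    (Q : QuadraticForm F (ι → F)) (hf : ∀ v, Q v = f' v) (hQ : (QuadraticMap.polarBilin Q).Nondegenerate)
    (hr2 : r ≠ 2) (T : (Orb F r → ℕ) → Prop)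
    (hT : ∀ f : End F (ι → F), f ^ r = 1 → (∀ v, Q (f v) = Q v) → T (orbMult ζ f))
    (hsurj : ∀ a, T a → a ≠ 0 → Realises ζ Q a) :
    Nat.card {C : ConjClasses ↥(isometryGroup F f') //
        ∃ g : ↥(isometryGroup F f'), ConjClasses.mk g = C ∧ orderOf g = r} =
      Nat.card {a : Orb F r → ℕ // T a ∧ a ≠ 0} := by
  have ho : Odd r := (Fact.out : r.Prime).odd_of_ne_two hr2
  have hpres : ∀ (g : ↥(isometryGroup F f')) v, Q (isoHom f' g v) = Q v := fun g v => by
    rw [isoHom_apply, hf, hf]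
    exact ((Forms.isometryGroupEquiv f') g).2 v v
  refine hK.card_prime_order_classes (isoHom f') (isoHom_injective f') T
    (fun g hg => hT _ (by rw [← map_pow, hg, map_one]) (hpres g)) (fun g h hg hh hc => ?_) (fun a ha ha0 => ?_)
  · obtain ⟨τ, hτ, hτQ⟩ := exists_orth_conj (r := r) Q hQ (isoHom f' g) (isoHom f' h)
      (by rw [← map_pow, hg, map_one]) (by rw [← map_pow, hh, map_one]) hK.unit ho (hpres g) (hpres h) hc
    have hmem : τ ∈ Forms.isom F (fun u _ => f' u : (ι → F) → (ι → F) → F) := fun u v => by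
      show f' (τ u) = f' u
      rw [← hf, ← hf, hτQ]
    refine isConj_iff.2 ⟨(Forms.isometryGroupEquiv f').symm ⟨τ, hmem⟩, ?_⟩
    rw [mul_inv_eq_iff_eq_mul]
    refine (Forms.isometryGroupEquiv f').injective (Subtype.ext (LinearEquiv.ext fun v => ?_))
    rw [map_mul, map_mul, MulEquiv.apply_symm_apply]
    show τ ((Forms.isometryGroupEquiv f' g).1 v) = (Forms.isometryGroupEquiv f' h).1 (τ v)
    rw [Forms.isometryGroupEquiv_apply, Forms.isometryGroupEquiv_apply, ← isoHom_apply, ← isoHom_apply]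
    exact hτ v
  · obtain ⟨f, hfr, hfQ, hfa⟩ := hsurj a ha ha0
    have hinv : ∀ x, (f ^ (r - 1)) (f x) = x := fun x => by
      rw [← Module.End.mul_apply, ← pow_succ, Nat.sub_add_cancel (Fact.out : r.Prime).one_lt.le, hfr,
        Module.End.one_apply]
    let e : (ι → F) ≃ₗ[F] (ι → F) := LinearEquiv.ofBijective f
      ⟨fun x y h => by rw [← hinv x, h, hinv], (LinearMap.injective_iff_surjective (f := f)).1
        fun x y h => by rw [← hinv x, h, hinv]⟩
    have hmem : e ∈ Forms.isom F (fun u _ => f' u : (ι → F) → (ι → F) → F) := fun u v => by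
      show f' (f u) = f' u
      rw [← hf, ← hf, hfQ]
    have hh : isoHom f' ((Forms.isometryGroupEquiv f').symm ⟨e, hmem⟩) = f := LinearMap.ext fun v => by
      rw [isoHom_apply, ← Forms.isometryGroupEquiv_apply, MulEquiv.apply_symm_apply]
      rfl
    refine ⟨_, isoHom_injective f' ?_, by rw [hh, hfa]⟩
    rw [map_pow, hh, hfr, map_one]

/-- The split realisation in the plus group, for orbit tuples `b + b ∘ negation`. -/
theorem realises_plus_split (m : ℕ) (a b : Orb F r → ℕ) (hab : ∀ c, b c + b (c * negOrb F r) = a c)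
    (hle : orderOf (Fintype.card F : ZMod r) * ∑ c, b c ≤ m) : Realises ζ (Forms.quadPlus m F) a := by
  obtain ⟨A, hAi, hA, hr', hAa⟩ := hK.exists_split_element m a b hab hle
  refine ⟨_, by rw [← map_pow, hr', map_one], fun v => ?_, hAa⟩
  rw [Forms.quadPlus_apply, Forms.quadPlus_apply,
    show (Matrix.toLinAlgEquiv' (Matrix.fromBlocks A 0 0 (A ^ (r - 1))ᵀ) : End F (Fin m ⊕ Fin m → F)) v =
      Matrix.fromBlocks A 0 0 (A ^ (r - 1))ᵀ *ᵥ v from Matrix.toLin'_apply _ _, Matrix.fromBlocks_mulVec]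
  simp only [quadFormPlus, Sum.elim_inl, Sum.elim_inr, Matrix.zero_mulVec, add_zero, zero_add]
  show A *ᵥ (v ∘ Sum.inl) ⬝ᵥ (A ^ (r - 1))ᵀ *ᵥ (v ∘ Sum.inr) = (v ∘ Sum.inl) ⬝ᵥ (v ∘ Sum.inr)
  rw [dotProduct_comm, Matrix.mulVec_transpose, ← Matrix.dotProduct_mulVec, Matrix.mulVec_mulVec,
    mul_eq_one_comm.1 hAi, Matrix.one_mulVec, dotProduct_comm]

theorem finite_sum_le' (M : ℕ) :
    Finite {a : Orb F r → ℕ // (∀ c, a (c * negOrb F r) = a c) ∧ ∑ c, a c ≤ M} := by
  have := Semisimple.finite_sum_le (Orb F r) M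
  exact Finite.of_injective (fun a => (⟨a.1, a.2.2⟩ : {a : Orb F r → ℕ // ∑ c, a c ≤ M}))
    fun a b h => Subtype.ext (congrArg (fun z => z.1) h)

theorem card_symm_nonzero (hr2 : r ≠ 2) (hodd : Odd (orderOf (Fintype.card F : ZMod r))) {t : ℕ}
    (ht : t * orderOf (Fintype.card F : ZMod r) = r - 1) (M : ℕ) :
    Nat.card {a : Orb F r → ℕ // ((∀ c, a (c * negOrb F r) = a c) ∧ ∑ c, a c ≤ M) ∧ a ≠ 0} =
      (M / 2 + t / 2).choose (t / 2) - 1 := by
  have hne : negOrb F r ≠ 1 := fun h => (Nat.not_even_iff_odd.2 hodd) ((hK.negOrb_eq_one_iff hr2).1 h)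
  have := hK.finite_sum_le' M
  rw [Semisimple.card_nonzero _ (fun a => (∀ c, a (c * negOrb F r) = a c) ∧ ∑ c, a c ≤ M) (by simp),
    Semisimple.card_symm_le _ (negOrb_mul_self F r) hne, hK.card_orb ht]

theorem card_le_nonzero {t : ℕ} (ht : t * orderOf (Fintype.card F : ZMod r) = r - 1) (M : ℕ) :
    Nat.card {a : Orb F r → ℕ // ∑ c, a c ≤ M ∧ a ≠ 0} = (M + t).choose t - 1 := by
  have := Semisimple.finite_sum_le (Orb F r) M
  rw [Semisimple.card_nonzero _ (fun a => ∑ c, a c ≤ M) (by simp), Semisimple.card_sum_le, hK.card_orb ht]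

/-- A fixed-point-free `f` forces the congruence. -/
theorem zeros_of_full {V : Type*} [AddCommGroup V] [Module F V] [FiniteDimensional F V] (Q : QuadraticForm F V)
    (f : End F V) (hf : f ^ r = 1) (hQf : ∀ v, Q (f v) = Q v)
    (hfull : finrank F V ≤ orderOf (Fintype.card F : ZMod r) * ∑ c, (orbMult ζ f : Orb F r → ℕ) c) :
    (∀ v, f v = v → v = 0) ∧ (Nat.card {v // Q v = 0} : ZMod r) = 1 := by
  have hfix : ∀ v, f v = v → v = 0 := fun v hv => by
    by_contra hv0
    have := hK.orbMult_lt_of_fixed f hf hv0 hv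
    omega
  exact ⟨hfix, card_zeros_modEq Q f hf hQf fun v hv _ => hfix v hv⟩

theorem card_ne_one_of_even (hi : Even (orderOf (Fintype.card F : ZMod r))) : (Fintype.card F : ZMod r) ≠ 1 := by
  intro h
  rw [orderOf_eq_one_iff.2 h] at hi
  exact Nat.not_even_one hi

/-- Powers of `|F|` at multiples of `i / 2`. -/
theorem pow_half_mul (hr2 : r ≠ 2) {k : ℕ} (hk : orderOf (Fintype.card F : ZMod r) = k + k) (S : ℕ) :
    (Fintype.card F : ZMod r) ^ (k * S) = (-1) ^ S := by
  rw [pow_mul, hK.pow_half hr2 hk]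

/-- Realisation in a plus group for even `i`. -/
theorem realises_plus_even (hr2 : r ≠ 2) {k : ℕ} (hk : orderOf (Fintype.card F : ZMod r) = k + k)
    (a : Orb F r → ℕ) {m : ℕ} (hle : (k + k) * ∑ c, a c ≤ 2 * m)
    (hnot : Odd (∑ c, a c) → k * ∑ c, a c < m) : Realises ζ (Forms.quadPlus m F) a := by
  have hq1 := hK.card_ne_one_of_even ⟨k, hk⟩
  have hn1 := hK.neg_one_ne_one hr2
  by_cases ha : a = 0
  · subst ha
    exact ⟨1, one_pow r, fun x => rfl, hK.orbMult_one⟩
  have hS0 : 0 < ∑ c, a c := by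
    by_contra! h
    exact ha (funext fun c => (Finset.sum_eq_zero_iff.1 (Nat.le_zero.1 h) c (Finset.mem_univ c)))
  have hk0 : 0 < k := by
    have h9 : 0 < orderOf (Fintype.card F : ZMod r) := by
      rw [← hK.deg]; exact Module.finrank_pos
    omega
  set S := ∑ c, a c with hSdef
  set q : ZMod r := (Fintype.card F : ZMod r) with hqdef
  obtain ⟨Q, f, hQ, hQf, hf, hfix, hfa⟩ := hK.exists_orth_realisation hr2 ⟨k, hk⟩ a
  have hd : finrank F (Fin (orderOf (Fintype.card F : ZMod r) * S) → F) = 2 * (k * S) := by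
    rw [Module.finrank_fin_fun, hk]; ring
  have hS : q ^ (k * S) = (-1) ^ S := hK.pow_half_mul hr2 hk S
  rcases Nat.even_or_odd S with hev | hodd
  · rw [hev.neg_one_pow] at hS
    obtain ⟨e, he⟩ := iso_plus_of_zeros (r := r) hQ hd (card_zeros_modEq Q f hf hQf fun v hv _ => hfix v hv)
      (by rw [hS]; exact hn1.symm) fun h => by
        refine hq1 ?_
        have h1 : q ^ (k * S - 1 + 1) = 1 := by rw [Nat.sub_add_cancel (Nat.mul_pos hk0 hS0), hS]
        rwa [pow_succ, h, one_mul] at h1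
    exact hK.realises_plus_mono (Realises.transport ⟨f, hf, hQf, hfa⟩ e he) (by
      have : (k + k) * S = 2 * (k * S) := by ring
      omega)
  · rw [hodd.neg_one_pow] at hS
    obtain ⟨A, B, hab⟩ := exists_binary_anisotropic (F := F)
    have hz : (Nat.card {v // (Q.prod (Forms.binQ A B)) v = 0} : ZMod r) = 1 := by
      refine card_zeros_modEq (Q.prod (Forms.binQ A B)) (f.prodMap 1) ?_ (fun v => by simp [hQf]) fun v hv h0 => ?_
      · rw [prodMap_pow, hf, one_pow, prodMap_one_one]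
      · have h1 : v.1 = 0 := hfix _ (congrArg Prod.fst hv)
        rw [QuadraticMap.prod_apply, h1, QuadraticMap.map_zero, zero_add] at h0
        exact Prod.ext h1 (Forms.binQ_eq_zero hab h0)
    obtain ⟨e, he⟩ := iso_plus_of_zeros (r := r) (M := k * S + 1)
      (prod_nondegenerate hQ (binQ_nondegenerate hab))
      (by rw [Module.finrank_prod, hd, Module.finrank_prod, Module.finrank_self]; ring) hz
      (by rw [pow_succ, hS, neg_one_mul, Ne, neg_inj]; exact hq1)
      (by rw [Nat.add_sub_cancel, hS]; exact hn1)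
    exact hK.realises_plus_mono ((hK.realises_prod (W := F × F) ⟨f, hf, hQf, hfa⟩ _).1.transport e he)
      (hnot hodd)

/-- Realisation in a minus group for even `i`. -/
theorem realises_minus_even (hr2 : r ≠ 2) {k : ℕ} (hk : orderOf (Fintype.card F : ZMod r) = k + k) {A B : F}
    (hab : ∀ z₁ z₂ : F, z₁ ^ 2 + A * z₁ * z₂ + B * z₂ ^ 2 = 0 → z₁ = 0 ∧ z₂ = 0)
    (a : Orb F r → ℕ) {m : ℕ} (hle : (k + k) * ∑ c, a c ≤ 2 * m)
    (hnot : Even (∑ c, a c) → k * ∑ c, a c < m) : Realises ζ (Forms.quadMinus (m - 1) F A B) a := by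
  have hq1 := hK.card_ne_one_of_even ⟨k, hk⟩
  have hn1 := hK.neg_one_ne_one hr2
  by_cases ha : a = 0
  · subst ha
    exact ⟨1, one_pow r, fun x => rfl, hK.orbMult_one⟩
  have hS0 : 0 < ∑ c, a c := by
    by_contra! h
    exact ha (funext fun c => (Finset.sum_eq_zero_iff.1 (Nat.le_zero.1 h) c (Finset.mem_univ c)))
  have hk0 : 0 < k := by
    have h9 : 0 < orderOf (Fintype.card F : ZMod r) := by
      rw [← hK.deg]; exact Module.finrank_pos
    omega
  set S := ∑ c, a c with hSdef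
  set q : ZMod r := (Fintype.card F : ZMod r) with hqdef
  obtain ⟨Q, f, hQ, hQf, hf, hfix, hfa⟩ := hK.exists_orth_realisation hr2 ⟨k, hk⟩ a
  have hd : finrank F (Fin (orderOf (Fintype.card F : ZMod r) * S) → F) = 2 * (k * S) := by
    rw [Module.finrank_fin_fun, hk]; ring
  have hS : q ^ (k * S) = (-1) ^ S := hK.pow_half_mul hr2 hk S
  rcases Nat.even_or_odd S with hev | hodd
  · rw [hev.neg_one_pow] at hS
    have hz : (Nat.card {v // (Q.prod (Forms.binQ A B)) v = 0} : ZMod r) = 1 := by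
      refine card_zeros_modEq (Q.prod (Forms.binQ A B)) (f.prodMap 1) ?_ (fun v => by simp [hQf]) fun v hv h0 => ?_
      · rw [prodMap_pow, hf, one_pow, prodMap_one_one]
      · have h1 : v.1 = 0 := hfix _ (congrArg Prod.fst hv)
        rw [QuadraticMap.prod_apply, h1, QuadraticMap.map_zero, zero_add] at h0
        exact Prod.ext h1 (Forms.binQ_eq_zero hab h0)
    obtain ⟨e, he⟩ := iso_minus_of_zeros (r := r) hab (M := k * S + 1)
      (prod_nondegenerate hQ (binQ_nondegenerate hab))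
      (by rw [Module.finrank_prod, hd, Module.finrank_prod, Module.finrank_self]; ring) hz
      (by rw [pow_succ, hS, one_mul]; exact hq1)
      (by rw [Nat.add_sub_cancel, hS]; exact hn1.symm)
    exact hK.realises_minus_mono ((hK.realises_prod (W := F × F) ⟨f, hf, hQf, hfa⟩ _).1.transport e he)
      (by have := hnot hev; omega)
  · rw [hodd.neg_one_pow] at hS
    obtain ⟨e, he⟩ := iso_minus_of_zeros (r := r) hab hQ hd
      (card_zeros_modEq Q f hf hQf fun v hv _ => hfix v hv)
      (by rw [hS]; exact hn1) fun h => by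
        refine hq1 ?_
        have h1 : q ^ (k * S - 1 + 1) = -1 := by rw [Nat.sub_add_cancel (Nat.mul_pos hk0 hS0), hS]
        rwa [pow_succ, h, neg_one_mul, neg_inj] at h1
    exact hK.realises_minus_mono (Realises.transport ⟨f, hf, hQf, hfa⟩ e he) (by
      have : (k + k) * S = 2 * (k * S) := by ring
      omega)

/-- Full symmetric tuples for odd `i` do not live in a minus group. -/
theorem no_full_minus (hr2 : r ≠ 2) (hi : Odd (orderOf (Fintype.card F : ZMod r))) {A B : F}
    (hab : ∀ z₁ z₂ : F, z₁ ^ 2 + A * z₁ * z₂ + B * z₂ ^ 2 = 0 → z₁ = 0 ∧ z₂ = 0) {m : ℕ} (hm : 1 ≤ m)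
    (f : End F ((Fin (m - 1) ⊕ Fin (m - 1)) ⊕ Fin 2 → F)) (hf : f ^ r = 1)
    (hQf : ∀ v, Forms.quadMinus (m - 1) F A B (f v) = Forms.quadMinus (m - 1) F A B v) :
    orderOf (Fintype.card F : ZMod r) * ∑ c, (orbMult ζ f : Orb F r → ℕ) c ≠ 2 * m := by
  intro hfull
  have hne : negOrb F r ≠ 1 := fun h => (Nat.not_even_iff_odd.2 hi) ((hK.negOrb_eq_one_iff hr2).1 h)
  obtain ⟨N, rfl⟩ : ∃ N, m = N + 1 := ⟨m - 1, by omega⟩
  obtain ⟨b, hb, hbs⟩ := exists_half _ (negOrb_mul_self F r) hne (orbMult ζ f)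
    (hK.orbMult_symm (QuadraticMap.polarBilin (Forms.quadMinus (N + 1 - 1) F A B))
      (Forms.quadMinus_nondegenerate _ hab).1 f hf fun x y => polar_map f hQf x y)
  obtain ⟨g, hg, hQg, hga⟩ := hK.realises_plus_split (N + 1) (orbMult ζ f) b hb (by
    rw [← hbs, mul_left_comm] at hfull
    omega)
  have hd1 : finrank F ((Fin (N + 1 - 1) ⊕ Fin (N + 1 - 1)) ⊕ Fin 2 → F) = 2 * (N + 1) := by
    simp; ring
  have hd2 : finrank F (Fin (N + 1) ⊕ Fin (N + 1) → F) = 2 * (N + 1) := by simp; ring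
  obtain ⟨φ, -, hφ⟩ := exists_isometry_of_fpf (r := r) (Forms.quadMinus (N + 1 - 1) F A B)
    (Forms.quadPlus (N + 1) F) (Forms.quadMinus_nondegenerate _ hab) (Forms.quadPlus_nondegenerate _) f g hf hg
    hK.unit ((Fact.out : r.Prime).odd_of_ne_two hr2) hQf hQg
    (hK.zeros_of_full _ f hf hQf (by rw [hd1, hfull])).1
    (hK.zeros_of_full _ g hg hQg (by rw [hd2, hga, hfull])).1
    (hK.charpoly_eq_of_orbMult f g hf hg (hd1.trans hd2.symm) hga.symm)
  have h1 := Forms.card_zeros_congr φ hφ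
  have h2 := Forms.card_quadPlus_zeros_aux (F := F) (N + 1)
  have h3 := Forms.card_quadMinus_zeros_aux (F := F) N hab
  rw [← h1] at h2
  have h4 : (Fintype.card F : ℤ) ^ (N + 1) * (Fintype.card F - 1) = 0 := by
    have h5 := h2.symm.trans h3
    have h6 : 2 * ((Fintype.card F : ℤ) ^ (N + 1) * (Fintype.card F - 1)) = 0 := by linear_combination h5
    exact (mul_eq_zero.1 h6).resolve_left two_ne_zero
  rcases mul_eq_zero.1 h4 with h5 | h5
  · have : (0 : ℤ) < (Fintype.card F : ℤ) ^ (N + 1) := by positivity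
    omega
  · have := Fintype.one_lt_card (α := F)
    omega

end RootField

end Cfsg.Agent.Semisimple
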