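/-
Two elements of `GU_n(q)` that are conjugate in `GL_n(q^2)` are conjugate in `GU_n(q)`.
-/
import Mathlib
import Cfsg.Agent.Lib.Forms.Herm

set_option autoImplicit false

open Cfsg
open scoped Matrix

namespace Cfsg.Agent.UnitaryConj

open Forms

/-! ### Norm forms over finite commutative rings -/

section NormForm

variable {R : Type*} [CommRing R]

theorem exists_norm_eq_field {k : Type*} [Field k] [Finite k] {t n : k} (hd : t * t - 4 * n ≠ 0) (x : k) :
    ∃ a b : k, a * a + t * a * b + n * b * b = x := by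
  classical
  have := Fintype.ofFinite k
  by_cases h2 : (2 : k) = 0
  · have hc : ringChar k = 2 := by
      by_contra hne
      exact (Ring.two_ne_zero hne) h2
    obtain ⟨a, ha⟩ := FiniteField.isSquare_of_char_two hc x
    exact ⟨a, 0, by rw [ha]; ring⟩
  · have hodd : Fintype.card k % 2 = 1 :=
      FiniteField.odd_card_of_char_ne_two fun hc => h2 (by
        have := ringChar.of_eq hc
        exact CharTwo.two_eq_zero)
    set D := n - t * t / 4 with hD
    have h4 : (4 : k) ≠ 0 := by
      rw [show (4 : k) = 2 * 2 by norm_num]; exact mul_ne_zero h2 h2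
    have hD0 : D ≠ 0 := fun h => hd (by
      rw [hD, sub_eq_zero] at h
      rw [h]; field_simp; ring)
    obtain ⟨c, b, hcb⟩ := FiniteField.exists_root_sum_quadratic
      (f := (Polynomial.X ^ 2 : Polynomial k))
      (g := Polynomial.C D * Polynomial.X ^ 2 - Polynomial.C x)
      (Polynomial.degree_X_pow 2)
      (by rw [Polynomial.degree_sub_eq_left_of_degree_lt] <;>
            rw [Polynomial.degree_C_mul_X_pow 2 hD0]
          · rfl
          · exact lt_of_le_of_lt Polynomial.degree_C_le (by norm_num)) hodd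
    refine ⟨c - t * b / 2, b, ?_⟩
    simp only [Polynomial.eval_pow, Polynomial.eval_X, Polynomial.eval_sub, Polynomial.eval_mul,
      Polynomial.eval_C, hD] at hcb
    field_simp
    field_simp at hcb
    linear_combination hcb

/-- A binary form of unit discriminant over a finite commutative ring represents every unit. -/
theorem exists_norm_eq [Finite R] {t n x : R} (hd : IsUnit (t * t - 4 * n)) (hx : IsUnit x) :
    ∃ a b : R, a * a + t * a * b + n * b * b = x := by
  classical
  let I := nilradical R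
  let Q := R ⧸ I
  have : IsReduced Q :=
    (Ideal.isRadical_iff_quotient_reduced I).1 (Ideal.radical_isRadical _)
  have : Finite Q := Quotient.finite _
  have : IsArtinianRing Q := isArtinian_of_finite
  let π : R →+* Q := Ideal.Quotient.mk I
  -- solve componentwise in the reduced quotient
  have hcomp : ∀ m : MaximalSpectrum Q, ∃ a b : Q ⧸ m.asIdeal,
      a * a + Ideal.Quotient.mk _ (π t) * a * b + Ideal.Quotient.mk _ (π n) * b * b =
        Ideal.Quotient.mk _ (π x) := by
    intro m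
    have := m.isMaximal
    letI := Ideal.Quotient.field m.asIdeal
    have : Finite (Q ⧸ m.asIdeal) := Quotient.finite _
    refine exists_norm_eq_field ?_ _
    have h := (hd.map π).map (Ideal.Quotient.mk m.asIdeal)
    simpa [map_ofNat] using h.ne_zero
  choose a₁ b₁ hab using hcomp
  obtain ⟨a₀, ha₀⟩ := Ideal.Quotient.mk_surjective ((IsArtinianRing.equivPi Q).symm a₁)
  obtain ⟨b₀, hb₀⟩ := Ideal.Quotient.mk_surjective ((IsArtinianRing.equivPi Q).symm b₁)
  have hQ : π (a₀ * a₀ + t * a₀ * b₀ + n * b₀ * b₀) = π x := by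
    apply (IsArtinianRing.equivPi Q).injective
    funext m
    simp only [map_add, map_mul]
    rw [show π a₀ = _ from ha₀, show π b₀ = _ from hb₀]
    simp only [map_add, map_mul, AlgEquiv.apply_symm_apply, Pi.add_apply, Pi.mul_apply]
    simp only [IsArtinianRing.equivPi_apply]
    exact hab m
  -- lift: `x = N(w) (1 + z)` with `z` nilpotent
  set w := a₀ * a₀ + t * a₀ * b₀ + n * b₀ * b₀ with hw
  have hnil : IsNilpotent (x - w) := mem_nilradical.1 (Ideal.Quotient.eq.1 hQ.symm)
  have hwu : IsUnit w := by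
    have := hnil.neg.isUnit_add_right_of_commute hx (Commute.all _ _)
    first | rwa [neg_sub, sub_add_cancel] at this | rwa [neg_sub, add_sub_cancel] at this
  obtain ⟨u, hu⟩ := hwu
  set z := (u⁻¹ : Rˣ).val * (x - w) with hz
  have hznil : IsNilpotent z := (Commute.all _ _).isNilpotent_mul_left hnil
  obtain ⟨d, hd'⟩ := hd.exists_left_inv
  set α := -(2 * n * d) with hα
  set β := t * d with hβ
  have h1 : 2 * α + β * t = 1 := by rw [hα, hβ]; linear_combination hd'
  set m := α * α + t * α * β + n * β * β with hm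
  let φ : {y : R // IsNilpotent y} → {y : R // IsNilpotent y} := fun y =>
    ⟨y.1 + m * y.1 * y.1, (Commute.all _ _).isNilpotent_add y.2
      ((Commute.all _ _).isNilpotent_mul_left y.2)⟩
  have hinj : Function.Injective φ := by
    intro y y' h
    have h' : (y.1 - y'.1) * (1 + m * (y.1 + y'.1)) = 0 := by
      linear_combination congrArg Subtype.val h
    have hu' : IsUnit (1 + m * (y.1 + y'.1)) :=
      IsNilpotent.isUnit_one_add ((Commute.all _ _).isNilpotent_mul_left
        ((Commute.all _ _).isNilpotent_add y.2 y'.2))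
    exact Subtype.ext (sub_eq_zero.1 (hu'.mul_left_eq_zero.1 h'))
  obtain ⟨y, hy⟩ := Finite.injective_iff_surjective.1 hinj ⟨z, hznil⟩
  have hy' : y.1 + m * y.1 * y.1 = z := congrArg Subtype.val hy
  refine ⟨a₀ * (1 + α * y.1) - n * b₀ * (β * y.1),
    a₀ * (β * y.1) + b₀ * (1 + α * y.1) + t * b₀ * (β * y.1), ?_⟩
  have hwz : w * (1 + z) = x := by
    rw [hz, ← hu, mul_add, mul_one, ← mul_assoc, Units.mul_inv, one_mul]
    ring
  rw [← hwz, ← hy', hm, hw]
  linear_combination (a₀ * a₀ + t * a₀ * b₀ + n * b₀ * b₀) * y.1 * h1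

end NormForm

variable {F : Type*} [Field F] [Fintype F] {q : ℕ} (hF : Fintype.card F = q ^ 2) {k : ℕ}

/-- The adjoint of a matrix for the standard Hermitian form. -/
noncomputable def adj (A : Matrix (Fin k) (Fin k) F) : Matrix (Fin k) (Fin k) F := (A.map (qEnd hF))ᵀ

theorem adj_mul (A B : Matrix (Fin k) (Fin k) F) : adj hF (A * B) = adj hF B * adj hF A := by
  rw [adj, Matrix.map_mul, Matrix.transpose_mul]; rfl

theorem adj_adj (A : Matrix (Fin k) (Fin k) F) : adj hF (adj hF A) = A := by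
  ext i j; simp [adj, qEnd_qEnd]

theorem adj_add (A B : Matrix (Fin k) (Fin k) F) : adj hF (A + B) = adj hF A + adj hF B := by
  ext i j; simp [adj]

theorem adj_neg (A : Matrix (Fin k) (Fin k) F) : adj hF (-A) = -adj hF A := by
  ext i j; simp [adj]

theorem adj_one : adj hF (1 : Matrix (Fin k) (Fin k) F) = 1 := by
  rw [adj, Matrix.map_one _ (map_zero _) (map_one _), Matrix.transpose_one]

theorem adj_smul (c : F) (A : Matrix (Fin k) (Fin k) F) : adj hF (c • A) = qEnd hF c • adj hF A := by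
  ext i j; simp [adj]

theorem adj_mul_self_eq_one_iff (A : Matrix (Fin k) (Fin k) F) :
    adj hF A * A = 1 ↔ ∀ u v, hermForm k F q (A *ᵥ u) (A *ᵥ v) = hermForm k F q u v := by
  have hform : ∀ u v : Fin k → F, hermForm k F q u v = u ⬝ᵥ (fun i => qEnd hF (v i)) := fun u v => rfl
  have hmap : ∀ v : Fin k → F, (fun i => qEnd hF ((A *ᵥ v) i)) =
      A.map (qEnd hF) *ᵥ (fun i => qEnd hF (v i)) := fun v => funext fun i => RingHom.map_mulVec _ A v i
  have heq : ∀ u v, hermForm k F q (A *ᵥ u) (A *ᵥ v) =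
      u ⬝ᵥ ((Aᵀ * A.map (qEnd hF)) *ᵥ fun i => qEnd hF (v i)) := fun u v => by
    rw [hform, hmap, ← Matrix.vecMul_transpose, ← Matrix.dotProduct_mulVec, Matrix.mulVec_mulVec]
  have hiff : adj hF A * A = 1 ↔ Aᵀ * A.map (qEnd hF) = 1 := by
    rw [← Matrix.transpose_inj, Matrix.transpose_mul, Matrix.transpose_one, adj, Matrix.transpose_transpose]
  rw [hiff]
  constructor
  · intro h u v; rw [heq, h, Matrix.one_mulVec, hform]
  · intro h
    ext i j
    have := h (Pi.single i 1) (Pi.single j 1)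
    rw [heq, hform] at this
    have hs : (fun l => qEnd hF ((Pi.single j (1 : F) : Fin k → F) l)) = Pi.single j 1 := by
      funext l; by_cases hl : l = j <;> simp [hl, Pi.single_apply]
    rw [hs] at this
    simpa [Matrix.mulVec_single, Matrix.one_apply, Pi.single_apply, eq_comm] using this

theorem mem_GU_iff (g : GL (Fin k) F) :
    g ∈ GU k F q ↔ adj hF (g : Matrix (Fin k) (Fin k) F) * (g : Matrix (Fin k) (Fin k) F) = 1 :=
  (adj_mul_self_eq_one_iff hF _).symm

include hF in
/-- The hermitian square root in the algebra generated by a self-adjoint matrix. -/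
theorem exists_adj_mul_self_eq {g M : Matrix (Fin k) (Fin k) F} (hM : IsUnit M) (hsa : adj hF M = M)
    (hcomm : Commute M g) : ∃ c, adj hF c * c = M ∧ Commute c g := by
  classical
  obtain ⟨θ, hθ⟩ : ∃ l : F, qEnd hF l ≠ l := by
    by_contra hc
    push Not at hc
    exact qEnd_ne_id hF (RingHom.ext hc)
  let S : Set (Matrix (Fin k) (Fin k) F) :=
    insert M {A | ∃ c : F, qEnd hF c = c ∧ A = c • 1}
  have hS : ∀ A ∈ S, ∀ B ∈ S, A * B = B * A := by
    rintro A (rfl | ⟨c, -, rfl⟩) B (rfl | ⟨d, -, rfl⟩)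
    · rfl
    · rw [mul_smul_comm, smul_mul_assoc, mul_one, one_mul]
    · rw [mul_smul_comm, smul_mul_assoc, mul_one, one_mul]
    · simp [smul_smul, mul_comm c d]
  letI := Subring.closureCommRingOfComm hS
  have hcl : ∀ a b : Subring.closure S, (a.1 * b.1 : Matrix (Fin k) (Fin k) F) = b.1 * a.1 := fun a b =>
    congrArg Subtype.val (mul_comm a b)
  have hprop : ∀ A, A ∈ Subring.closure S → adj hF A = A ∧ Commute A g := by
    intro A hA
    induction hA using Subring.closure_induction with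
    | mem A hA =>
      rcases hA with rfl | ⟨c, hc, rfl⟩
      · exact ⟨hsa, hcomm⟩
      · exact ⟨by rw [adj_smul, adj_one, hc], (Commute.one_left g).smul_left c⟩
    | zero => exact ⟨by ext i j; simp [adj], Commute.zero_left g⟩
    | one => exact ⟨adj_one hF, Commute.one_left g⟩
    | add A B _ _ hA hB => exact ⟨by rw [adj_add, hA.1, hB.1], hA.2.add_left hB.2⟩
    | neg A _ hA => exact ⟨by rw [adj_neg, hA.1], hA.2.neg_left⟩
    | mul A B hAm hBm hA hB =>
      exact ⟨by rw [adj_mul, hA.1, hB.1]; exact hcl ⟨B, hBm⟩ ⟨A, hAm⟩, hA.2.mul_left hB.2⟩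
  let sc : ∀ c : F, qEnd hF c = c → Subring.closure S := fun c hc =>
    ⟨c • 1, Subring.subset_closure (Or.inr ⟨c, hc, rfl⟩)⟩
  have hfix : qEnd hF (θ + qEnd hF θ) = θ + qEnd hF θ ∧ qEnd hF (θ * qEnd hF θ) = θ * qEnd hF θ := by
    constructor
    · rw [map_add, qEnd_qEnd]; ring
    · rw [map_mul, qEnd_qEnd]; ring
  set t := sc _ hfix.1 with ht
  set n := sc _ hfix.2 with hn
  set e := (θ + qEnd hF θ) * (θ + qEnd hF θ) - 4 * (θ * qEnd hF θ) with he
  have he0 : e ≠ 0 := by
    rw [he, show (θ + qEnd hF θ) * (θ + qEnd hF θ) - 4 * (θ * qEnd hF θ) = (θ - qEnd hF θ) ^ 2 by ring]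
    exact pow_ne_zero 2 (sub_ne_zero.2 (Ne.symm hθ))
  have hefix : qEnd hF e = e := by
    rw [he, map_sub, map_mul, map_mul, hfix.1, hfix.2, map_ofNat]
  have hte : t * t - 4 * n = sc e hefix := by
    apply Subtype.ext
    push_cast
    show ((θ + qEnd hF θ) • (1 : Matrix (Fin k) (Fin k) F)) * ((θ + qEnd hF θ) • 1) -
      4 * ((θ * qEnd hF θ) • 1) = e • 1
    simp only [he, sub_smul, mul_smul, smul_mul_assoc, one_mul]
    simp [Algebra.smul_def, map_ofNat]
  have hd : IsUnit (t * t - 4 * n) := by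
    rw [hte]
    refine IsUnit.of_mul_eq_one (sc e⁻¹ (by rw [map_inv₀, hefix])) (Subtype.ext ?_)
    show (e • (1 : Matrix (Fin k) (Fin k) F)) * (e⁻¹ • 1) = 1
    rw [smul_mul_assoc, one_mul, smul_smul, mul_inv_cancel₀ he0, one_smul]
  have hMu : IsUnit (⟨M, Subring.subset_closure (Or.inl rfl)⟩ : Subring.closure S) := by
    obtain ⟨u, hu⟩ := hM
    refine IsUnit.of_mul_eq_one
      (⟨M, Subring.subset_closure (Or.inl rfl)⟩ ^ (orderOf u - 1)) (Subtype.ext ?_)
    push_cast
    rw [← pow_succ', Nat.sub_add_cancel (orderOf_pos u), ← hu, ← Units.val_pow_eq_pow_val,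
      pow_orderOf_eq_one, Units.val_one]
  obtain ⟨a, b, hab⟩ := exists_norm_eq hd hMu
  refine ⟨a.1 + θ • b.1, ?_, (hprop _ a.2).2.add_left ((hprop _ b.2).2.smul_left θ)⟩
  have hab' := congrArg Subtype.val hab
  push_cast at hab'
  rw [← hab', adj_add, adj_smul, (hprop _ a.2).1, (hprop _ b.2).1, ht, hn]
  simp only [sc, smul_mul_assoc, one_mul, mul_smul_comm, add_mul, mul_add, smul_smul, add_smul, hcl b a]
  module

include hF in
/-- Unitary matrices conjugate in the general linear group are conjugate in the unitary group. -/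
theorem isConj_of_isConj_GL {g h : GU k F q} (hc : IsConj (g : GL (Fin k) F) (h : GL (Fin k) F)) :
    IsConj g h := by
  obtain ⟨T, hT⟩ := isConj_iff.1 hc
  set G := ((g : GL (Fin k) F) : Matrix (Fin k) (Fin k) F) with hG
  set H := ((h : GL (Fin k) F) : Matrix (Fin k) (Fin k) F)
  have hg : adj hF G * G = 1 := (mem_GU_iff hF _).1 g.2
  have hh : adj hF H * H = 1 := (mem_GU_iff hF _).1 h.2
  have hTG : (T : Matrix (Fin k) (Fin k) F) * G = H * T := congrArg Units.val (mul_inv_eq_iff_eq_mul.1 hT)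
  set M := adj hF (T : Matrix (Fin k) (Fin k) F) * T with hMdef
  have hMu : IsUnit M := by
    refine IsUnit.mul (IsUnit.of_mul_eq_one (adj hF (↑T⁻¹ : Matrix (Fin k) (Fin k) F)) ?_) T.isUnit
    rw [← adj_mul, Units.inv_mul, adj_one]
  have hsa : adj hF M = M := by rw [hMdef, adj_mul, adj_adj]
  have hMg : adj hF G * M * G = M := by
    calc adj hF G * M * G = adj hF ((T : Matrix (Fin k) (Fin k) F) * G) * (T * G) := by
          rw [adj_mul, hMdef]; simp only [mul_assoc]
      _ = adj hF (T : Matrix (Fin k) (Fin k) F) * (adj hF H * H) * T := by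
          rw [hTG, adj_mul]; simp only [mul_assoc]
      _ = M := by rw [hh, mul_one]
  have hGr : G * adj hF G = 1 := mul_eq_one_comm.1 hg
  have hcomm : Commute M G := by
    show M * G = G * M
    conv_rhs => rw [← hMg, ← mul_assoc, ← mul_assoc, hGr, one_mul]
  obtain ⟨c, hcM, hcG⟩ := exists_adj_mul_self_eq hF hMu hsa hcomm
  have hcu : IsUnit c := by
    rw [Matrix.isUnit_iff_isUnit_det]
    have h1 : IsUnit (adj hF c * c).det := by rw [hcM, ← Matrix.isUnit_iff_isUnit_det]; exact hMu
    rw [Matrix.det_mul] at h1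
    exact (IsUnit.mul_iff.1 h1).2
  obtain ⟨C, rfl⟩ := hcu
  have hadjC : adj hF (↑C⁻¹ : Matrix (Fin k) (Fin k) F) * adj hF (C : Matrix (Fin k) (Fin k) F) = 1 := by
    rw [← adj_mul, Units.mul_inv, adj_one]
  have hU : T * C⁻¹ ∈ GU k F q := by
    rw [mem_GU_iff hF, Units.val_mul, adj_mul]
    calc adj hF (↑C⁻¹ : Matrix (Fin k) (Fin k) F) * adj hF (T : Matrix (Fin k) (Fin k) F) * (↑T * ↑C⁻¹)
        = adj hF (↑C⁻¹ : Matrix (Fin k) (Fin k) F) * M * ↑C⁻¹ := by rw [hMdef]; simp only [mul_assoc]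
      _ = (adj hF (↑C⁻¹ : Matrix (Fin k) (Fin k) F) * adj hF (C : Matrix (Fin k) (Fin k) F)) * (↑C * ↑C⁻¹) := by
          rw [← hcM]; simp only [mul_assoc]
      _ = 1 := by rw [hadjC, Units.mul_inv, one_mul]
  have hCg : C⁻¹ * (g : GL (Fin k) F) = (g : GL (Fin k) F) * C⁻¹ :=
    ((show Commute C (g : GL (Fin k) F) from Units.ext hcG.eq).inv_left).eq
  refine isConj_iff.2 ⟨⟨T * C⁻¹, hU⟩, Subtype.ext ?_⟩
  show T * C⁻¹ * (g : GL (Fin k) F) * (T * C⁻¹)⁻¹ = (h : GL (Fin k) F)
  rw [mul_assoc T, hCg, ← hT]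
  group

end Cfsg.Agent.UnitaryConj
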