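/-
Elements of odd prime order in `GU_n(q)`: symmetry of the orbit multiplicities, blocks, classes.
-/
import Mathlib
import Cfsg.Agent.Lib.Semisimple.Isometry
import Cfsg.Agent.Lib.Semisimple.Duality
import Cfsg.Agent.Lib.Forms.Classify

set_option autoImplicit false
set_option linter.unusedSectionVars false

open Polynomial Module
open scoped Matrix

namespace Cfsg.Agent.Semisimple

variable {F : Type*} [Field F] [Fintype F] {q : ℕ} (hF : Fintype.card F = q ^ 2) {r : ℕ} [Fact r.Prime]

/-- The class of `q`, a square root of the Frobenius class. -/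
noncomputable def qOrb (F : Type*) [Fintype F] (q r : ℕ) [Fact r.Prime] : Orb F r :=
  if h : (q : ZMod r) = 0 then 1 else ((Units.mk0 _ h : (ZMod r)ˣ) : Orb F r)

/-- The twisted inversion `u ↦ -q u` on orbits. -/
noncomputable def twistOrb (F : Type*) [Fintype F] (q r : ℕ) [Fact r.Prime] : Orb F r :=
  negOrb F r * qOrb F q r

variable {K : Type} [Field K] [Algebra F K] [Finite K] {ζ : K}

/-- `a` is realised in the unitary group of dimension `n`. -/
def RealU (ζ : K) (q n : ℕ) (a : Orb F r → ℕ) : Prop :=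
  ∃ f : End F (Fin n → F), f ^ r = 1 ∧ (∀ u v, hermForm n F q (f u) (f v) = hermForm n F q u v) ∧
    (orbMult ζ f : Orb F r → ℕ) = a

namespace RootField

variable (hK : RootField F r K ζ)
include hK hF

theorem q_ne_zero : (q : ZMod r) ≠ 0 := fun h => hK.card_ne_zero (by rw [hF, Nat.cast_pow, h, zero_pow two_ne_zero])

theorem qOrb_eq : qOrb F q r = ((Units.mk0 _ (hK.q_ne_zero hF) : (ZMod r)ˣ) : Orb F r) := by
  rw [qOrb, dif_neg (hK.q_ne_zero hF)]

theorem twist_mul_self : twistOrb F q r * twistOrb F q r = 1 := by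
  rw [twistOrb, negOrb, hK.qOrb_eq hF, ← QuotientGroup.mk_mul, ← QuotientGroup.mk_mul,
    QuotientGroup.eq_one_iff]
  convert Subgroup.mem_zpowers (frobUnit F r) using 1
  exact Units.ext (by simp [hK.val_frobUnit, hF, pow_two])

theorem twist_eq_one_iff (hr2 : r ≠ 2) : twistOrb F q r = 1 ↔ orderOf (q : ZMod r) % 4 = 2 := by
  set x : ZMod r := (q : ZMod r) with hx
  have hq0 : x ≠ 0 := hK.q_ne_zero hF
  have hn1 : (-1 : ZMod r) ≠ 1 := hK.neg_one_ne_one hr2
  have hQ : (Fintype.card F : ZMod r) = x ^ 2 := by rw [hF, Nat.cast_pow]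
  rw [twistOrb, hK.qOrb_eq hF, negOrb, ← QuotientGroup.mk_mul, ← QuotientGroup.mk_one, eq_comm, hK.orbit_iff]
  simp only [Units.val_one, one_mul, Units.val_mul, Units.val_neg, neg_mul, Units.val_mk0, hQ, ← pow_mul, ← hx]
  have hpos : 0 < orderOf x := orderOf_pos_iff.2 (IsUnit.isOfFinOrder (Ne.isUnit hq0))
  constructor
  · rintro ⟨j, hj⟩
    -- `x ^ (2j + 1)` squared and `x ^ (2j-1) = -1`
    have h2 : x ^ (2 * (2 * j) ) = x ^ 2 := by rw [mul_comm, pow_mul, ← hj]; ring
    have hev : Even (orderOf x) := by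
      by_contra hodd
      rw [Nat.not_even_iff_odd] at hodd
      obtain ⟨c, hc⟩ := hodd
      have h1 : x ^ (2 * j + (2 * c + 1)) = x ^ (2 * j) := by rw [pow_add, ← hc, pow_orderOf_eq_one, mul_one]
      have h3 : x ^ (2 * j) = -x := hj.symm
      rcases Nat.eq_zero_or_pos j with rfl | hj0
      · rw [mul_zero, pow_zero] at h3
        have hx1 : x = -1 := by linear_combination h3
        have h4 : orderOf x = 2 := by rw [hx1]; exact orderOf_eq_prime (by ring) hn1
        omega
      · have h5 : x ^ (2 * (2 * j - 1)) = 1 := mul_right_cancel₀ (pow_ne_zero 2 hq0) (by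
          rw [← pow_add, show 2 * (2 * j - 1) + 2 = 2 * (2 * j) by omega, h2, one_mul])
        rw [← orderOf_dvd_iff_pow_eq_one] at h5
        have h6 := (Nat.coprime_two_right.2 ⟨c, hc⟩).dvd_of_dvd_mul_left h5
        rw [orderOf_dvd_iff_pow_eq_one] at h6
        refine hn1 ?_
        have h7 : x ^ (2 * j - 1) * x = -x := by rw [← pow_succ, show 2 * j - 1 + 1 = 2 * j by omega, h3]
        rw [h6, one_mul] at h7
        exact mul_right_cancel₀ hq0 (by rw [one_mul, neg_one_mul]; exact h7.symm)
    obtain ⟨k, hk⟩ := hev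
    have hk1 : x ^ k = -1 := by
      have h1 : x ^ k * x ^ k = 1 := by rw [← pow_add, ← hk, pow_orderOf_eq_one]
      rcases mul_self_eq_one_iff.1 h1 with h | h
      · have := orderOf_le_of_pow_eq_one (by omega) h
        omega
      · exact h
    by_contra hk4
    have hkeven : Even k := by
      rw [Nat.even_iff]
      omega
    obtain ⟨l, hl⟩ := hkeven
    have h8 : x ^ (2 * j) = x ^ (k + 1) := by rw [pow_succ, hk1, ← hj, neg_one_mul]
    have h9 : 2 * j % orderOf x = (k + 1) % orderOf x :=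
      (IsUnit.isOfFinOrder (Ne.isUnit hq0)).pow_eq_pow_iff_modEq.1 h8
    have h10 : orderOf x = 2 * (2 * l) := by omega
    rw [h10] at h9
    have h11 : 2 * j % 2 = (k + 1) % 2 := Nat.ModEq.of_dvd (dvd_mul_right 2 (2 * l)) h9
    omega
  · intro h4
    obtain ⟨k, hk⟩ : Even (orderOf x) := Nat.even_iff.2 (by omega)
    have hk1 : x ^ k = -1 := by
      have h1 : x ^ k * x ^ k = 1 := by rw [← pow_add, ← hk, pow_orderOf_eq_one]
      rcases mul_self_eq_one_iff.1 h1 with h | h
      · have := orderOf_le_of_pow_eq_one (by omega) h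
        omega
      · exact h
    exact ⟨(k + 1) / 2, by rw [Nat.mul_div_cancel' (by omega), pow_succ, hk1, neg_one_mul]⟩

/-- Twisting a polynomial by the field involution multiplies exponents by `q`. -/
theorem mult_map_qEnd (P : F[X]) (u : ZMod r) :
    mult ζ (P.map (Forms.qEnd hF)) (u * (q : ZMod r)) = mult ζ P u := by
  obtain ⟨p, k, hpp, hp, hk⟩ := Forms.exists_prime_pow_q hF
  haveI := Fact.mk hpp
  haveI : CharP K p := charP_of_injective_algebraMap (algebraMap F K).injective p
  have hφ : ∀ x : K, iterateFrobenius K p k x = x ^ q := fun x => by rw [iterateFrobenius_def, hk]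
  rw [mult, hK.ev_mul_natCast]
  conv_rhs => rw [mult, eq_rootMultiplicity_map (f := iterateFrobenius K p k) (RingHom.injective _)]
  rw [Polynomial.map_map, Polynomial.map_map, hφ,
    show (algebraMap F K).comp (Forms.qEnd hF) = (iterateFrobenius K p k).comp (algebraMap F K) from
      RingHom.ext fun c => by simp [hφ, Forms.qEnd_apply]]

/-- Unitary elements have twist-symmetric multiplicities. -/
theorem orbMult_herm_symm {n : ℕ} (f : End F (Fin n → F)) (hf : f ^ r = 1)
    (hmap : ∀ u v, hermForm n F q (f u) (f v) = hermForm n F q u v) (c : Orb F r) :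
    orbMult ζ f (c * twistOrb F q r) = orbMult ζ f c := by
  classical
  obtain ⟨A, rfl⟩ : ∃ A : Matrix (Fin n) (Fin n) F, Matrix.toLinAlgEquiv' A = f :=
    ⟨_, Matrix.toLinAlgEquiv'_toMatrixAlgEquiv' f⟩
  have huni : (A.map (Forms.qEnd hF))ᵀ * A = 1 := by
    ext b a
    have h := hmap (Pi.single a 1) (Pi.single b 1)
    simp only [hermForm] at h
    have hcol : ∀ a i, Matrix.toLinAlgEquiv' A (Pi.single a 1) i = A i a := fun a i => by
      rw [Matrix.toLinAlgEquiv'_apply, Matrix.mulVec_single_one]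
      rfl
    simp only [hcol] at h
    rw [Matrix.mul_apply, Matrix.one_apply]
    simp only [Matrix.transpose_apply, Matrix.map_apply, Forms.qEnd_apply]
    rw [Finset.sum_congr rfl fun i _ => mul_comm _ _, h]
    have hq : q ≠ 0 := by have := Forms.one_lt_q hF; omega
    simp [Pi.single_apply, zero_pow hq, eq_comm]
  have hAr : A ^ r = 1 := Matrix.toLinAlgEquiv'.injective (by rw [map_pow, map_one]; exact hf)
  have hinv : A ^ (r - 1) = (A.map (Forms.qEnd hF))ᵀ := by
    rw [← one_mul (A ^ (r - 1)), ← huni, mul_assoc, ← pow_succ',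
      Nat.sub_add_cancel (Fact.out : r.Prime).one_lt.le, hAr, mul_one]
  have hcp : ∀ M : Matrix (Fin n) (Fin n) F,
      (Matrix.toLinAlgEquiv' M : End F (Fin n → F)).charpoly = M.charpoly := fun M => by
    rw [← LinearMap.charpoly_toMatrix (Matrix.toLinAlgEquiv' M) (Pi.basisFun F (Fin n))]
    congr 1
    rw [LinearMap.toMatrix_eq_toMatrix']
    exact LinearMap.toMatrix'_toLin' M
  have key : ∀ d : (ZMod r)ˣ,
      orbMult ζ ((Matrix.toLinAlgEquiv' A : End F (Fin n → F)) ^ (r - 1)) ((d : Orb F r) * qOrb F q r) =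
        orbMult ζ (Matrix.toLinAlgEquiv' A : End F (Fin n → F)) (d : Orb F r) := by
    intro d
    rw [hK.qOrb_eq hF, ← QuotientGroup.mk_mul, hK.orbMult_mk, hK.orbMult_mk, Units.val_mul, Units.val_mk0,
      ← map_pow, hinv]
    rw [hcp, hcp, Matrix.charpoly_transpose, Matrix.charpoly_map, hK.mult_map_qEnd hF]
  obtain ⟨d, rfl⟩ := QuotientGroup.mk_surjective c
  have h1 := hK.orbMult_inv _ hf ((d : Orb F r) * twistOrb F q r)
  rw [twistOrb, mul_assoc, mul_comm (negOrb F r) (qOrb F q r), mul_assoc, negOrb_mul_self, mul_one] at h1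
  rw [twistOrb, mul_comm (negOrb F r) (qOrb F q r), ← h1, key]

omit hK in
/-- A realisation on any hermitian space gives one on the standard space. -/
theorem realU_of_space {V : Type*} [AddCommGroup V] [Module F V] [FiniteDimensional F V]
    (B : V →ₛₗ[Forms.qEnd hF] V →ₗ[F] F) (hS : ∀ x y, Forms.qEnd hF (B x y) = B y x)
    (hB : ∀ x, (∀ y, B x y = 0) → x = 0) (f : End F V) (hf : f ^ r = 1) (hmap : ∀ x y, B (f x) (f y) = B x y) :
    RealU ζ q (finrank F V) (orbMult ζ f : Orb F r → ℕ) := by
  obtain ⟨e, he⟩ := Forms.exists_herm_coords hF hS hB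
  refine ⟨e.conj f, ?_, fun u v => ?_, RootField.orbMult_conj f e⟩
  · show (e.conjRingEquiv f) ^ r = 1
    rw [← map_pow, hf, map_one]
  · obtain ⟨x, rfl⟩ := e.surjective u
    obtain ⟨y, rfl⟩ := e.surjective v
    rw [LinearEquiv.conj_apply_apply, LinearEquiv.conj_apply_apply, LinearEquiv.symm_apply_apply,
      LinearEquiv.symm_apply_apply, ← he, ← he, hmap]

theorem realU_zero (n : ℕ) : RealU (F := F) (r := r) ζ q n 0 :=
  ⟨1, one_pow r, fun _ _ => rfl, hK.orbMult_one⟩

theorem realU_add {n n' : ℕ} {a a' : Orb F r → ℕ} (h : RealU ζ q n a) (h' : RealU ζ q n' a') :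
    RealU ζ q (n + n') (a + a') := by
  obtain ⟨f, hf, hfm, hfa⟩ := h
  obtain ⟨g, hg, hgm, hga⟩ := h'
  let B : ((Fin n → F) × (Fin n' → F)) →ₛₗ[Forms.qEnd hF] ((Fin n → F) × (Fin n' → F)) →ₗ[F] F :=
    LinearMap.mk₂'ₛₗ (Forms.qEnd hF) (RingHom.id F)
      (fun x y => Forms.hermB hF n x.1 y.1 + Forms.hermB hF n' x.2 y.2)
      (fun a b c => by simp; abel) (fun c a b => by simp [map_smulₛₗ]; ring)
      (fun a b c => by simp; abel) (fun c a b => by simp; ring)
  have hBap : ∀ x y, B x y = hermForm n F q y.1 x.1 + hermForm n' F q y.2 x.2 := fun x y => rfl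
  have hsep : ∀ x, (∀ y, B x y = 0) → x = 0 := by
    intro x hx
    refine Prod.ext ((Forms.hermB_polar hF n).sep _ fun y => ?_) ((Forms.hermB_polar hF n').sep _ fun y => ?_)
    · have := hx (y, 0)
      simpa [hBap, hermForm, Forms.hermB_apply] using this
    · have := hx (0, y)
      simpa [hBap, hermForm, Forms.hermB_apply] using this
  have hp : ∀ k, (f.prodMap g) ^ k = (f ^ k).prodMap (g ^ k) := by
    intro k
    induction k with
    | zero => exact LinearMap.ext fun x => rfl
    | succ k ih =>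
      rw [pow_succ, ih, pow_succ f, pow_succ g]
      exact LinearMap.ext fun x => rfl
  have := realU_of_space (ζ := ζ) hF B (fun x y => by rw [hBap, hBap, map_add, Forms.hermForm_swap hF, Forms.hermForm_swap hF])
    hsep (f.prodMap g) (by rw [hp, hf, hg]; exact LinearMap.ext fun x => rfl)
    (fun x y => by rw [hBap, hBap]; simp [hfm, hgm])
  rwa [Module.finrank_prod, Module.finrank_fin_fun, Module.finrank_fin_fun, hK.orbMult_prodMap, hfa, hga] at this

theorem realU_mono {n m : ℕ} {a : Orb F r → ℕ} (h : RealU ζ q n a) (hnm : n ≤ m) : RealU ζ q m a := by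
  have := hK.realU_add hF h (hK.realU_zero hF (m - n))
  rwa [add_zero, Nat.add_sub_cancel' hnm] at this

theorem realU_sum {d : ℕ} (A : Orb F r → Orb F r → ℕ) (hA : ∀ c, RealU ζ q d (A c)) (x : Orb F r → ℕ) :
    RealU ζ q (d * ∑ c, x c) (∑ c, x c • A c) := by
  classical
  have hs : ∀ (c : Orb F r) (k : ℕ), RealU ζ q (d * k) (k • A c) := by
    intro c k
    induction k with
    | zero => rw [mul_zero, zero_smul]; exact hK.realU_zero hF 0
    | succ k ih => rw [mul_add, mul_one, succ_nsmul]; exact hK.realU_add hF ih (hA c)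
  induction (Finset.univ : Finset (Orb F r)) using Finset.induction_on with
  | empty => rw [Finset.sum_empty, Finset.sum_empty, mul_zero]; exact hK.realU_zero hF 0
  | insert c s hc ih =>
    rw [Finset.sum_insert hc, Finset.sum_insert hc, mul_add]
    exact hK.realU_add hF (hs c (x c)) ih

omit hK in
theorem trace_twist (J : K ≃+* K) (hJ : ∀ c : F, J (algebraMap F K c) = algebraMap F K (Forms.qEnd hF c)) (z : K) :
    Forms.qEnd hF (Algebra.trace F K z) = Algebra.trace F K (J z) := by
  let e₁ : F ≃+* F := RingEquiv.ofBijective (Forms.qEnd hF)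
    ⟨RingHom.injective _, fun x => ⟨_, Forms.qEnd_qEnd hF x⟩⟩
  have h := Algebra.trace_eq_of_equiv_equiv e₁ J (RingHom.ext fun c => (hJ c).symm) z
  rw [h]
  exact e₁.apply_symm_apply _

theorem finrank_eq_b : finrank F K = orderOf ((q : ZMod r) ^ 2) := by
  rw [hK.deg, hF, Nat.cast_pow]

/-- The non-degenerate block of a self-dual orbit. -/
theorem realU_self_dual (h4 : orderOf (q : ZMod r) % 4 = 2) (c : Orb F r) :
    RealU ζ q (finrank F K) (Pi.single c 1) := by
  classical
  set x : ZMod r := (q : ZMod r) with hx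
  obtain ⟨k, hk⟩ : Even (orderOf x) := Nat.even_iff.2 (by omega)
  set b := finrank F K with hb
  have hbk : b = k := by
    rw [hb, hK.finrank_eq_b hF, ← hx, orderOf_pow' _ two_ne_zero,
      Nat.gcd_eq_right ⟨k, by omega⟩]
    omega
  have hbodd : Odd b := by rw [Nat.odd_iff]; omega
  have := Fintype.ofFinite K
  have hcK : Fintype.card K = (q ^ b) ^ 2 := by
    rw [Module.card_eq_pow_finrank (K := F) (V := K), hF, ← hb, ← pow_mul, ← pow_mul, mul_comm]
  have hJc : ∀ a : F, algebraMap F K a ^ (q ^ b) = algebraMap F K (Forms.qEnd hF a) := by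
    intro a
    obtain ⟨j, hj⟩ := hbodd
    rw [← map_pow, hj, pow_succ, pow_mul q 2 j, pow_mul, ← hF, FiniteField.pow_card_pow, Forms.qEnd_apply]
  let J : K ≃+* K := RingEquiv.ofBijective (Forms.qEnd hcK)
    ⟨RingHom.injective _, fun y => ⟨_, Forms.qEnd_qEnd hcK y⟩⟩
  have hJ : ∀ y, J y = Forms.qEnd hcK y := fun y => rfl
  have hJJ : ∀ y, J (J y) = y := Forms.qEnd_qEnd hcK
  have hJu : ∀ u : ZMod r, J (ev ζ u) * ev ζ u = 1 := by
    intro u
    have hq : (q : ZMod r) ^ k = -1 := by
      have h1 : x ^ k * x ^ k = 1 := by rw [← pow_add, ← hk, pow_orderOf_eq_one]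
      rcases mul_self_eq_one_iff.1 h1 with h | h
      · have := orderOf_le_of_pow_eq_one (by omega) h
        omega
      · exact h
    rw [hJ, Forms.qEnd_apply, ← hK.ev_mul_natCast, ← hK.ev_add, hbk, Nat.cast_pow, hq, mul_neg, mul_one,
      neg_add_cancel, ev, ZMod.val_zero, pow_zero]
  have hJs : ∀ (a : F) (y : K), J (a • y) = Forms.qEnd hF a • J y := fun a y => by
    rw [Algebra.smul_def, Algebra.smul_def, map_mul, hJ (algebraMap F K a), Forms.qEnd_apply, hJc]
  let B : K →ₛₗ[Forms.qEnd hF] K →ₗ[F] F :=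
    LinearMap.mk₂'ₛₗ (Forms.qEnd hF) (RingHom.id F) (fun y z => Algebra.trace F K (J y * z))
      (fun y y' z => by simp [add_mul]) (fun a y z => by rw [hJs, smul_mul_assoc, map_smul])
      (fun y z z' => by simp [mul_add]) (fun a y z => by simp [mul_smul_comm])
  have hu : ∀ u : ZMod r, RealU ζ q b (orbMult ζ (Algebra.lmul F K (ev ζ u)) : Orb F r → ℕ) := by
    intro u
    refine realU_of_space hF B (fun y z => ?_) (fun y hy => ?_) _ (hK.pow_mulBlock u) fun y z => ?_
    · show Forms.qEnd hF (Algebra.trace F K (J y * z)) = Algebra.trace F K (J z * y)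
      rw [trace_twist hF J (fun a => by rw [hJ, Forms.qEnd_apply, hJc]), map_mul, hJJ, mul_comm]
    · exact J.injective (((traceForm_nondegenerate F K).1 (J y) fun z => hy z).trans (map_zero J).symm)
    · show Algebra.trace F K (J (ev ζ u * y) * (ev ζ u * z)) = Algebra.trace F K (J y * z)
      congr 1
      rw [map_mul]
      linear_combination (J y * z) * hJu u
  have := hu ((c.out : (ZMod r)ˣ) : ZMod r)
  rwa [hK.orbMult_mulBlock, QuotientGroup.out_eq'] at this

/-- A pair of totally isotropic blocks. -/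
theorem realU_pair (c : Orb F r) :
    RealU ζ q (2 * finrank F K) (Pi.single c 1 + Pi.single (c * twistOrb F q r) 1) := by
  classical
  obtain ⟨p, k, hpp, hp, hk⟩ := Forms.exists_prime_pow_q hF
  haveI := Fact.mk hpp
  haveI : CharP K p := charP_of_injective_algebraMap (algebraMap F K).injective p
  let φ : K →+* K := iterateFrobenius K p k
  have hφ : ∀ y : K, φ y = y ^ q := fun y => by rw [iterateFrobenius_def, hk]
  have hφs : ∀ (a : F) (y : K), φ (a • y) = Forms.qEnd hF a • φ y := fun a y => by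
    rw [Algebra.smul_def, Algebra.smul_def, map_mul, hφ (algebraMap F K a), Forms.qEnd_apply, map_pow]
  let B : (K × K) →ₛₗ[Forms.qEnd hF] (K × K) →ₗ[F] F :=
    LinearMap.mk₂'ₛₗ (Forms.qEnd hF) (RingHom.id F)
      (fun y z => Algebra.trace F K (φ y.1 * z.2) + Forms.qEnd hF (Algebra.trace F K (φ z.1 * y.2)))
      (fun y y' z => by simp [add_mul, mul_add]; abel)
      (fun a y z => by
        simp only [Prod.smul_fst, Prod.smul_snd, hφs, smul_mul_assoc, mul_smul_comm, map_smul, smul_eq_mul,
          map_mul]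
        ring)
      (fun y z z' => by simp [mul_add, add_mul]; abel)
      (fun a y z => by
        simp only [Prod.smul_fst, Prod.smul_snd, hφs, smul_mul_assoc, mul_smul_comm, map_smul, smul_eq_mul,
          map_mul, Forms.qEnd_qEnd, RingHom.id_apply]
        ring)
  have hBap : ∀ y z, B y z =
      Algebra.trace F K (φ y.1 * z.2) + Forms.qEnd hF (Algebra.trace F K (φ z.1 * y.2)) := fun y z => rfl
  let u : ZMod r := ((c.out : (ZMod r)ˣ) : ZMod r)
  let f : End F (K × K) := (Algebra.lmul F K (ev ζ u)).prodMap (Algebra.lmul F K (ev ζ (-(u * (q : ZMod r)))))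
  have hp : ∀ j, f ^ j = (Algebra.lmul F K (ev ζ u) ^ j).prodMap
      (Algebra.lmul F K (ev ζ (-(u * (q : ZMod r)))) ^ j) := by
    intro j
    induction j with
    | zero => exact LinearMap.ext fun y => rfl
    | succ j ih =>
      rw [pow_succ, ih, pow_succ (Algebra.lmul F K (ev ζ u)), pow_succ (Algebra.lmul F K (ev ζ (-(u * _))))]
      exact LinearMap.ext fun y => rfl
  have hev : φ (ev ζ u) * ev ζ (-(u * (q : ZMod r))) = 1 := by
    rw [hφ, ← hK.ev_mul_natCast, ← hK.ev_add, add_neg_cancel, ev, ZMod.val_zero, pow_zero]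
  have h := realU_of_space (ζ := ζ) hF B (fun y z => by rw [hBap, hBap, map_add, Forms.qEnd_qEnd, add_comm])
    (fun y hy => ?_) f (by rw [hp, hK.pow_mulBlock, hK.pow_mulBlock]; exact LinearMap.ext fun y => rfl)
    (fun y z => by
      rw [hBap, hBap]
      show Algebra.trace F K (φ (ev ζ u * y.1) * (ev ζ _ * z.2)) +
        Forms.qEnd hF (Algebra.trace F K (φ (ev ζ u * z.1) * (ev ζ _ * y.2))) = _
      have e : ∀ v w : K, φ (ev ζ u * v) * (ev ζ (-(u * (q : ZMod r))) * w) = φ v * w := fun v w => by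
        rw [map_mul φ]
        linear_combination (φ v * w) * hev
      rw [e, e])
  · rw [Module.finrank_prod, ← two_mul, hK.orbMult_prodMap, hK.orbMult_mulBlock, QuotientGroup.out_eq'] at h
    have h2 : (orbMult ζ (Algebra.lmul F K (ev ζ (-(u * (q : ZMod r))))) : Orb F r → ℕ) =
        Pi.single (c * twistOrb F q r) 1 := by
      rw [show -(u * (q : ZMod r)) = ((c.out * (-1) * Units.mk0 _ (hK.q_ne_zero hF) : (ZMod r)ˣ) : ZMod r) by
        simp [u], hK.orbMult_mulBlock]
      simp only [QuotientGroup.mk_mul, QuotientGroup.out_eq', twistOrb, hK.qOrb_eq hF, negOrb, mul_assoc]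
    rwa [h2] at h
  · have h1 : φ y.1 = 0 := (traceForm_nondegenerate F K).1 _ fun z => by
      have := hy (0, z)
      simp [hBap] at this
      exact this
    have h2 : y.2 = 0 := (traceForm_nondegenerate F K).1 _ fun z => by
      obtain ⟨z, rfl⟩ := (Finite.injective_iff_surjective.1 φ.injective) z
      have := hy (z, 0)
      simp [hBap] at this
      rw [Algebra.traceForm_apply, mul_comm]
      exact this
    exact Prod.ext (φ.injective (h1.trans (map_zero φ).symm)) h2

/-- Classes of elements of order `r` in `GU_n(q)`. -/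
theorem card_gu_classes {n : ℕ} (T : (Orb F r → ℕ) → Prop)
    (hT : ∀ f : End F (Fin n → F), f ^ r = 1 →
      (∀ u v, hermForm n F q (f u) (f v) = hermForm n F q u v) → T (orbMult ζ f))
    (hsurj : ∀ a, T a → a ≠ 0 → RealU ζ q n a) :
    Nat.card {C : ConjClasses ↥(GU n F q) // ∃ g : ↥(GU n F q), ConjClasses.mk g = C ∧ orderOf g = r} =
      Nat.card {a : Orb F r → ℕ // T a ∧ a ≠ 0} := by
  let E := Forms.guEquiv n F q
  let φ : ↥(GU n F q) →* End F (Fin n → F) :=
    { toFun := fun g => ((E g : (Fin n → F) ≃ₗ[F] (Fin n → F)) : (Fin n → F) →ₗ[F] (Fin n → F))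
      map_one' := by rw [map_one]; rfl
      map_mul' := fun a b => by rw [map_mul]; rfl }
  have hφ : Function.Injective φ := fun a b h =>
    E.injective (Subtype.ext (LinearEquiv.toLinearMap_injective h))
  refine hK.card_prime_order_classes φ hφ T
    (fun g hg => hT _ (by rw [← map_pow, hg, map_one]) (E g).2) (fun g h hg hh hc => ?_) (fun a ha ha0 => ?_)
  · obtain ⟨e, he, hef⟩ := exists_isometric_conj (N := r) (σ := Forms.qEnd hF) (ε := (1 : F)) _ _ _
      (Forms.hermB hF n) (Forms.hermB hF n) (φ g) (φ h) rfl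
      ⟨fun x y => by rw [one_mul, Forms.hermB_apply, Forms.hermB_apply, Forms.hermForm_swap hF],
        Forms.qEnd_qEnd hF, (Forms.hermB_polar hF n).sep⟩
      ⟨fun x y => by rw [one_mul, Forms.hermB_apply, Forms.hermB_apply, Forms.hermForm_swap hF],
        Forms.qEnd_qEnd hF, (Forms.hermB_polar hF n).sep⟩
      ⟨fun x y => (E g).2 y x, by rw [← map_pow, hg, map_one], hK.unit⟩
      ⟨fun x y => (E h).2 y x, by rw [← map_pow, hh, map_one], hK.unit⟩
      (fun h' => absurd h' (Forms.qEnd_ne_id hF)) (fun h' => absurd h' (Forms.qEnd_ne_id hF)) hc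
    have hmem : e ∈ Forms.isom F (hermForm n F q) := fun u v => by
      rw [← Forms.hermB_apply hF, ← Forms.hermB_apply hF]
      exact hef v u
    refine isConj_iff.2 ⟨E.symm ⟨e, hmem⟩, ?_⟩
    rw [mul_inv_eq_iff_eq_mul]
    refine E.injective (Subtype.ext (LinearEquiv.ext fun v => ?_))
    rw [map_mul, map_mul, MulEquiv.apply_symm_apply]
    exact he v
  · obtain ⟨f, hf, hfm, hfa⟩ := hsurj a ha ha0
    have hinv : ∀ x, (f ^ (r - 1)) (f x) = x := fun x => by
      rw [← Module.End.mul_apply, ← pow_succ, Nat.sub_add_cancel (Fact.out : r.Prime).one_lt.le, hf,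
        Module.End.one_apply]
    have hinj : Function.Injective f := fun x y h => by rw [← hinv x, h, hinv]
    let e : (Fin n → F) ≃ₗ[F] (Fin n → F) :=
      LinearEquiv.ofBijective f ⟨hinj, (LinearMap.injective_iff_surjective (f := f)).1 hinj⟩
    have hh : φ (E.symm ⟨e, fun u v => hfm u v⟩) = f := by
      show ((E (E.symm _)) : (Fin n → F) ≃ₗ[F] (Fin n → F)).toLinearMap = f
      rw [MulEquiv.apply_symm_apply]
      rfl
    exact ⟨_, hφ (by rw [map_pow, hh, hf, map_one]), by rw [hh, hfa]⟩

end RootField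

end Cfsg.Agent.Semisimple
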