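/-
Unitary realisations of all unipotent Jordan types.
-/
import Cfsg.Agent.Lib.GL.UnitaryOrders
import Cfsg.Agent.Lib.UnipForms.Types
import Cfsg.Agent.Lib.Semisimple.UnitaryConj

set_option autoImplicit false

open Cfsg
open scoped Matrix

namespace Cfsg.Agent.UnitaryConj

open Forms LinRep.JordanType

variable {F : Type*} [Field F] [Fintype F] {q : ℕ} (hF : Fintype.card F = q ^ 2)

include hF in
/-- A unitary matrix with a single unipotent Jordan block. -/
theorem exists_unitary_block {s : ℕ} (hs : 0 < s) :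
    ∃ J : Matrix (Fin s) (Fin s) F, GL.Preserves (hermForm s F q) J ∧
      IsNilpotent (Matrix.toLinAlgEquiv' (J - 1)) ∧ HasType (Matrix.toLinAlgEquiv' (J - 1)) {s} := by
  obtain ⟨l, hl⟩ : ∃ l : F, qEnd hF l ≠ l := by
    by_contra hc
    push Not at hc
    exact Forms.qEnd_ne_id hF (RingHom.ext hc)
  set m := qEnd hF l with hm
  set N₀ := GL.shiftMat F s with hN₀
  have hdet : ∀ c : F, IsUnit (1 + c • N₀).det := fun c => by
    rw [hN₀, GL.det_one_add_smul_shiftMat]; exact isUnit_one
  let h : (Fin s → F) → (Fin s → F) → F := fun u v => ∑ i, u i * qEnd hF (v i.rev)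
  have hsymm : ∀ u v, qEnd hF (h u v) = h v u := by
    intro u v
    simp only [h, map_sum, map_mul, qEnd_qEnd]
    exact Fintype.sum_equiv Fin.revPerm _ _ fun i => by simp [mul_comm]
  have hh : GL.IsReflexiveSesq (qEnd hF) h :=
    { invol := qEnd_qEnd hF
      add_left := fun u u' v => by simp [h, add_mul, Finset.sum_add_distrib]
      smul_left := fun c u v => by simp [h, Finset.mul_sum, mul_assoc]
      add_right := fun u v v' => by simp [h, mul_add, Finset.sum_add_distrib]
      smul_right := fun c u v => by simp [h, Finset.mul_sum, mul_left_comm]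
      refl := fun u v huv => by rw [← hsymm u v, huv, map_zero]
      nondeg := fun v hv => by
        funext i
        have := hv (Pi.single i.rev 1)
        simpa [h, Pi.single_apply] using this }
  have hN : ∀ (u v : Fin s → F), h (N₀ *ᵥ u) v = h u (N₀ *ᵥ v) := by
    intro u v
    simp only [h, hN₀, Matrix.mulVec, dotProduct, GL.shiftMat, Matrix.of_apply, ite_mul, one_mul, zero_mul,
      map_sum, Finset.mul_sum, Finset.sum_mul, apply_ite (qEnd hF), map_zero, mul_ite, mul_zero]
    rw [Finset.sum_comm]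
    refine Finset.sum_congr rfl fun i _ => ?_
    refine Fintype.sum_equiv Fin.revPerm _ _ fun j => ?_
    simp only [Fin.revPerm_apply, Fin.val_rev]
    by_cases hij : (i : ℕ) = j + 1
    · rw [if_pos hij, if_pos (by omega)]
    · rw [if_neg hij, if_neg (by omega)]
  set M := (1 + m • N₀)⁻¹ with hM
  set U := (1 + l • N₀) * M with hU
  obtain ⟨Φ, hΦ⟩ := GL.exists_to_standard hF (n := s) (Fintype.card_fin s) hh hsymm
  have hpres : GL.Preserves h U := by
    intro u v
    obtain ⟨u', rfl⟩ : ∃ u', (1 + m • N₀) *ᵥ u' = u :=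
      ⟨M *ᵥ u, by rw [Matrix.mulVec_mulVec, hM, Matrix.mul_nonsing_inv _ (hdet m), Matrix.one_mulVec]⟩
    obtain ⟨v', rfl⟩ : ∃ v', (1 + m • N₀) *ᵥ v' = v :=
      ⟨M *ᵥ v, by rw [Matrix.mulVec_mulVec, hM, Matrix.mul_nonsing_inv _ (hdet m), Matrix.one_mulVec]⟩
    simp only [hU, hM, Matrix.mulVec_mulVec, Matrix.mul_assoc, Matrix.nonsing_inv_mul _ (hdet m), Matrix.mul_one]
    simp only [Matrix.add_mulVec, Matrix.one_mulVec, Matrix.smul_mulVec, hh.add_left, hh.add_right,
      hh.smul_left, hh.smul_right, hN, hm, qEnd_qEnd]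
    ring
  have hUsub : U - 1 = ((l - m) • N₀) * M := by
    conv_lhs => arg 2; rw [← Matrix.mul_nonsing_inv _ (hdet m)]
    rw [hU, hM, ← Matrix.sub_mul, add_sub_add_left_eq_sub, sub_smul]
  have hcomm : Commute ((l - m) • N₀) M := by
    have h1 : Commute ((l - m) • N₀) (1 + m • N₀) :=
      ((Commute.one_right _).add_right ((Commute.refl N₀).smul_right m)).smul_left _
    rw [hM]
    exact show _ = _ from by
      calc (l - m) • N₀ * (1 + m • N₀)⁻¹
          = (1 + m • N₀)⁻¹ * ((1 + m • N₀) * ((l - m) • N₀)) * (1 + m • N₀)⁻¹ := by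
            rw [Matrix.nonsing_inv_mul_cancel_left _ _ (hdet m)]
        _ = (1 + m • N₀)⁻¹ * ((l - m) • N₀) := by
            rw [← h1.eq, ← Matrix.mul_assoc, Matrix.mul_nonsing_inv_cancel_right _ _ (hdet m)]
  have hMu : IsUnit M := by
    rw [hM, Matrix.isUnit_nonsing_inv_iff, Matrix.isUnit_iff_isUnit_det]
    exact hdet m
  have hkey : ∀ j, (U - 1) ^ j = 0 ↔ s ≤ j := fun j => by
    have : Nonempty (Fin s) := ⟨⟨0, hs⟩⟩
    rw [hUsub, hcomm.mul_pow, _root_.smul_pow, (hMu.pow j).mul_left_eq_zero, smul_eq_zero,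
      or_iff_right (pow_ne_zero _ (sub_ne_zero.2 (Ne.symm hl))), hN₀, GL.shiftMat_pow_eq_zero]
  have hkey' : ∀ j, (Matrix.toLinAlgEquiv' (Φ U - 1)) ^ j = 0 ↔ s ≤ j := fun j => by
    rw [← map_pow, map_eq_zero_iff _ Matrix.toLinAlgEquiv'.injective, ← map_one Φ, ← map_sub, ← map_pow,
      map_eq_zero_iff _ Φ.injective, hkey]
  obtain ⟨v, hv⟩ : ∃ v, (Matrix.toLinAlgEquiv' (Φ U - 1) ^ (s - 1)) v ≠ 0 := by
    by_contra hc
    push Not at hc
    have := (hkey' (s - 1)).1 (LinearMap.ext hc)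
    omega
  obtain ⟨h1, h2⟩ := UnipForms.single_of_cyclic (Matrix.toLinAlgEquiv' (Φ U - 1)) (n := s) (by simp) hv
    (by rw [(hkey' s).2 le_rfl]; rfl)
  exact ⟨Φ U, (hΦ U).2 hpres, h1, h2⟩

include hF in
/-- Every Jordan type is the type of a unipotent unitary matrix. -/
theorem exists_unitary_type : ∀ (μ : Multiset ℕ), (∀ j ∈ μ, 1 ≤ j) → ∀ n, μ.sum = n →
    ∃ A : Matrix (Fin n) (Fin n) F, GL.Preserves (hermForm n F q) A ∧
      IsNilpotent (Matrix.toLinAlgEquiv' (A - 1)) ∧ HasType (Matrix.toLinAlgEquiv' (A - 1)) μ := by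
  intro μ
  induction μ using Multiset.induction with
  | empty =>
    intro _ n hn
    rw [Multiset.sum_zero] at hn
    subst hn
    refine ⟨1, fun u v => by rw [Matrix.one_mulVec, Matrix.one_mulVec], ?_, fun j => ?_⟩
    · rw [sub_self, map_zero]; exact IsNilpotent.zero
    · simp only [Multiset.map_zero, Multiset.sum_zero]
      have h0 : Module.finrank F (Fin 0 → F) = 0 := by simp
      have h := UnipForms.rankDim_eq_range (Matrix.toLinAlgEquiv' (1 - 1 : Matrix (Fin 0) (Fin 0) F)) j
      rw [h]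
      exact Nat.le_zero.1 ((Submodule.finrank_le _).trans_eq h0)
  | cons a μ ih =>
    intro hpos n hn
    rw [Multiset.sum_cons] at hn
    obtain ⟨J, hJ, hJn, hJt⟩ := exists_unitary_block hF (hpos a (Multiset.mem_cons_self a μ))
    obtain ⟨A, hA, hAn, hAt⟩ := ih (fun j hj => hpos j (Multiset.mem_cons_of_mem hj)) _ rfl
    let e : ((Fin a → F) × (Fin μ.sum → F)) ≃ₗ[F] (Fin n → F) :=
      (LinearEquiv.sumArrowLequivProdArrow _ _ F F).symm.trans
        (LinearEquiv.funCongrLeft F F (finSumFinEquiv.trans (finCongr hn)).symm)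
    have hconj : ∀ x, e (((Matrix.toLinAlgEquiv' (J - 1)).prodMap (Matrix.toLinAlgEquiv' (A - 1))) x) =
        Matrix.toLinAlgEquiv' (GL.twoBlock hn (J, A) - 1) (e x) := by
      rintro ⟨x, y⟩
      have he : ∀ x' y', e (x', y') = Sum.elim x' y' ∘ (finSumFinEquiv.trans (finCongr hn)).symm :=
        fun x' y' => rfl
      have hblk : GL.twoBlock hn (J, A) *ᵥ e (x, y) = e (J *ᵥ x, A *ᵥ y) := by
        rw [he, he]
        show Matrix.reindex _ _ (Matrix.fromBlocks J 0 0 A) *ᵥ _ = _
        rw [Matrix.reindex_apply, Matrix.submatrix_mulVec_equiv]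
        congr 1
        funext i
        cases i <;> simp [Matrix.fromBlocks_mulVec, Function.comp_def]
      simp only [map_sub, map_one, LinearMap.sub_apply, Module.End.one_apply, Matrix.toLinAlgEquiv'_apply,
        LinearMap.prodMap_apply]
      rw [hblk, ← map_sub]
      rfl
    refine ⟨GL.twoBlock hn (J, A), GL.preserves_twoBlock hF hn hJ hA,
      UnipForms.isNilpotent_conj e hconj (UnipForms.isNilpotent_prodMap hJn hAn), ?_⟩
    rw [← Multiset.singleton_add]
    exact UnipForms.hasType_conj e hconj (UnipForms.hasType_prod hJt hAt)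

end Cfsg.Agent.UnitaryConj
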