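/-
The Möbius function of the lattice of invariant subspaces of a semisimple endomorphism over a finite field.
-/
import Cfsg.Agent.Lib.Semisimple.Basic

set_option autoImplicit false

open Polynomial Module

namespace Cfsg.Agent.Semisimple

namespace Mobius

variable {F : Type*} [Field F] {V : Type*} [AddCommGroup V] [Module F V]

/-- `U` is invariant under `f`. -/
def Inv (f : End F V) (U : Submodule F V) : Prop := ∀ v ∈ U, f v ∈ U

theorem Inv.sup {f : End F V} {U U' : Submodule F V} (h : Inv f U) (h' : Inv f U') : Inv f (U ⊔ U') := by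
  intro v hv
  obtain ⟨a, ha, b, hb, rfl⟩ := Submodule.mem_sup.1 hv
  rw [map_add]
  exact Submodule.add_mem_sup (h a ha) (h' b hb)

theorem Inv.inf {f : End F V} {U U' : Submodule F V} (h : Inv f U) (h' : Inv f U') : Inv f (U ⊓ U') :=
  fun v hv => ⟨h v hv.1, h' v hv.2⟩

theorem Inv.aeval {f : End F V} {U : Submodule F V} (h : Inv f U) (P : F[X]) {v : V} (hv : v ∈ U) :
    Polynomial.aeval f P v ∈ U := by
  induction P using Polynomial.induction_on' with
  | add a b ha hb => rw [map_add, LinearMap.add_apply]; exact U.add_mem ha hb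
  | monomial n c =>
    rw [aeval_monomial, Module.End.mul_apply, Module.algebraMap_end_apply]
    refine U.smul_mem _ ?_
    induction n with
    | zero => simpa using hv
    | succ n ih => rw [pow_succ', Module.End.mul_apply]; exact h _ ih

variable [Finite V]

noncomputable instance : Fintype (Submodule F V) := by
  have := Finite.of_injective (SetLike.coe : Submodule F V → Set V) SetLike.coe_injective
  exact Fintype.ofFinite _

open Classical in
/-- The chains of invariant subspaces strictly between `0` and `W`. -/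
noncomputable def chains (f : End F V) (W : Submodule F V) : Finset (Finset (Submodule F V)) :=
  Finset.univ.filter fun c => (∀ U ∈ c, Inv f U ∧ U ≠ ⊥ ∧ U < W) ∧ ∀ U ∈ c, ∀ U' ∈ c, U ≤ U' ∨ U' ≤ U

theorem mem_chains {f : End F V} {W : Submodule F V} {c : Finset (Submodule F V)} :
    c ∈ chains f W ↔ (∀ U ∈ c, Inv f U ∧ U ≠ ⊥ ∧ U < W) ∧ ∀ U ∈ c, ∀ U' ∈ c, U ≤ U' ∨ U' ≤ U := by
  simp [chains]

/-- The signed count of chains. -/
noncomputable def chainSum (f : End F V) (W : Submodule F V) : ℤ := ∑ c ∈ chains f W, (-1) ^ c.card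

open Classical in
/-- The Möbius function from `0`. -/
noncomputable def mu (f : End F V) (W : Submodule F V) : ℤ := if W = ⊥ then 1 else -chainSum f W

open Classical in
/-- The invariant subspaces below `W`. -/
noncomputable def below (f : End F V) (W : Submodule F V) : Finset (Submodule F V) :=
  Finset.univ.filter fun U => Inv f U ∧ U ≤ W

theorem mem_below {f : End F V} {W U : Submodule F V} : U ∈ below f W ↔ Inv f U ∧ U ≤ W := by
  simp [below]

theorem chainSum_rec [FiniteDimensional F V] (f : End F V) (W : Submodule F V) [DecidableEq (Submodule F V)] :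
    chainSum f W = 1 - ∑ U ∈ ((below f W).erase W).erase ⊥, chainSum f U := by
  set I := ((below f W).erase W).erase ⊥ with hI
  have hmemI : ∀ {U}, U ∈ I ↔ Inv f U ∧ U ≠ ⊥ ∧ U < W := fun {U} => by
    simp [hI, mem_below, lt_iff_le_and_ne]; tauto
  have hsplit : chains f W = insert ∅ (I.biUnion fun U => (chains f U).image (insert U)) := by
    ext c
    simp only [Finset.mem_insert, Finset.mem_biUnion, Finset.mem_image, mem_chains, hmemI]
    constructor
    · intro hc
      rcases c.eq_empty_or_nonempty with h | h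
      · exact Or.inl h
      · obtain ⟨U, hU, hmax⟩ := Finset.exists_max_image c (fun U => finrank F U) h
        refine Or.inr ⟨U, hc.1 U hU, c.erase U, ⟨fun U' hU' => ?_, fun a ha b hb =>
          hc.2 a (Finset.mem_of_mem_erase ha) b (Finset.mem_of_mem_erase hb)⟩, Finset.insert_erase hU⟩
        have h1 := hc.1 U' (Finset.mem_of_mem_erase hU')
        refine ⟨h1.1, h1.2.1, ?_⟩
        rcases hc.2 U' (Finset.mem_of_mem_erase hU') U hU with h2 | h2
        · exact lt_of_le_of_ne h2 (Finset.ne_of_mem_erase hU')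
        · exact absurd (Submodule.eq_of_le_of_finrank_le h2 (hmax U' (Finset.mem_of_mem_erase hU'))).symm
            (Finset.ne_of_mem_erase hU')
    · rintro (rfl | ⟨U, hU, c', hc', rfl⟩)
      · simp
      · refine ⟨fun U' hU' => ?_, fun a ha b hb => ?_⟩
        · rcases Finset.mem_insert.1 hU' with rfl | h
          · exact hU
          · exact ⟨(hc'.1 U' h).1, (hc'.1 U' h).2.1, (hc'.1 U' h).2.2.trans hU.2.2⟩
        · rcases Finset.mem_insert.1 ha with ea | ha <;> rcases Finset.mem_insert.1 hb with eb | hb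
          · exact Or.inl (by rw [ea, eb])
          · exact Or.inr (by rw [ea]; exact (hc'.1 b hb).2.2.le)
          · exact Or.inl (by rw [eb]; exact (hc'.1 a ha).2.2.le)
          · exact hc'.2 a ha b hb
  have htop : ∀ U, ∀ c ∈ chains f U, U ∉ c := fun U c hc hU => ((mem_chains.1 hc).1 U hU).2.2.false
  have hdisj : (I : Set (Submodule F V)).PairwiseDisjoint fun U => (chains f U).image (insert U) := by
    intro U _ U' _ hne
    refine Finset.disjoint_left.2 fun c hc hc' => hne ?_
    obtain ⟨a, ha, rfl⟩ := Finset.mem_image.1 hc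
    obtain ⟨b, hb, e⟩ := Finset.mem_image.1 hc'
    have h1 : U' ∈ insert U a := e ▸ Finset.mem_insert_self U' b
    have h2 : U ∈ insert U' b := e.symm ▸ Finset.mem_insert_self U a
    rcases Finset.mem_insert.1 h1 with h | h
    · exact h.symm
    rcases Finset.mem_insert.1 h2 with h' | h'
    · exact h'
    exact absurd (((mem_chains.1 ha).1 U' h).2.2.trans ((mem_chains.1 hb).1 U h').2.2) (lt_irrefl _)
  rw [chainSum, hsplit, Finset.sum_insert, Finset.sum_biUnion hdisj, Finset.card_empty, pow_zero, sub_eq_add_neg,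
    ← Finset.sum_neg_distrib]
  · refine congrArg _ (Finset.sum_congr rfl fun U _ => ?_)
    rw [Finset.sum_image, chainSum, ← Finset.sum_neg_distrib]
    · refine Finset.sum_congr rfl fun c hc => ?_
      rw [Finset.card_insert_of_notMem (htop U c hc), pow_succ, mul_neg_one]
    · intro a ha b hb e
      rw [← Finset.erase_insert (htop U a ha), ← Finset.erase_insert (htop U b hb)]
      exact congrArg (fun s => Finset.erase s U) e
  · simp

theorem sum_mu [FiniteDimensional F V] (f : End F V) {W : Submodule F V} (hW : Inv f W) (hW0 : W ≠ ⊥) :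
    ∑ U ∈ below f W, mu f U = 0 := by
  classical
  rw [← Finset.add_sum_erase _ _ (mem_below.2 ⟨hW, le_rfl⟩),
    ← Finset.add_sum_erase ((below f W).erase W) _ (Finset.mem_erase.2 ⟨hW0.symm, mem_below.2 ⟨by
      intro v hv; rw [Submodule.mem_bot] at hv; simp [hv], bot_le⟩⟩), mu, if_neg hW0, mu, if_pos rfl]
  rw [Finset.sum_congr rfl (g := fun U => -chainSum f U) fun U hU => by
    rw [mu, if_neg (Finset.ne_of_mem_erase hU)], Finset.sum_neg_distrib, chainSum_rec f W]
  ring

open Classical in
/-- Weisner's theorem. -/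
theorem weisner [FiniteDimensional F V] (f : End F V) {A : Submodule F V} (hA : Inv f A) (hA0 : A ≠ ⊥) :
    ∀ W : Submodule F V, Inv f W → A ≤ W → ∑ U ∈ (below f W).filter (fun U => U ⊔ A = W), mu f U = 0 := by
  suffices h : ∀ (k : ℕ) (W : Submodule F V), finrank F W = k → Inv f W → A ≤ W →
      ∑ U ∈ (below f W).filter (fun U => U ⊔ A = W), mu f U = 0 from fun W => h _ W rfl
  intro k
  induction k using Nat.strong_induction_on with
  | _ k ih =>
    intro W hk hW hAW
    have h0 := sum_mu f hW (fun e => hA0 (le_bot_iff.1 (e ▸ hAW)))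
    rw [← Finset.sum_fiberwise_of_maps_to (t := (below f W).filter fun Y => A ≤ Y) (g := fun U => U ⊔ A)
      (fun U hU => Finset.mem_filter.2 ⟨mem_below.2 ⟨(mem_below.1 hU).1.sup hA, sup_le (mem_below.1 hU).2 hAW⟩,
        le_sup_right⟩), Finset.sum_eq_single W] at h0
    · exact h0
    · intro Y hY hne
      obtain ⟨hY1, hY2⟩ := Finset.mem_filter.1 hY
      obtain ⟨hYi, hYW⟩ := mem_below.1 hY1
      have := ih _ (hk ▸ Submodule.finrank_lt_finrank_of_lt (lt_of_le_of_ne hYW hne)) Y rfl hYi hY2
      refine (Finset.sum_congr ?_ fun _ _ => rfl).trans this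
      ext U
      simp only [Finset.mem_filter, mem_below]
      exact ⟨fun h => ⟨⟨h.1.1, h.2 ▸ le_sup_left⟩, h.2⟩, fun h => ⟨⟨h.1.1, h.1.2.trans hYW⟩, h.2⟩⟩
    · exact fun h => absurd (Finset.mem_filter.2 ⟨mem_below.2 ⟨hW, le_rfl⟩, hAW⟩) h

end Mobius

section Formula

variable {F : Type*} [Field F] [Fintype F]

open UniqueFactorizationMonoid in
/-- The value `∏ (-1)^m q^(d·C(m,2))`. -/
noncomputable def muVal [DecidableEq F] (P : F[X]) : ℤ :=
  ∏ f ∈ (normalizedFactors P).toFinset,
    (-1) ^ (normalizedFactors P).count f *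
      (Fintype.card F : ℤ) ^ (f.natDegree * ((normalizedFactors P).count f).choose 2)

open UniqueFactorizationMonoid in
theorem muVal_mul [DecidableEq F] {g c : F[X]} (hg : Irreducible g) (hm : g.Monic) (hc : c ≠ 0) :
    muVal (g * c) = -((Fintype.card F : ℤ) ^ (g.natDegree * (normalizedFactors c).count g)) * muVal c := by
  set s := normalizedFactors c with hs
  have hnf : normalizedFactors (g * c) = g ::ₘ s := by
    rw [normalizedFactors_mul hg.ne_zero hc, normalizedFactors_irreducible hg, hm.normalize_eq_self]; rfl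
  let u : F[X] → Multiset F[X] → ℤ := fun f t =>
    (-1) ^ t.count f * (Fintype.card F : ℤ) ^ (f.natDegree * (t.count f).choose 2)
  have hu : ∀ t : Multiset F[X], ∀ T : Finset F[X], t.toFinset ⊆ T →
      ∏ f ∈ t.toFinset, u f t = ∏ f ∈ T, u f t := fun t T hT =>
    Finset.prod_subset hT fun f _ hf => by
      simp only [u, Multiset.count_eq_zero.2 (fun h => hf (Multiset.mem_toFinset.2 h))]
      simp
  show ∏ f ∈ (normalizedFactors (g * c)).toFinset, u f (normalizedFactors (g * c)) =
    -((Fintype.card F : ℤ) ^ (g.natDegree * s.count g)) * ∏ f ∈ s.toFinset, u f s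
  rw [hnf, hu s (insert g s.toFinset) (Finset.subset_insert _ _),
    show (g ::ₘ s).toFinset = insert g s.toFinset from Multiset.toFinset_cons g s,
    ← Finset.mul_prod_erase _ _ (Finset.mem_insert_self g s.toFinset),
    ← Finset.mul_prod_erase _ _ (Finset.mem_insert_self g s.toFinset),
    Finset.prod_congr rfl (g := fun f => u f s) fun f hf => by
      simp only [u, Multiset.count_cons_of_ne (Finset.ne_of_mem_erase hf)]]
  simp only [u, Multiset.count_cons_self, pow_succ, Nat.choose_succ_succ' _ 1, Nat.choose_one_right, mul_add, pow_add]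
  ring

universe u

variable [DecidableEq F]

open UniqueFactorizationMonoid in
/-- Intertwiners from a semisimple endomorphism to multiplication by the root. -/
theorem card_intertwiners {g : F[X]} (hgi : Irreducible g) (hgm : g.Monic) :
    ∀ (n : ℕ) (W : Type u) [AddCommGroup W] [Module F W] [FiniteDimensional F W] (h : End F W),
      finrank F W = n → SS (K := F) h →
        Nat.card {φ : W →ₗ[F] AdjoinRoot g // ∀ x, φ (h x) = rootMul g (φ x)} =
          Fintype.card F ^ (g.natDegree * (normalizedFactors h.charpoly).count g) := by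
  intro n
  induction n using Nat.strong_induction_on with
  | _ n ih =>
    intro W _ _ _ h hn hs
    rcases Nat.eq_zero_or_pos n with h0 | h0
    · have : Subsingleton W := Module.finrank_zero_iff.1 (hn.trans h0)
      have h1 : h.charpoly = 1 :=
        h.charpoly_monic.natDegree_eq_zero.1 (h.charpoly_natDegree.trans (hn.trans h0))
      rw [h1, normalizedFactors_one, Multiset.count_zero, mul_zero, pow_zero, Nat.card_eq_one_iff_unique]
      exact ⟨⟨fun a b => Subtype.ext (LinearMap.ext fun x => by
        rw [Subsingleton.elim x 0, map_zero, map_zero])⟩, ⟨⟨0, fun x => by simp⟩⟩⟩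
    obtain ⟨g', hgm', hgi', hdvd⟩ := Polynomial.exists_monic_irreducible_factor h.charpoly
      (fun hu => by
        have := natDegree_eq_zero_of_isUnit hu
        rw [h.charpoly_natDegree, hn] at this
        omega)
    obtain ⟨U, hU, e, he⟩ := split h hs hgi' hdvd
    have hchar := charpoly_split h hgm' hU e he
    haveI := finite_adjoinRoot hgm'
    have hlt : finrank F U < n := by
      have := e.finrank_eq
      rw [Module.finrank_prod, finrank_adjoinRoot hgm', hn] at this
      have := hgi'.natDegree_pos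
      omega
    have ihU := ih _ hlt U (h.restrict hU) rfl (ss_restrict h hs hU)
    have hUne : (h.restrict hU).charpoly ≠ 0 := (LinearMap.charpoly_monic _).ne_zero
    rw [hchar, normalizedFactors_mul hgi'.ne_zero hUne, normalizedFactors_irreducible hgi',
      hgm'.normalize_eq_self, Multiset.count_add, Multiset.count_singleton, mul_add, pow_add, ← ihU]
    -- split the intertwiner
    have hsplit : {φ : W →ₗ[F] AdjoinRoot g // ∀ x, φ (h x) = rootMul g (φ x)} ≃
        {a : AdjoinRoot g' →ₗ[F] AdjoinRoot g // ∀ x, a (rootMul g' x) = rootMul g (a x)} ×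
          {b : U →ₗ[F] AdjoinRoot g // ∀ x, b (h.restrict hU x) = rootMul g (b x)} :=
      { toFun := fun φ =>
          (⟨φ.1 ∘ₗ e.toLinearMap ∘ₗ LinearMap.inl F _ _, fun x => by
              have h1 := φ.2 (e (x, 0))
              rw [← he] at h1
              simpa using h1⟩,
            ⟨φ.1 ∘ₗ e.toLinearMap ∘ₗ LinearMap.inr F _ _, fun x => by
              have h1 := φ.2 (e (0, x))
              rw [← he] at h1
              simpa using h1⟩)
        invFun := fun ab => ⟨(ab.1.1.coprod ab.2.1) ∘ₗ e.symm.toLinearMap, fun x => by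
          obtain ⟨y, rfl⟩ := e.surjective x
          rw [← he]
          simp only [LinearMap.comp_apply, LinearEquiv.coe_coe, LinearEquiv.symm_apply_apply,
            LinearMap.prodMap_apply, LinearMap.coprod_apply, map_add, ab.1.2, ab.2.2]⟩
        left_inv := fun φ => Subtype.ext (LinearMap.ext fun x => by
          obtain ⟨y, rfl⟩ := e.surjective x
          obtain ⟨a, b⟩ := y
          simp only [LinearMap.comp_apply, LinearEquiv.coe_coe, LinearEquiv.symm_apply_apply,
            LinearMap.coprod_apply, LinearMap.inl_apply, LinearMap.inr_apply, ← map_add]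
          simp)
        right_inv := fun ab => Prod.ext (Subtype.ext (LinearMap.ext fun x => by simp))
          (Subtype.ext (LinearMap.ext fun x => by simp)) }
    rw [Nat.card_congr hsplit, Nat.card_prod]
    congr 1
    have : Fact (Irreducible g) := ⟨hgi⟩
    have hdet : ∀ (a : AdjoinRoot g' →ₗ[F] AdjoinRoot g), (∀ x, a (rootMul g' x) = rootMul g (a x)) →
        ∀ P, a (AdjoinRoot.mk g' P) = AdjoinRoot.mk g P * a 1 := by
      intro a ha P
      induction P using Polynomial.induction_on with
      | C c =>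
        rw [AdjoinRoot.mk_C, AdjoinRoot.mk_C, ← AdjoinRoot.algebraMap_eq, ← AdjoinRoot.algebraMap_eq,
          Algebra.algebraMap_eq_smul_one, Algebra.algebraMap_eq_smul_one, map_smul, smul_mul_assoc, one_mul]
      | add p q hp hq => rw [map_add, map_add, map_add, hp, hq, add_mul]
      | monomial k c hk =>
        rw [show C c * X ^ (k + 1) = X * (C c * X ^ k) by ring, map_mul (AdjoinRoot.mk g'), map_mul (AdjoinRoot.mk g),
          AdjoinRoot.mk_X, AdjoinRoot.mk_X,
          show AdjoinRoot.root g' * AdjoinRoot.mk g' (C c * X ^ k) = rootMul g' (AdjoinRoot.mk g' (C c * X ^ k))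
            from rfl, ha, hk, mul_assoc]
        rfl
    by_cases hgg : g = g'
    · subst hgg
      rw [if_pos rfl, mul_one]
      rw [Nat.card_congr
        { toFun := fun a : {a : AdjoinRoot g →ₗ[F] AdjoinRoot g // ∀ x, a (rootMul g x) = rootMul g (a x)} => a.1 1
          invFun := fun k => ⟨LinearMap.mulRight F k, fun x => by
            show AdjoinRoot.root g * x * k = AdjoinRoot.root g * (x * k); ring⟩
          left_inv := fun a => Subtype.ext (LinearMap.ext fun x => by
            obtain ⟨P, rfl⟩ := AdjoinRoot.mk_surjective x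
            exact (hdet a.1 a.2 P).symm)
          right_inv := fun k => one_mul k }]
      rw [Module.natCard_eq_pow_finrank (K := F), finrank_adjoinRoot hgm, Nat.card_eq_fintype_card]
    · rw [if_neg hgg, mul_zero, pow_zero, Nat.card_eq_one_iff_unique]
      refine ⟨⟨fun a b => ?_⟩, ⟨⟨0, fun x => by simp⟩⟩⟩
      have hz : ∀ a : {a : AdjoinRoot g' →ₗ[F] AdjoinRoot g // ∀ x, a (rootMul g' x) = rootMul g (a x)},
          a.1 = 0 := by
        intro a
        have h1 : a.1 1 = 0 := by
          have h2 := hdet a.1 a.2 g'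
          rw [AdjoinRoot.mk_self, map_zero] at h2
          refine (mul_eq_zero.1 h2.symm).resolve_left fun h3 => hgg ?_
          exact eq_of_monic_of_associated hgm hgm' (hgi.associated_of_dvd hgi' (AdjoinRoot.mk_eq_zero.1 h3))
        refine LinearMap.ext fun x => ?_
        obtain ⟨P, rfl⟩ := AdjoinRoot.mk_surjective x
        rw [hdet a.1 a.2 P, h1, mul_zero, LinearMap.zero_apply]
      exact Subtype.ext ((hz a).trans (hz b).symm)

open UniqueFactorizationMonoid Mobius in
/-- The Möbius function of the invariant subspaces of a semisimple endomorphism. -/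
theorem mu_eq {V : Type u} [AddCommGroup V] [Module F V] [FiniteDimensional F V] [Finite V] (f : End F V)
    (hf : SS (K := F) f) : ∀ (W : Submodule F V) (hW : ∀ v ∈ W, f v ∈ W),
      mu f W = muVal (f.restrict hW).charpoly := by
  classical
  suffices h : ∀ (k : ℕ) (W : Submodule F V) (hW : ∀ v ∈ W, f v ∈ W), finrank F W = k →
      mu f W = muVal (f.restrict hW).charpoly from fun W hW => h _ W hW rfl
  intro k
  induction k using Nat.strong_induction_on with
  | _ k ih =>
    intro W hW hk
    rcases Nat.eq_zero_or_pos k with h0 | h0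
    · have h1 : (f.restrict hW).charpoly = 1 := (LinearMap.charpoly_monic _).natDegree_eq_zero.1
        ((LinearMap.charpoly_natDegree _).trans (hk.trans h0))
      rw [mu, if_pos (Submodule.finrank_eq_zero.1 (hk.trans h0)), h1, muVal, normalizedFactors_one]
      simp
    have hW0 : W ≠ ⊥ := fun e => by rw [← Submodule.finrank_eq_zero (R := F)] at e; omega
    obtain ⟨g, hgm, hgi, hdvd⟩ := Polynomial.exists_monic_irreducible_factor (f.restrict hW).charpoly
      (fun hu => by
        have := natDegree_eq_zero_of_isUnit hu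
        rw [LinearMap.charpoly_natDegree, hk] at this
        omega)
    obtain ⟨U, hU, e, he⟩ := split _ (ss_restrict f hf hW) hgi hdvd
    haveI := finite_adjoinRoot hgm
    have : Fact (Irreducible g) := ⟨hgi⟩
    set h := (f.restrict hW).restrict hU with hh
    let j : AdjoinRoot g × U →ₗ[F] V := W.subtype ∘ₗ e.toLinearMap
    have hj : ∀ a b, f (j (a, b)) = j (rootMul g a, h b) := fun a b =>
      (congrArg Subtype.val (he (a, b))).symm
    have hjinj : Function.Injective j := Subtype.val_injective.comp e.injective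
    have hjrange : ∀ v, v ∈ W ↔ ∃ y, j y = v := fun v =>
      ⟨fun hv => ⟨e.symm ⟨v, hv⟩, congrArg Subtype.val (e.apply_symm_apply ⟨v, hv⟩)⟩,
        fun ⟨y, hy⟩ => hy ▸ (e y).2⟩
    let A : Submodule F V := LinearMap.range (j ∘ₗ LinearMap.inl F _ _)
    have hA : Inv f A := by
      rintro _ ⟨a, rfl⟩
      refine ⟨rootMul g a, ?_⟩
      show j (rootMul g a, 0) = f (j (a, 0))
      rw [hj, map_zero]
    have hA0 : A ≠ ⊥ := fun e0 => by
      have h1 : j ((1 : AdjoinRoot g), (0 : U)) ∈ A := ⟨1, rfl⟩
      rw [e0, Submodule.mem_bot, ← map_zero j] at h1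
      exact one_ne_zero (congrArg Prod.fst (hjinj h1))
    have hAW : A ≤ W := by rintro _ ⟨a, rfl⟩; exact (hjrange _).2 ⟨_, rfl⟩
    have hsimple : ∀ Y : Submodule F V, Inv f Y → Y ≤ A → Y ≠ ⊥ → Y = A := by
      intro Y hX hXA hX0
      refine le_antisymm hXA ?_
      obtain ⟨x, hx, hx0⟩ := Y.exists_mem_ne_zero_of_ne_bot hX0
      obtain ⟨a, rfl⟩ := hXA hx
      have ha : a ≠ 0 := fun h => hx0 (by rw [h, map_zero])
      rintro _ ⟨b, rfl⟩
      obtain ⟨P, hP⟩ := AdjoinRoot.mk_surjective (b * a⁻¹)
      have key : ∀ P : F[X], Polynomial.aeval f P (j (a, 0)) = j (AdjoinRoot.mk g P * a, 0) := by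
        intro P
        induction P using Polynomial.induction_on with
        | C c =>
          rw [aeval_C, Module.algebraMap_end_apply, ← map_smul, Prod.smul_mk, smul_zero, AdjoinRoot.mk_C,
            ← AdjoinRoot.algebraMap_eq, Algebra.smul_def]
        | add p q hp hq =>
          rw [map_add, LinearMap.add_apply, hp, hq, ← map_add j, Prod.mk_add_mk, add_zero, map_add, add_mul]
        | monomial k c hk =>
          rw [show C c * X ^ (k + 1) = X * (C c * X ^ k) by ring, map_mul, Module.End.mul_apply, aeval_X, hk, hj,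
            map_zero, map_mul (AdjoinRoot.mk g) X, AdjoinRoot.mk_X, mul_assoc]
          rfl
      have h1 := hX.aeval P hx
      simp only [LinearMap.comp_apply, LinearMap.inl_apply] at h1 ⊢
      rwa [key, hP, inv_mul_cancel_right₀ ha] at h1
    -- complements of `A`
    let S := ((below f W).filter fun X => X ⊔ A = W).erase W
    let Ψ : {φ : U →ₗ[F] AdjoinRoot g // ∀ x, φ (h x) = rootMul g (φ x)} → Submodule F V :=
      fun φ => LinearMap.range (j ∘ₗ φ.1.prod LinearMap.id)
    have hΨmem : ∀ φ, Ψ φ ∈ S := by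
      intro φ
      refine Finset.mem_erase.2 ⟨fun e0 => ?_, Finset.mem_filter.2 ⟨mem_below.2 ⟨?_, ?_⟩, le_antisymm ?_ ?_⟩⟩
      · have h1 : j ((1 : AdjoinRoot g), (0 : U)) ∈ Ψ φ := e0.symm ▸ hAW ⟨1, rfl⟩
        obtain ⟨b, hb⟩ := h1
        have h2 : (φ.1 b, b) = ((1 : AdjoinRoot g), (0 : U)) := hjinj hb
        simp only [Prod.mk.injEq] at h2
        rw [h2.2, map_zero] at h2
        exact zero_ne_one h2.1
      · rintro _ ⟨b, rfl⟩
        refine ⟨h b, ?_⟩
        show j (φ.1 (h b), h b) = f (j (φ.1 b, b))
        rw [hj, φ.2]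
      · rintro _ ⟨b, rfl⟩; exact (hjrange _).2 ⟨_, rfl⟩
      · exact sup_le (by rintro _ ⟨b, rfl⟩; exact (hjrange _).2 ⟨_, rfl⟩) hAW
      · intro v hv
        obtain ⟨⟨a, b⟩, rfl⟩ := (hjrange v).1 hv
        refine Submodule.mem_sup.2 ⟨_, ⟨b, rfl⟩, _, ⟨a - φ.1 b, rfl⟩, ?_⟩
        show j (φ.1 b, b) + j (a - φ.1 b, 0) = j (a, b)
        rw [← map_add, Prod.mk_add_mk, add_zero, add_sub_cancel]
    have hΨinj : Function.Injective Ψ := by
      intro φ φ' heq
      refine Subtype.ext (LinearMap.ext fun b => ?_)
      have h1 : j (φ.1 b, b) ∈ Ψ φ' := heq ▸ ⟨b, rfl⟩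
      obtain ⟨b', hb'⟩ := h1
      have h2 : (φ'.1 b', b') = (φ.1 b, b) := hjinj hb'
      simp only [Prod.mk.injEq] at h2
      rw [← h2.1, h2.2]
    have hΨsurj : ∀ X ∈ S, ∃ φ, Ψ φ = X := by
      intro X hX
      obtain ⟨hne, hX⟩ := Finset.mem_erase.1 hX
      obtain ⟨hX, hsup⟩ := Finset.mem_filter.1 hX
      obtain ⟨hXi, hXW⟩ := mem_below.1 hX
      have hdisj : X ⊓ A = ⊥ := by
        by_contra h1
        have h2 := hsimple _ (hXi.inf hA) inf_le_right h1
        exact hne (by rw [← hsup, sup_eq_left.2 (h2 ▸ inf_le_left)])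
      have hex : ∀ b : U, ∃ a, j (a, b) ∈ X := by
        intro b
        have h1 : j (0, b) ∈ X ⊔ A := hsup.symm ▸ (hjrange _).2 ⟨_, rfl⟩
        obtain ⟨x, hx, _, ⟨a, rfl⟩, hxa⟩ := Submodule.mem_sup.1 h1
        refine ⟨-a, ?_⟩
        have h2 : x = j (-a, b) := by
          rw [eq_sub_of_add_eq hxa]
          simp only [LinearMap.comp_apply, LinearMap.inl_apply, ← map_sub, Prod.mk_sub_mk, zero_sub, sub_zero]
        exact h2 ▸ hx
      have huniq : ∀ b a a', j (a, b) ∈ X → j (a', b) ∈ X → a = a' := by
        intro b a a' h1 h2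
        have h3 : j (a - a', 0) ∈ X ⊓ A := by
          refine ⟨?_, a - a', rfl⟩
          have := X.sub_mem h1 h2
          rwa [← map_sub, Prod.mk_sub_mk, sub_self] at this
        rw [hdisj, Submodule.mem_bot, ← map_zero j] at h3
        exact sub_eq_zero.1 (congrArg Prod.fst (hjinj h3))
      choose φ hφ using hex
      let φL : U →ₗ[F] AdjoinRoot g :=
        { toFun := φ
          map_add' := fun b b' => huniq (b + b') _ _ (hφ _) (by
            have := X.add_mem (hφ b) (hφ b')
            rwa [← map_add, Prod.mk_add_mk] at this)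
          map_smul' := fun c b => huniq (c • b) _ _ (hφ _) (by
            have := X.smul_mem c (hφ b)
            rwa [← map_smul, Prod.smul_mk] at this) }
      refine ⟨⟨φL, fun b => huniq (h b) _ _ (hφ _) (by
        have := hXi _ (hφ b)
        rwa [hj] at this)⟩, le_antisymm (by rintro _ ⟨b, rfl⟩; exact hφ b) fun x hx => ?_⟩
      obtain ⟨⟨a, b⟩, rfl⟩ := (hjrange x).1 (hXW hx)
      exact ⟨b, by show j (φ b, b) = j (a, b); rw [huniq b _ _ (hφ b) hx]⟩
    have hcU : (f.restrict hW).charpoly = g * h.charpoly := charpoly_split _ hgm hU e he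
    have hval : ∀ X ∈ S, mu f X = muVal h.charpoly := by
      intro X hX
      obtain ⟨φ, rfl⟩ := hΨsurj X hX
      have hinv : ∀ v ∈ Ψ φ, f v ∈ Ψ φ :=
        (mem_below.1 (Finset.mem_filter.1 (Finset.mem_erase.1 hX).2).1).1
      let E : U ≃ₗ[F] Ψ φ := LinearEquiv.ofInjective (j ∘ₗ φ.1.prod LinearMap.id)
        (fun b b' hb => congrArg Prod.snd (hjinj hb))
      have hconj : f.restrict hinv = E.conj h := by
        refine LinearMap.ext fun v => ?_
        obtain ⟨b, rfl⟩ := E.surjective v
        rw [LinearEquiv.conj_apply_apply, LinearEquiv.symm_apply_apply]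
        apply Subtype.ext
        show f (j (φ.1 b, b)) = j (φ.1 (h b), h b)
        rw [hj, φ.2]
      rw [ih (finrank F (Ψ φ)) ?_ (Ψ φ) hinv rfl, hconj, LinearEquiv.charpoly_conj]
      rw [← E.finrank_eq, ← hk]
      have hd := congrArg natDegree hcU
      rw [natDegree_mul hgi.ne_zero (LinearMap.charpoly_monic _).ne_zero, LinearMap.charpoly_natDegree,
        LinearMap.charpoly_natDegree] at hd
      have := hgi.natDegree_pos
      omega
    have hcard : (S.card : ℤ) = (Fintype.card F : ℤ) ^ (g.natDegree * (normalizedFactors h.charpoly).count g) := by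
      rw [← Nat.cast_pow, ← card_intertwiners hgi hgm _ U h rfl (ss_restrict _ (ss_restrict f hf hW) hU),
        ← Nat.card_eq_finsetCard]
      congr 1
      exact Nat.card_congr (Equiv.ofBijective (fun φ => (⟨Ψ φ, hΨmem φ⟩ : S))
        ⟨fun a b hab => hΨinj (congrArg Subtype.val hab), fun X => (hΨsurj X.1 X.2).imp fun _ h => Subtype.ext h⟩).symm
    have hw := weisner f hA hA0 W hW hAW
    rw [← Finset.add_sum_erase _ _ (show W ∈ (below f W).filter (fun X => X ⊔ A = W) from
      Finset.mem_filter.2 ⟨mem_below.2 ⟨hW, le_rfl⟩, sup_eq_left.2 hAW⟩)] at hw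
    rw [Finset.sum_congr rfl hval, Finset.sum_const, nsmul_eq_mul, hcard] at hw
    rw [eq_neg_of_add_eq_zero_left hw, hcU, muVal_mul hgi hgm (LinearMap.charpoly_monic _).ne_zero, neg_mul]

end Formula

end Cfsg.Agent.Semisimple
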