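/-
Characteristic polynomials of semisimple unitary elements: self-dual polynomials, their realisations and number.
-/
import Mathlib
import Cfsg.Agent.Lib.Semisimple.Basic
import Cfsg.Agent.Lib.Forms.Classify

set_option autoImplicit false
set_option linter.unusedSectionVars false

open Polynomial Module
open scoped Matrix

namespace Cfsg.Agent.Semisimple

universe u

variable {F : Type u} [Field F] [Fintype F] {q : ℕ} (hF : Fintype.card F = q ^ 2)

/-- The polynomial whose roots are the `λ ^ (-q)`, `λ` a root of `P`. -/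
noncomputable def udual (P : F[X]) : F[X] := (C (P.coeff 0)⁻¹ * P.reverse).map (Forms.qEnd hF)

theorem udual_coeff (P : F[X]) (j : ℕ) :
    (udual hF P).coeff j = Forms.qEnd hF ((P.coeff 0)⁻¹ * P.coeff (revAt P.natDegree j)) := by
  rw [udual, coeff_map, coeff_C_mul, coeff_reverse]

theorem udual_mul (P Q : F[X]) : udual hF (P * Q) = udual hF P * udual hF Q := by
  rw [udual, udual, udual, ← Polynomial.map_mul, reverse_mul_of_domain, mul_coeff_zero, mul_inv, map_mul]
  congr 1
  ring

theorem udual_natDegree {P : F[X]} (hP : P.coeff 0 ≠ 0) : (udual hF P).natDegree = P.natDegree := by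
  rw [udual, natDegree_map, natDegree_C_mul (inv_ne_zero hP), reverse_natDegree,
    natTrailingDegree_eq_zero.2 (Or.inr hP), Nat.sub_zero]

theorem udual_monic {P : F[X]} (hP : P.coeff 0 ≠ 0) : (udual hF P).Monic := by
  show (udual hF P).leadingCoeff = 1
  rw [leadingCoeff, udual_natDegree hF hP, udual_coeff, revAt_le le_rfl, Nat.sub_self, inv_mul_cancel₀ hP, map_one]

theorem udual_coeff_zero {P : F[X]} (hm : P.Monic) (hP : P.coeff 0 ≠ 0) : (udual hF P).coeff 0 ≠ 0 := by
  rw [udual_coeff, revAt_le (Nat.zero_le _), Nat.sub_zero, hm.coeff_natDegree, mul_one, Ne, map_eq_zero]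
  exact inv_ne_zero hP

theorem udual_udual {P : F[X]} (hm : P.Monic) (hP : P.coeff 0 ≠ 0) : udual hF (udual hF P) = P := by
  ext j
  rw [udual_coeff, udual_natDegree hF hP, udual_coeff, udual_coeff, revAt_le (Nat.zero_le _), Nat.sub_zero,
    hm.coeff_natDegree, mul_one, map_mul, map_inv₀, Forms.qEnd_qEnd, Forms.qEnd_qEnd, inv_inv, revAt_invol,
    mul_inv_cancel_left₀ hP]

/-- The characteristic polynomial of the inverse. -/
theorem reverse_charpoly_inv {ι : Type*} [Fintype ι] [DecidableEq ι] {S T : Matrix ι ι F} (h : S * T = 1) :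
    T.charpoly.reverse = C (T.charpoly.coeff 0) * S.charpoly := by
  let φ := (C : F →+* F[X]).mapMatrix (m := ι)
  have hX : Matrix.scalar ι (X : F[X]) = (X : F[X]) • 1 := by
    ext i j; simp [Matrix.scalar, Matrix.diagonal_apply, Matrix.one_apply]
  have key : Matrix.charmatrix S * φ (-T) = 1 - (X : F[X]) • φ T := by
    rw [Matrix.charmatrix, hX, map_neg, mul_neg]
    show -(((X : F[X]) • 1 - φ S) * φ T) = _
    rw [sub_mul, Matrix.smul_mul, one_mul, ← map_mul, h, map_one, neg_sub]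
  have h2 := congrArg Matrix.det key
  rw [Matrix.det_mul, show (φ (-T)).det = C (-T).det from (RingHom.map_det _ _).symm,
    show (Matrix.charmatrix S).det = S.charpoly from rfl] at h2
  rw [Matrix.reverse_charpoly, coeff_zero_eq_eval_zero, Matrix.eval_charpoly, map_zero, zero_sub,
    show T.charpolyRev = (1 - (X : F[X]) • φ T).det from rfl, ← h2, mul_comm]

theorem charpoly_coeff_zero_ne {ι : Type*} [Fintype ι] [DecidableEq ι] {S T : Matrix ι ι F} (h : S * T = 1) :
    T.charpoly.coeff 0 ≠ 0 := by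
  rw [coeff_zero_eq_eval_zero, Matrix.eval_charpoly, map_zero, zero_sub, Matrix.det_neg]
  refine mul_ne_zero (pow_ne_zero _ (neg_ne_zero.2 one_ne_zero)) fun h0 => ?_
  have := congrArg Matrix.det h
  rw [Matrix.det_mul, h0, mul_zero, Matrix.det_one] at this
  exact zero_ne_one this

theorem udual_charpoly {ι : Type*} [Fintype ι] [DecidableEq ι] {S T : Matrix ι ι F} (h : S * T = 1) :
    udual hF T.charpoly = ((S.map (Forms.qEnd hF))ᵀ).charpoly := by
  rw [udual, reverse_charpoly_inv h, ← mul_assoc, ← map_mul, inv_mul_cancel₀ (charpoly_coeff_zero_ne h),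
    map_one, one_mul, Matrix.charpoly_transpose, Matrix.charpoly_map]

/-- A semisimple hermitian realisation. -/
def RealisedU (P : F[X]) : Prop :=
  ∃ (V : Type u) (_ : AddCommGroup V) (_ : Module F V) (_ : FiniteDimensional F V)
    (B : V →ₛₗ[Forms.qEnd hF] V →ₗ[F] F) (g : End F V) (N : ℕ),
    (∀ x y, Forms.qEnd hF (B x y) = B y x) ∧ (∀ x, (∀ y, B x y = 0) → x = 0) ∧
      (∀ x y, B (g x) (g y) = B x y) ∧ (N : F) ≠ 0 ∧ g ^ N = 1 ∧ g.charpoly = P

theorem realisedU_one : RealisedU hF (1 : F[X]) :=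
  ⟨(Fin 0 → F), inferInstance, inferInstance, inferInstance, 0, 1, 1,
    fun x y => by simp, fun _ _ => Subsingleton.elim _ _, fun _ _ => rfl, by simp, one_pow _, by
      rw [← LinearMap.charpoly_toMatrix (1 : End F (Fin 0 → F)) (Pi.basisFun F (Fin 0))]
      exact Matrix.charpoly_isEmpty ..⟩

theorem realisedU_mul {P Q : F[X]} (hP : RealisedU hF P) (hQ : RealisedU hF Q) : RealisedU hF (P * Q) := by
  obtain ⟨V, _, _, _, B, g, N, hA, hS, hg, hN, hgN, rfl⟩ := hP
  obtain ⟨W, _, _, _, B', g', N', hA', hS', hg', hN', hgN', rfl⟩ := hQ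
  let B₂ : (V × W) →ₛₗ[Forms.qEnd hF] (V × W) →ₗ[F] F :=
    LinearMap.mk₂'ₛₗ (Forms.qEnd hF) (RingHom.id F) (fun x y => B x.1 y.1 + B' x.2 y.2)
      (fun a b c => by simp; abel) (fun c a b => by simp [map_smulₛₗ]; ring)
      (fun a b c => by simp; abel) (fun c a b => by simp; ring)
  have hB : ∀ x y, B₂ x y = B x.1 y.1 + B' x.2 y.2 := fun x y => rfl
  refine ⟨V × W, inferInstance, inferInstance, inferInstance, B₂, g.prodMap g', N * N',
    fun x y => by rw [hB, hB, map_add, hA, hA'], fun x hx => ?_, fun x y => ?_,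
    by rw [Nat.cast_mul]; exact mul_ne_zero hN hN', ?_, LinearMap.charpoly_prodMap g g'⟩
  · refine Prod.ext (hS _ fun y => ?_) (hS' _ fun y => ?_)
    · simpa [hB] using hx (y, 0)
    · simpa [hB] using hx (0, y)
  · rw [hB, hB]
    exact congrArg₂ (· + ·) (hg _ _) (hg' _ _)
  · rw [show (g.prodMap g') ^ (N * N') = (g ^ (N * N')).prodMap (g' ^ (N * N')) from
      (map_pow (LinearMap.prodMapRingHom F V W) (g, g') _).symm, pow_mul, hgN, one_pow, mul_comm, pow_mul, hgN',
      one_pow]
    exact LinearMap.ext fun x => rfl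

/-- The sesquilinear form of a matrix. -/
noncomputable def sesq {d : ℕ} (H : Matrix (Fin d) (Fin d) F) :
    (Fin d → F) →ₛₗ[Forms.qEnd hF] (Fin d → F) →ₗ[F] F :=
  LinearMap.mk₂'ₛₗ (Forms.qEnd hF) (RingHom.id F) (fun u v => (Forms.qEnd hF ∘ u) ⬝ᵥ (H *ᵥ v))
    (fun a b c => by
      rw [show ⇑(Forms.qEnd hF) ∘ (a + b) = ⇑(Forms.qEnd hF) ∘ a + ⇑(Forms.qEnd hF) ∘ b from
        funext fun i => map_add _ _ _, add_dotProduct])
    (fun c a b => by
      rw [show ⇑(Forms.qEnd hF) ∘ (c • a) = Forms.qEnd hF c • (⇑(Forms.qEnd hF) ∘ a) from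
        funext fun i => map_mul _ _ _, smul_dotProduct])
    (fun a b c => by rw [Matrix.mulVec_add, dotProduct_add])
    (fun c a b => by rw [Matrix.mulVec_smul, dotProduct_smul, RingHom.id_apply])

theorem sesq_apply {d : ℕ} (H : Matrix (Fin d) (Fin d) F) (u v : Fin d → F) :
    sesq hF H u v = (Forms.qEnd hF ∘ u) ⬝ᵥ (H *ᵥ v) := rfl

theorem sesq_map {d : ℕ} (H T : Matrix (Fin d) (Fin d) F)
    (hT : (T.map (Forms.qEnd hF))ᵀ * H * T = H) (u v : Fin d → F) :
    sesq hF H (T *ᵥ u) (T *ᵥ v) = sesq hF H u v := by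
  rw [sesq_apply, sesq_apply,
    show ⇑(Forms.qEnd hF) ∘ (T *ᵥ u) = T.map (Forms.qEnd hF) *ᵥ (⇑(Forms.qEnd hF) ∘ u) from
      funext fun i => RingHom.map_mulVec _ _ _ _]
  conv_rhs => rw [← hT]
  rw [← Matrix.mulVec_mulVec, ← Matrix.mulVec_mulVec,
    Matrix.dotProduct_mulVec (⇑(Forms.qEnd hF) ∘ u), Matrix.vecMul_transpose]

theorem sesq_herm {d : ℕ} (H : Matrix (Fin d) (Fin d) F) (hH : (H.map (Forms.qEnd hF))ᵀ = H) (u v : Fin d → F) :
    Forms.qEnd hF (sesq hF H u v) = sesq hF H v u := by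
  rw [sesq_apply, sesq_apply, RingHom.map_dotProduct, ← Function.comp_assoc,
    show ⇑(Forms.qEnd hF) ∘ ⇑(Forms.qEnd hF) = id from funext (Forms.qEnd_qEnd hF), Function.id_comp,
    show ⇑(Forms.qEnd hF) ∘ (H *ᵥ v) = H.map (Forms.qEnd hF) *ᵥ (⇑(Forms.qEnd hF) ∘ v) from
      funext fun i => RingHom.map_mulVec _ _ _ _]
  conv_rhs => rw [← hH]
  rw [dotProduct_comm, Matrix.mulVec_transpose, dotProduct_comm (H.map _ *ᵥ _), Matrix.dotProduct_mulVec]
  exact dotProduct_comm _ _

theorem exists_pow_eq_one (p : ℕ) [Fact p.Prime] [CharP F p] {d : ℕ} {P : F[X]} (hm : P.Monic)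
    (hd : P.natDegree = d) (h0 : P.coeff 0 ≠ 0) :
    ∃ (T : Matrix (Fin d) (Fin d) F) (N : ℕ), (N : F) ≠ 0 ∧ 0 < N ∧ T.charpoly = P ∧ T ^ N = 1 := by
  obtain ⟨T, hT, hss⟩ := exists_ss_charpoly d P hm hd
  have hdet : T.det ≠ 0 := by
    intro hz
    apply h0
    rw [← hT, coeff_zero_eq_eval_zero, Matrix.eval_charpoly, map_zero, zero_sub, Matrix.det_neg, hz, mul_zero]
  let A := Matrix.GeneralLinearGroup.mkOfDetNeZero T hdet
  have hcop := coprime_of_ss p A hss
  refine ⟨T, orderOf A, ?_, orderOf_pos A, hT, ?_⟩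
  · rw [Ne, CharP.cast_eq_zero_iff F p]
    exact fun h => (Fact.out : p.Prime).not_dvd_one (hcop ▸ Nat.dvd_gcd h dvd_rfl)
  · have := congrArg Units.val (pow_orderOf_eq_one A)
    rwa [Units.val_pow_eq_pow_val, Units.val_one] at this

theorem exists_skew : ∃ a : F, a ≠ 0 ∧ Forms.qEnd hF a = -a := by
  obtain ⟨z, hz⟩ : ∃ z, Forms.qEnd hF z ≠ z := by
    by_contra h
    simp only [not_exists, not_not] at h
    exact Forms.qEnd_ne_id hF (RingHom.ext h)
  exact ⟨z - Forms.qEnd hF z, sub_ne_zero.2 (Ne.symm hz), by rw [map_sub, Forms.qEnd_qEnd]; ring⟩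

/-- The block of a self-dual irreducible polynomial. -/
theorem realisedU_irreducible (p : ℕ) [Fact p.Prime] [CharP F p] {P : F[X]} (hm : P.Monic) (hi : Irreducible P)
    (h0 : P.coeff 0 ≠ 0) (hd : udual hF P = P) : RealisedU hF P := by
  classical
  obtain ⟨d, hdd⟩ : ∃ d, P.natDegree = d := ⟨_, rfl⟩
  obtain ⟨T, N, hN, hN0, hT, hTN⟩ := exists_pow_eq_one p hm hdd h0
  let St : Matrix (Fin d) (Fin d) F → Matrix (Fin d) (Fin d) F := fun H => (H.map (Forms.qEnd hF))ᵀ
  have hSt : ∀ X Y, St (X * Y) = St Y * St X := fun X Y => by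
    show ((X * Y).map _)ᵀ = _
    rw [Matrix.map_mul, Matrix.transpose_mul]
  have hSt1 : St 1 = 1 := by
    show ((1 : Matrix (Fin d) (Fin d) F).map _)ᵀ = _
    rw [Matrix.map_one _ (map_zero _) (map_one _), Matrix.transpose_one]
  have hStSt : ∀ X, St (St X) = X := fun X => Matrix.ext fun i j => Forms.qEnd_qEnd hF _
  have hinv : T ^ (N - 1) * T = 1 := by rw [← pow_succ, Nat.sub_add_cancel hN0, hTN]
  let S := St (T ^ (N - 1))
  have hSN : S ^ N = 1 := by
    show ((T ^ (N - 1)).map (Forms.qEnd hF))ᵀ ^ N = 1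
    rw [← Matrix.transpose_pow, ← Matrix.map_pow, ← pow_mul, mul_comm, pow_mul, hTN, one_pow,
      Matrix.map_one _ (map_zero _) (map_one _), Matrix.transpose_one]
  have hss : ∀ M : Matrix (Fin d) (Fin d) F, M ^ N = 1 → SS (K := F) M := fun M hM =>
    ⟨X ^ N - C 1, (separable_X_pow_sub_C 1 hN one_ne_zero).squarefree, by simp [hM]⟩
  obtain ⟨G, hG⟩ := exists_similar T S (hss T hTN) (hss S hSN) (by rw [← udual_charpoly hF hinv, hT, hd])
  have hsol : St T * (G : Matrix (Fin d) (Fin d) F) * T = G := by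
    rw [mul_assoc, hG, ← mul_assoc, ← hSt, hinv, hSt1, one_mul]
  obtain ⟨H, hH, hHT, hH0⟩ : ∃ H, St H = H ∧ St T * H * T = H ∧ H ≠ 0 := by
    have hsol' : St T * St (G : Matrix (Fin d) (Fin d) F) * T = St G := by
      have := congrArg St hsol
      rwa [hSt, hSt, hStSt, ← mul_assoc] at this
    by_cases hs : (G : Matrix (Fin d) (Fin d) F) + St G = 0
    · obtain ⟨a, ha, hσa⟩ := exists_skew hF
      refine ⟨a • (G : Matrix (Fin d) (Fin d) F), ?_, by rw [Matrix.mul_smul, Matrix.smul_mul, hsol], ?_⟩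
      · have hsm : St (a • (G : Matrix (Fin d) (Fin d) F)) = Forms.qEnd hF a • St G :=
          Matrix.ext fun i j => by simp [St]
        rw [hsm, hσa, eq_neg_of_add_eq_zero_right hs, neg_smul_neg]
      · refine smul_ne_zero ha fun h => ?_
        have h2 := G.inv_mul
        rw [h, mul_zero] at h2
        have hd0 : 0 < d := hdd ▸ hi.natDegree_pos
        exact one_ne_zero (congrFun (congrFun h2 ⟨0, hd0⟩) ⟨0, hd0⟩).symm
    · refine ⟨_, ?_, ?_, hs⟩
      · have : St ((G : Matrix (Fin d) (Fin d) F) + St G) = St G + St (St G) :=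
          Matrix.ext fun i j => by simp [St]
        rw [this, hStSt, add_comm]
      · rw [mul_add, add_mul, hsol, hsol']
  have hker : ∀ v, H *ᵥ v = 0 → v = 0 := by
    by_contra! hex
    obtain ⟨v, hv, hv0⟩ := hex
    have hinvk : ∀ w, H *ᵥ w = 0 → H *ᵥ (T *ᵥ w) = 0 := by
      intro w hw
      have h1 : St T *ᵥ (H *ᵥ (T *ᵥ w)) = 0 := by
        rw [Matrix.mulVec_mulVec, Matrix.mulVec_mulVec, hHT, hw]
      have h2 := congrArg (fun z => St (T ^ (N - 1)) *ᵥ z) h1
      simp only [Matrix.mulVec_mulVec, Matrix.mulVec_zero] at h2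
      rw [← mul_assoc, ← hSt, ← pow_succ', Nat.sub_add_cancel hN0, hTN, hSt1, one_mul, ← Matrix.mulVec_mulVec] at h2
      exact h2
    let f : End F (Fin d → F) := Matrix.toLinAlgEquiv' T
    have hfv : ∀ w, f w = T *ᵥ w := fun w => Matrix.toLin'_apply _ _
    let W : Submodule F (Fin d → F) := LinearMap.ker (Matrix.toLin' H)
    have hW : ∀ w, w ∈ W ↔ H *ᵥ w = 0 := fun w => by simp [W]
    let L : degreeLT F d →ₗ[F] W :=
      LinearMap.codRestrict W (((LinearMap.applyₗ (R := F) v).comp (aeval f).toLinearMap).comp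
        (degreeLT F d).subtype) fun Q => by
        show aeval f (Q : F[X]) v ∈ W
        generalize (Q : F[X]) = R
        induction R using Polynomial.induction_on' with
        | add a b iha ihb => rw [map_add, LinearMap.add_apply]; exact W.add_mem iha ihb
        | monomial k a =>
          rw [aeval_monomial, Module.End.mul_apply, Module.algebraMap_end_apply]
          refine W.smul_mem _ ?_
          induction k with
          | zero => rwa [pow_zero, Module.End.one_apply, hW]
          | succ k ih => rw [pow_succ', Module.End.mul_apply, hW, hfv]; exact hinvk _ ((hW _).1 ih)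
    have hLinj : Function.Injective L := by
      rw [injective_iff_map_eq_zero]
      intro Q hQ
      by_contra hQ0
      have hne : (Q : F[X]) ≠ 0 := fun h => hQ0 (Subtype.ext h)
      have hlt : (Q : F[X]).natDegree < d :=
        (natDegree_lt_iff_degree_lt hne).2 (mem_degreeLT.1 Q.2)
      obtain ⟨a, b, hab⟩ := hi.coprime_iff_not_dvd.2 fun h => by
        have := natDegree_le_of_dvd h hne
        omega
      have hQv : aeval f (Q : F[X]) v = 0 := congrArg Subtype.val hQ
      have hPf : aeval f P = 0 := by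
        rw [← hT, aeval_algHom_apply, Matrix.aeval_self_charpoly, map_zero]
      apply hv0
      have h1 := congrArg (fun R : F[X] => aeval f R v) hab
      simpa [Module.End.mul_apply, hPf, hQv] using h1.symm
    have hdim := LinearMap.finrank_le_finrank_of_injective hLinj
    rw [(degreeLTEquiv F d).finrank_eq, Module.finrank_fin_fun] at hdim
    have htop : W = ⊤ := Submodule.eq_top_of_finrank_eq
      (le_antisymm W.finrank_le (by rw [Module.finrank_fin_fun]; exact hdim))
    refine hH0 (Matrix.ext_iff_mulVec.2 fun w => ?_)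
    rw [(hW w).1 (htop ▸ Submodule.mem_top), Matrix.zero_mulVec]
  refine ⟨Fin d → F, inferInstance, inferInstance, inferInstance, sesq hF H, Matrix.toLinAlgEquiv' T, N,
    sesq_herm hF H hH, fun u hu => ?_, fun u v => ?_, hN, by rw [← map_pow, hTN, map_one], ?_⟩
  · refine hker u (dotProduct_eq_zero_iff.1 fun w => ?_)
    obtain ⟨w, rfl⟩ : ∃ w', ⇑(Forms.qEnd hF) ∘ w' = w :=
      ⟨⇑(Forms.qEnd hF) ∘ w, funext fun i => Forms.qEnd_qEnd hF _⟩
    have h1 := sesq_herm hF H hH u w
    rw [hu, map_zero, sesq_apply] at h1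
    rw [dotProduct_comm]
    exact h1.symm
  · show sesq hF H (Matrix.toLin' T u) (Matrix.toLin' T v) = _
    rw [Matrix.toLin'_apply, Matrix.toLin'_apply, sesq_map hF H T hHT]
  · show (Matrix.toLin' T).charpoly = P
    rw [Matrix.charpoly_toLin', hT]

/-- A pair of dual totally isotropic blocks. -/
theorem realisedU_pair (p : ℕ) [Fact p.Prime] [CharP F p] {P : F[X]} (hm : P.Monic) (h0 : P.coeff 0 ≠ 0) :
    RealisedU hF (P * udual hF P) := by
  classical
  obtain ⟨d, hdd⟩ : ∃ d, P.natDegree = d := ⟨_, rfl⟩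
  obtain ⟨T, N, hN, hN0, hT, hTN⟩ := exists_pow_eq_one p hm hdd h0
  have hinv : T ^ (N - 1) * T = 1 := by rw [← pow_succ, Nat.sub_add_cancel hN0, hTN]
  let S := ((T ^ (N - 1)).map (Forms.qEnd hF))ᵀ
  have hST : (T.map (Forms.qEnd hF))ᵀ * S = 1 := by
    rw [← Matrix.transpose_mul, ← Matrix.map_mul, hinv, Matrix.map_one _ (map_zero _) (map_one _),
      Matrix.transpose_one]
  let f : End F (Fin d → F) := Matrix.toLinAlgEquiv' T
  let g : End F (Fin d → F) := Matrix.toLinAlgEquiv' S
  let B₀ := sesq hF (1 : Matrix (Fin d) (Fin d) F)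
  have h1 : ∀ u v, B₀ u v = (⇑(Forms.qEnd hF) ∘ u) ⬝ᵥ v := fun u v => by rw [sesq_apply, Matrix.one_mulVec]
  let B : ((Fin d → F) × (Fin d → F)) →ₛₗ[Forms.qEnd hF] ((Fin d → F) × (Fin d → F)) →ₗ[F] F :=
    LinearMap.mk₂'ₛₗ (Forms.qEnd hF) (RingHom.id F) (fun x y => B₀ x.1 y.2 + B₀ x.2 y.1)
      (fun a b c => by simp; abel) (fun c a b => by simp [map_smulₛₗ]; ring)
      (fun a b c => by simp; abel) (fun c a b => by simp; ring)
  have hB : ∀ x y, B x y = B₀ x.1 y.2 + B₀ x.2 y.1 := fun x y => rfl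
  have hs : ∀ u v, Forms.qEnd hF (B₀ u v) = B₀ v u := sesq_herm hF 1 (by
    rw [Matrix.map_one _ (map_zero _) (map_one _), Matrix.transpose_one])
  have hcross : ∀ u v, B₀ (f u) (g v) = B₀ u v ∧ B₀ (g v) (f u) = B₀ v u := by
    intro u v
    have e : B₀ (f u) (g v) = B₀ u v := by
      show B₀ (Matrix.toLin' T u) (Matrix.toLin' S v) = _
      rw [Matrix.toLin'_apply, Matrix.toLin'_apply, h1, h1,
        show ⇑(Forms.qEnd hF) ∘ (T *ᵥ u) = T.map (Forms.qEnd hF) *ᵥ (⇑(Forms.qEnd hF) ∘ u) from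
          funext fun i => RingHom.map_mulVec _ _ _ _, ← Matrix.vecMul_transpose, ← Matrix.dotProduct_mulVec,
        Matrix.mulVec_mulVec, hST, Matrix.one_mulVec]
    exact ⟨e, by rw [← hs, e, hs]⟩
  have hsep : ∀ x, (∀ y, B x y = 0) → x = 0 := by
    intro x hx
    have key : ∀ u : Fin d → F, (∀ v, B₀ u v = 0) → u = 0 := fun u hu => by
      have h2 : ⇑(Forms.qEnd hF) ∘ u = 0 := dotProduct_eq_zero_iff.1 fun v => by rw [← h1]; exact hu v
      funext i
      have := congrFun h2 i
      simpa using this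
    refine Prod.ext (key _ fun v => ?_) (key _ fun v => ?_)
    · simpa [hB] using hx (0, v)
    · simpa [hB] using hx (v, 0)
  refine ⟨(Fin d → F) × (Fin d → F), inferInstance, inferInstance, inferInstance, B, f.prodMap g, N,
    fun x y => by rw [hB, hB, map_add, hs, hs, add_comm], hsep, fun x y => ?_, hN, ?_, ?_⟩
  · rw [hB, hB]
    exact congrArg₂ (· + ·) (hcross _ _).1 (hcross _ _).2
  · rw [show (f.prodMap g) ^ N = (f ^ N).prodMap (g ^ N) from
      (map_pow (LinearMap.prodMapRingHom F _ _) (f, g) _).symm, ← map_pow, ← map_pow, hTN, map_one,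
      show S ^ N = 1 by
        rw [← Matrix.transpose_pow, ← Matrix.map_pow, ← pow_mul, mul_comm, pow_mul, hTN, one_pow,
          Matrix.map_one _ (map_zero _) (map_one _), Matrix.transpose_one], map_one]
    exact LinearMap.ext fun x => rfl
  · rw [LinearMap.charpoly_prodMap]
    show (Matrix.toLin' T).charpoly * (Matrix.toLin' S).charpoly = _
    rw [Matrix.charpoly_toLin', Matrix.charpoly_toLin', ← udual_charpoly hF hinv, hT]

/-- Every self-dual polynomial is realised. -/
theorem realisedU_of_dual (p : ℕ) [Fact p.Prime] [CharP F p] : ∀ (n : ℕ) (P : F[X]), P.Monic → P.natDegree = n →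
    P.coeff 0 ≠ 0 → udual hF P = P → RealisedU hF P := by
  intro n
  induction n using Nat.strong_induction_on with
  | _ n ih =>
    intro P hm hn h0 hd
    by_cases hu : IsUnit P
    · rw [hm.eq_one_of_isUnit hu]
      exact realisedU_one hF
    obtain ⟨π, hπm, hπ, R, hR⟩ := Polynomial.exists_monic_irreducible_factor P hu
    have hπ0 : π.coeff 0 ≠ 0 := fun h => h0 (by rw [hR, mul_coeff_zero, h, zero_mul])
    have hrec : ∀ A B : F[X], P = A * B → udual hF A = A → A.Monic → A.coeff 0 ≠ 0 → 0 < A.natDegree →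
        RealisedU hF A → RealisedU hF P := by
      intro A B hAB hA hAm hA0 hApos hAR
      have hBm : B.Monic := hAm.of_mul_monic_left (hAB ▸ hm)
      have hB0 : B.coeff 0 ≠ 0 := fun h => h0 (by rw [hAB, mul_coeff_zero, h, mul_zero])
      have hBd : udual hF B = B := mul_left_cancel₀ hAm.ne_zero (by
        conv_lhs => rw [← hA]
        rw [← udual_mul, ← hAB, hd])
      rw [hAB]
      refine realisedU_mul hF hAR (ih B.natDegree ?_ B hBm rfl hB0 hBd)
      rw [← hn, hAB, natDegree_mul hAm.ne_zero hBm.ne_zero]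
      omega
    by_cases hπd : udual hF π = π
    · exact hrec π R hR hπd hπm hπ0 hπ.natDegree_pos (realisedU_irreducible hF p hπm hπ hπ0 hπd)
    · have hdvd : udual hF π ∣ P := ⟨udual hF R, by rw [← udual_mul, ← hR, hd]⟩
      have hcop : IsCoprime π (udual hF π) := by
        rw [hπ.coprime_iff_not_dvd]
        intro h
        exact hπd (eq_of_monic_of_associated (udual_monic hF hπ0) hπm
          (associated_of_dvd_dvd (by
            obtain ⟨c, hc⟩ := h
            have hdeg := congrArg natDegree hc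
            have hc0 : c ≠ 0 := fun hz => (udual_monic hF hπ0).ne_zero (by rw [hc, hz, mul_zero])
            rw [udual_natDegree hF hπ0, natDegree_mul hπm.ne_zero hc0] at hdeg
            obtain ⟨k, hk⟩ := natDegree_eq_zero.1 (show c.natDegree = 0 by omega)
            have hk0 : k ≠ 0 := fun hz => hc0 (by rw [← hk, hz, map_zero])
            exact ⟨C k⁻¹, by rw [hc, ← hk, mul_assoc, ← map_mul, mul_inv_cancel₀ hk0, map_one, mul_one]⟩) h))
      obtain ⟨B, hB⟩ := hcop.mul_dvd (dvd_of_mul_right_eq _ hR.symm) hdvd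
      refine hrec _ B hB ?_ (hπm.mul (udual_monic hF hπ0)) ?_ ?_ (realisedU_pair hF p hπm hπ0)
      · rw [udual_mul, udual_udual hF hπm hπ0, mul_comm]
      · rw [mul_coeff_zero]
        exact mul_ne_zero hπ0 (udual_coeff_zero hF hπm hπ0)
      · rw [natDegree_mul hπm.ne_zero (udual_monic hF hπ0).ne_zero]
        have := hπ.natDegree_pos
        omega

/-- Fixed points of a semilinear involution of `F ^ n`. -/
theorem card_fixed (n : ℕ) (ι : (Fin n → F) →+ (Fin n → F)) (hι : ∀ v, ι (ι v) = v)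
    (hsm : ∀ (a : F) v, ι (a • v) = Forms.qEnd hF a • ι v) : Nat.card {v // ι v = v} = q ^ n := by
  classical
  obtain ⟨a, ha, hσa⟩ := exists_skew hF
  obtain ⟨t, ht⟩ : ∃ t : F, t + Forms.qEnd hF t = 1 := by
    obtain ⟨z, hz⟩ : ∃ z, z + Forms.qEnd hF z ≠ 0 := by
      by_contra! h
      refine Forms.qEnd_ne_id hF (RingHom.ext fun z => ?_)
      have h2 := h 1
      rw [map_one] at h2
      rw [RingHom.id_apply]
      linear_combination h z - z * h2
    refine ⟨z / (z + Forms.qEnd hF z), ?_⟩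
    rw [map_div₀, map_add, Forms.qEnd_qEnd, add_comm (Forms.qEnd hF z) z, ← add_div, div_self hz]
  let D : (Fin n → F) →+ (Fin n → F) := AddMonoidHom.id _ - ι
  have hD : ∀ v, D v = v - ι v := fun v => rfl
  have hker : Nat.card D.ker = Nat.card {v // ι v = v} :=
    Nat.card_congr (Equiv.subtypeEquivRight fun v => by rw [AddMonoidHom.mem_ker, hD, sub_eq_zero, eq_comm])
  have hrange : Nat.card D.range = Nat.card {v // ι v = v} := by
    refine Nat.card_congr (Equiv.symm (Equiv.ofBijective (fun v => ⟨a • v.1, t • (a • v.1), ?_⟩) ⟨?_, ?_⟩))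
    · rw [hD, hsm, hsm, v.2, hσa, neg_smul, smul_neg, sub_neg_eq_add, ← add_smul, ht, one_smul]
    · exact fun v w h => Subtype.ext (smul_right_injective (Fin n → F) ha (congrArg Subtype.val h))
    · rintro ⟨_, v, rfl⟩
      refine ⟨⟨a⁻¹ • D v, ?_⟩, Subtype.ext (by
        show a • a⁻¹ • D v = D v
        rw [smul_smul, mul_inv_cancel₀ ha, one_smul])⟩
      rw [hsm, hD, map_sub, hι, map_inv₀, hσa, inv_neg, neg_smul, ← smul_neg, neg_sub]
  have h := AddSubgroup.card_eq_card_quotient_mul_card_addSubgroup D.ker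
  rw [Nat.card_congr (QuotientAddGroup.quotientKerEquivRange D).toEquiv, hker, hrange, Nat.card_fun,
    Nat.card_eq_fintype_card, hF, Nat.card_eq_fintype_card, Fintype.card_fin, ← pow_mul, mul_comm 2 n, pow_mul,
    pow_two] at h
  exact (Nat.mul_self_inj.1 h).symm

/-- Self-dual polynomials of degree `n` and determinant one. -/
def UPoly (n : ℕ) (P : F[X]) : Prop :=
  (P.Monic ∧ P.natDegree = n) ∧ P.coeff 0 = (-1) ^ n ∧ udual hF P = P

theorem card_uPoly (n : ℕ) : Nat.card {P : F[X] // UPoly hF (n + 1) P} = q ^ n := by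
  classical
  let s : F := (-1) ^ (n + 1)
  have hss : s * s = 1 := by show (-1 : F) ^ (n + 1) * (-1) ^ (n + 1) = 1; rw [← pow_add, ← two_mul, pow_mul, neg_one_sq, one_pow]
  have hσs : Forms.qEnd hF s = s := by show Forms.qEnd hF ((-1) ^ (n + 1)) = (-1) ^ (n + 1); rw [map_pow, map_neg, map_one]
  have hsinv : s⁻¹ = s := inv_eq_of_mul_eq_one_right hss
  let ι : (Fin n → F) →+ (Fin n → F) :=
    AddMonoidHom.mk' (fun c i => s * Forms.qEnd hF (c (Fin.rev i))) fun c c' => funext fun i => by simp [mul_add]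
  have hι : ∀ c i, ι c i = s * Forms.qEnd hF (c (Fin.rev i)) := fun c i => rfl
  rw [← card_fixed hF n ι (fun c => funext fun i => by
      rw [hι, hι, Fin.rev_rev, map_mul, Forms.qEnd_qEnd, hσs, ← mul_assoc, hss, one_mul])
    (fun a c => funext fun i => by
      show s * Forms.qEnd hF (a * c (Fin.rev i)) = Forms.qEnd hF a * (s * Forms.qEnd hF (c (Fin.rev i)))
      rw [map_mul]; ring)]
  have hrev : ∀ i : Fin n, revAt (n + 1) ((i : ℕ) + 1) = ((Fin.rev i : Fin n) : ℕ) + 1 := fun i => by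
    have := i.2
    rw [revAt_le (by omega), Fin.val_rev]
    omega
  refine Nat.card_congr (Equiv.ofBijective (fun P => ⟨fun i => P.1.coeff ((i : ℕ) + 1), funext fun i => ?_⟩) ⟨?_, ?_⟩)
  · obtain ⟨⟨-, hn⟩, h0, hd⟩ := P.2
    have h := congrArg (fun R => coeff R ((i : ℕ) + 1)) hd
    simp only [udual_coeff, hn, h0, hrev, map_mul, map_inv₀] at h
    rw [hι]
    exact (congrArg (· * _) (by rw [hσs, hsinv])).trans h
  · intro P Q h
    refine Subtype.ext (Polynomial.ext fun j => ?_)
    obtain ⟨⟨hPm, hPn⟩, hP0, -⟩ := P.2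
    obtain ⟨⟨hQm, hQn⟩, hQ0, -⟩ := Q.2
    rcases j with _ | j
    · rw [hP0, hQ0]
    rcases Nat.lt_trichotomy j n with hj | hj | hj
    · exact congrFun (congrArg Subtype.val h) ⟨j, hj⟩
    · have e1 := hPm.coeff_natDegree
      have e2 := hQm.coeff_natDegree
      rw [hPn] at e1
      rw [hQn] at e2
      rw [hj, e1, e2]
    · rw [coeff_eq_zero_of_natDegree_lt (by omega), coeff_eq_zero_of_natDegree_lt (by omega)]
  · rintro ⟨c, hc⟩
    let a : ℕ → F := fun j =>
      if j = 0 then s else if j = n + 1 then 1 else if h : j - 1 < n then c ⟨j - 1, h⟩ else 0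
    let P : F[X] := ∑ j ∈ Finset.range (n + 2), C (a j) * X ^ j
    have hP : ∀ j, P.coeff j = if j < n + 2 then a j else 0 := fun j => by
      rw [finset_sum_coeff]
      simp [coeff_C_mul_X_pow]
    have hdeg : P.natDegree = n + 1 := natDegree_eq_of_le_of_coeff_ne_zero
      (natDegree_le_iff_coeff_eq_zero.2 fun j hj => by rw [hP, if_neg (by omega)])
      (by rw [hP, if_pos (by omega)]; simp [a])
    have hlead : P.coeff (n + 1) = 1 := by rw [hP, if_pos (by omega)]; simp [a]
    have h0 : P.coeff 0 = s := by rw [hP, if_pos (by omega)]; simp [a]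
    have hmid : ∀ i : Fin n, P.coeff ((i : ℕ) + 1) = c i := fun i => by
      have := i.2
      rw [hP, if_pos (by omega)]
      simp [a, this, Nat.ne_of_lt this]
    have hd : udual hF P = P := by
      ext j
      rw [udual_coeff, hdeg, h0, hsinv, map_mul, hσs]
      rcases j with _ | j
      · rw [revAt_le (Nat.zero_le _), Nat.sub_zero, hlead, map_one, mul_one, h0]
      rcases Nat.lt_trichotomy j n with hj | hj | hj
      · rw [show j + 1 = ((⟨j, hj⟩ : Fin n) : ℕ) + 1 from rfl, hrev, hmid, hmid]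
        exact congrFun hc ⟨j, hj⟩
      · rw [hj, revAt_le le_rfl, Nat.sub_self, h0, hlead, hσs, hss]
      · rw [revAt_eq_self_of_lt (by omega), hP, if_neg (by omega), map_zero, mul_zero]
    exact ⟨⟨P, ⟨by rw [Monic, leadingCoeff, hdeg, hlead], hdeg⟩, h0, hd⟩, Subtype.ext (funext hmid)⟩

end Cfsg.Agent.Semisimple
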