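/-
The centraliser of a semisimple unitary isometry has every determinant `c / σ c`.
-/
import Mathlib
import Cfsg.Agent.Lib.Semisimple.Isometry
import Cfsg.Agent.Lib.Forms.Herm

set_option autoImplicit false

open Polynomial Module

namespace Cfsg.Agent.Semisimple

variable {F : Type*} [Field F] {σ : F →+* F} {ε : F} {V : Type*} [AddCommGroup V] [Module F V]
  [FiniteDimensional F V] {B : V →ₛₗ[σ] V →ₗ[F] F} {g : End F V} {N : ℕ}

/-- Extend an isometry of an invariant non-degenerate piece by the identity. -/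
theorem exists_extend_det (hB : IsHerm σ ε B) (hmap : ∀ x y, B (g x) (g y) = B x y) {U : Type*} [AddCommGroup U]
    [Module F U] [FiniteDimensional F U] (L : U →ₗ[F] V) (hnd : ∀ u, (∀ v, B (L u) (L v) = 0) → u = 0)
    (T a : End F U) (hT : ∀ u, g (L u) = L (T u)) (hTa : ∀ u, a (T u) = T (a u))
    (ha : ∀ u v, B (L (a u)) (L (a v)) = B (L u) (L v)) :
    ∃ R : V ≃ₗ[F] V, (∀ x, R (g x) = g (R x)) ∧ (∀ x y, B (R x) (R y) = B x y) ∧
      LinearMap.det (R : End F V) = LinearMap.det a := by
  have hinj : Function.Injective L := by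
    rw [injective_iff_map_eq_zero]
    exact fun u hu => hnd u fun v => by rw [hu, map_zero, LinearMap.zero_apply]
  let W := LinearMap.range L
  let e0 : U ≃ₗ[F] W := LinearEquiv.ofInjective L hinj
  have he0 : ∀ u, (e0 u : V) = L u := fun u => rfl
  let P : Submodule F V := ⨅ w : W, LinearMap.ker (B (w : V))
  obtain ⟨e, hPst, -, -, hge, hform⟩ := exists_split hB W (fun w hw => by
      obtain ⟨u, rfl⟩ := e0.surjective w
      rw [hnd u fun v => hw (e0 v), map_zero]) g hmap
    (by rintro _ ⟨u, rfl⟩; exact ⟨T u, (hT u).symm⟩) P (fun v => by simp [P])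
  let R₀ : End F V := e.conj ((e0.conj a).prodMap LinearMap.id)
  have hR : ∀ u c, R₀ (e (e0 u, c)) = e (e0 (a u), c) := fun u c => by
    simp only [R₀, LinearEquiv.conj_apply_apply, LinearEquiv.symm_apply_apply, LinearMap.prodMap_apply,
      LinearMap.id_apply]
  have hsurj : ∀ x : V, ∃ u c, e (e0 u, c) = x := fun x => by
    obtain ⟨⟨w, c⟩, rfl⟩ := e.surjective x
    obtain ⟨u, rfl⟩ := e0.surjective w
    exact ⟨u, c, rfl⟩
  have hiso : ∀ x y, B (R₀ x) (R₀ y) = B x y := by
    intro x y
    obtain ⟨u, c, rfl⟩ := hsurj x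
    obtain ⟨v, d, rfl⟩ := hsurj y
    rw [hR, hR, hform, hform, he0, he0, he0, he0, ha]
  refine ⟨LinearEquiv.ofInjectiveEndo R₀ ?_, fun x => ?_, fun x y => hiso x y, ?_⟩
  · rw [injective_iff_map_eq_zero]
    exact fun x hx => hB.sep x fun y => by rw [← hiso, hx, map_zero, LinearMap.zero_apply]
  · obtain ⟨u, c, rfl⟩ := hsurj x
    show R₀ _ = g (R₀ _)
    rw [hR, hge, hge]
    have h1 : ∀ u hst, g.restrict hst (e0 u) = e0 (T u) := fun u hst => Subtype.ext (hT u)
    rw [h1, h1, hR, hTa]
  · show LinearMap.det R₀ = _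
    show LinearMap.det (e.toLinearMap ∘ₗ ((e0.conj a).prodMap LinearMap.id) ∘ₗ e.symm.toLinearMap) = _
    rw [LinearMap.det_conj, LinearMap.det_prodMap, LinearMap.det_id, mul_one]
    exact LinearMap.det_conj a e0

variable [Fintype F] {q : ℕ}

/-- The centraliser of a semisimple unitary isometry has every determinant `c / σ c`. -/
theorem exists_commute_det_unitary (hF : Fintype.card F = q ^ 2) (hσ : ∀ x, σ x = x ^ q) (hB : IsHerm σ ε B)
    (hg : IsSSIsom B g N) (hn : 0 < finrank F V) {c : F} (hc : c ≠ 0) :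
    ∃ R : V ≃ₗ[F] V, (∀ x, R (g x) = g (R x)) ∧ (∀ x y, B (R x) (R y) = B x y) ∧
      LinearMap.det (R : End F V) = c / σ c := by
  classical
  have hσid : σ ≠ RingHom.id F := fun h => Forms.qEnd_ne_id hF (RingHom.ext fun x => by
    rw [Forms.qEnd_apply, ← hσ, h])
  obtain ⟨π, hπm, hπ, hdvd⟩ := Polynomial.exists_monic_irreducible_factor g.charpoly
    (fun hu => by
      have := natDegree_eq_zero_of_isUnit hu
      rw [g.charpoly_natDegree] at this
      omega)
  obtain ⟨x₀, hx₀0, hx₀⟩ := exists_vec_of_dvd g hπ hdvd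
  have : Fact (Irreducible π) := ⟨hπ⟩
  have : Module.Finite F (AdjoinRoot π) := (AdjoinRoot.powerBasis' hπm).finite
  have : Finite (AdjoinRoot π) := Module.finite_of_finite F
  obtain ⟨u, hu⟩ := FiniteField.norm_surjective F (AdjoinRoot π) c
  have hu0 : u ≠ 0 := fun h => hc (by rw [← hu, h, Algebra.norm_zero])
  have hinv : ∀ y : AdjoinRoot π, y ≠ 0 → Algebra.norm F y⁻¹ = (Algebra.norm F y)⁻¹ := fun y hy =>
    eq_inv_of_mul_eq_one_left (by rw [← map_mul (Algebra.norm F), inv_mul_cancel₀ hy, map_one])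
  have hnorm : ∀ (φ : AdjoinRoot π →+* AdjoinRoot π),
      (∀ e, φ (algebraMap F (AdjoinRoot π) e) = algebraMap F (AdjoinRoot π) (σ e)) →
      ∀ y, Algebra.norm F (φ y) = σ (Algebra.norm F y) := fun φ hφ y =>
    (algebraMap F (AdjoinRoot π)).injective (by
      rw [← hφ, FiniteField.algebraMap_norm_eq_pow, FiniteField.algebraMap_norm_eq_pow, map_pow])
  by_cases hd : ∃ x, aeval g π x = 0 ∧ ∃ p : F[X], B x (aeval g p x) ≠ 0
  · obtain ⟨x, hx, hxp⟩ := hd
    obtain ⟨-, J, hJ, hJJ, -⟩ := hg.exists_involution hB (fun h => absurd h hσid) hπ hx hxp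
    obtain ⟨j, hj⟩ := exists_embed g hx
    have hJC : ∀ e, J (algebraMap F (AdjoinRoot π) e) = algebraMap F (AdjoinRoot π) (σ e) := fun e => by
      rw [AdjoinRoot.algebraMap_eq, ← AdjoinRoot.mk_C, hJ, star_C, AdjoinRoot.mk_C]
    have hβ : ∀ a b, B (j a) (j b) = B x (j (J a * b)) := by
      intro a b
      obtain ⟨p, rfl⟩ := AdjoinRoot.mk_surjective a
      obtain ⟨r, rfl⟩ := AdjoinRoot.mk_surjective b
      rw [hj, hj, hJ, ← map_mul, hg.adjoint, ← Module.End.mul_apply, ← map_mul, ← hj]
    have hJu : J u ≠ 0 := fun h => hu0 (J.injective (by rw [h, map_zero]))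
    have hnd : ∀ a, (∀ b, B (j a) (j b) = 0) → a = 0 := by
      intro a ha
      by_contra ha0
      obtain ⟨p, hp⟩ := hxp
      apply hp
      rw [← hj]
      have h0 := ha ((J a)⁻¹ * AdjoinRoot.mk π p)
      rwa [hβ, ← mul_assoc, mul_inv_cancel₀ (fun h => ha0 (J.injective (by rw [h, map_zero]))), one_mul] at h0
    obtain ⟨R, h1, h2, h3⟩ := exists_extend_det hB hg.map j hnd
      (LinearMap.mulLeft F (AdjoinRoot.root π)) (LinearMap.mulLeft F (u / J u))
      (embed_root g j hj) (fun a => mul_left_comm _ _ _) (fun a b => by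
        simp only [LinearMap.mulLeft_apply]
        rw [hβ, hβ, map_mul J, map_div₀ J, hJJ]
        congr 2
        field_simp)
    · refine ⟨R, h1, h2, ?_⟩
      rw [h3]
      show LinearMap.det (Algebra.lmul F (AdjoinRoot π) (u / J u)) = _
      rw [← Algebra.norm_apply, div_eq_mul_inv, map_mul (Algebra.norm F), hinv _ hJu, hnorm J hJC, hu,
        div_eq_mul_inv]
  · push Not at hd
    obtain ⟨p', k, -, hchar, hqk⟩ := Forms.exists_prime_pow_q hF
    have : ExpChar (AdjoinRoot π) p' := by
      have := charP_of_injective_algebraMap (algebraMap F (AdjoinRoot π)).injective p'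
      exact ExpChar.prime ((CharP.char_is_prime_or_zero (AdjoinRoot π) p').resolve_right
        (CharP.char_ne_zero_of_finite (AdjoinRoot π) p'))
    let φ : AdjoinRoot π →+* AdjoinRoot π := iterateFrobenius (AdjoinRoot π) p' k
    have hφ : ∀ y, φ y = y ^ q := fun y => by rw [iterateFrobenius_def, ← hqk]
    have hφC : ∀ e, φ (algebraMap F (AdjoinRoot π) e) = algebraMap F (AdjoinRoot π) (σ e) := fun e => by
      rw [hφ, hσ, map_pow]
    have hφbij : Function.Bijective φ := Finite.injective_iff_bijective.1 φ.injective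
    obtain ⟨y, hy, hxy⟩ := hg.exists_partner hB hx₀0 hx₀
    obtain ⟨j, hj⟩ := exists_embed g hx₀
    obtain ⟨l, hlp⟩ := exists_coembed σ N g hy
    have hjj : ∀ a b, B (j a) (j b) = 0 := fun a b => by
      obtain ⟨p, rfl⟩ := AdjoinRoot.mk_surjective a
      obtain ⟨r, rfl⟩ := AdjoinRoot.mk_surjective b
      rw [hj, hj, hg.adjoint, ← Module.End.mul_apply, ← map_mul]
      exact hd x₀ hx₀ _
    have hll : ∀ a b, B (l a) (l b) = 0 := fun a b => by
      obtain ⟨p, rfl⟩ := AdjoinRoot.mk_surjective a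
      obtain ⟨r, rfl⟩ := AdjoinRoot.mk_surjective b
      rw [hlp, hlp, hg.adjoint, ← Module.End.mul_apply, ← map_mul]
      exact (hg.partner_cases hB hπ hy).elim (fun h => hd y h _) fun h => h _
    have hjl : ∀ a b, B (j a) (l b) = B (j (b * a)) y := fun a b => by
      obtain ⟨p, rfl⟩ := AdjoinRoot.mk_surjective a
      obtain ⟨r, rfl⟩ := AdjoinRoot.mk_surjective b
      rw [hlp, ← hg.adjoint, ← map_mul, hj, hj, ← Module.End.mul_apply, ← map_mul]
    have hj1 : j 1 = x₀ := by rw [← map_one (AdjoinRoot.mk π), hj, map_one, Module.End.one_apply]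
    let lφ : AdjoinRoot π →ₗ[F] V :=
      { toFun := fun b => l (φ b)
        map_add' := fun a b => by simp
        map_smul' := fun e b => by
          rw [RingHom.id_apply, coembed_smul σ hB.invol N g l hlp, Algebra.smul_def, Algebra.smul_def, map_mul,
            hφC] }
    obtain ⟨s, hs⟩ := hφbij.2 (AdjoinRoot.root π ^ (N - 1))
    obtain ⟨v, hv⟩ := hφbij.2 u⁻¹
    have hlform : ∀ a b, B (j a) (lφ b) = B (j (φ b * a)) y := fun a b => hjl a (φ b)
    have hnd : ∀ w, (∀ z, B (j.coprod lφ w) (j.coprod lφ z) = 0) → w = 0 := by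
      intro w hw
      obtain ⟨a, b⟩ := w
      have hzz : ∀ a b, B (lφ a) (lφ b) = 0 := fun a b => hll _ _
      have ha : a = 0 := by
        by_contra ha
        obtain ⟨t, ht⟩ := hφbij.2 a⁻¹
        have h0 := hw (0, t)
        simp only [LinearMap.coprod_apply, map_zero, zero_add, map_add, LinearMap.add_apply, hzz, add_zero,
          hlform, ht, inv_mul_cancel₀ ha, hj1] at h0
        exact hxy h0
      have hb : b = 0 := by
        by_contra hb
        have hb' : φ b ≠ 0 := fun h => hb (φ.injective (by rw [h, map_zero]))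
        have h0 := hw ((φ b)⁻¹, 0)
        simp only [LinearMap.coprod_apply, map_zero, add_zero, map_add, LinearMap.add_apply, hjj, zero_add] at h0
        have h3 := hB.swap (lφ b) (j (φ b)⁻¹)
        rw [h0, map_zero, mul_zero, hlform, mul_inv_cancel₀ hb', hj1] at h3
        exact hxy h3
      rw [ha, hb]
      rfl
    obtain ⟨R, h1, h2, h3⟩ := exists_extend_det hB hg.map (j.coprod lφ) hnd
      ((LinearMap.mulLeft F (AdjoinRoot.root π)).prodMap (LinearMap.mulLeft F s))
      ((LinearMap.mulLeft F u).prodMap (LinearMap.mulLeft F v))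
      (fun w => by
        simp only [LinearMap.coprod_apply, LinearMap.prodMap_apply, LinearMap.mulLeft_apply, map_add]
        show g (j w.1) + g (l (φ w.2)) = j _ + l (φ (s * w.2))
        rw [embed_root g j hj, coembed_root σ N g hg.pred_pred l hlp, map_mul φ, hs])
      (fun w => by simp [mul_left_comm])
      (fun w z => by
        simp only [LinearMap.coprod_apply, LinearMap.prodMap_apply, LinearMap.mulLeft_apply]
        simp only [map_add, LinearMap.add_apply]
        have hlj : ∀ a b, B (lφ b) (j a) = ε * σ (B (j (φ b * a)) y) := fun a b => by rw [hB.swap, hlform]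
        have hzz : ∀ a b, B (lφ a) (lφ b) = 0 := fun a b => hll _ _
        simp only [hjj, hzz, hlform, hlj, map_mul, hv]
        rw [show u⁻¹ * φ z.2 * (u * w.1) = φ z.2 * w.1 by field_simp,
          show u⁻¹ * φ w.2 * (u * z.1) = φ w.2 * z.1 by field_simp])
    · refine ⟨R, h1, h2, ?_⟩
      have hNv : σ (Algebra.norm F v) = c⁻¹ := by rw [← hnorm φ hφC, hv, hinv u hu0, hu]
      rw [h3, LinearMap.det_prodMap]
      show LinearMap.det (Algebra.lmul F (AdjoinRoot π) u) * LinearMap.det (Algebra.lmul F (AdjoinRoot π) v) = _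
      rw [← Algebra.norm_apply, ← Algebra.norm_apply, hu, ← hB.invol (Algebra.norm F v), hNv, map_inv₀,
        div_eq_mul_inv]

end Cfsg.Agent.Semisimple

namespace Cfsg.Agent.Semisimple

/-- Hilbert's theorem 90 for the quadratic extension of finite fields. -/
theorem exists_div_pow_eq {F : Type*} [Field F] [Fintype F] {q : ℕ} (hF : Fintype.card F = q ^ 2) {δ : F}
    (hδ : δ ^ (q + 1) = 1) : ∃ c : F, c ≠ 0 ∧ c / c ^ q = δ := by
  have hq := Forms.one_lt_q hF
  have hle : (powMonoidHom (α := Fˣ) (q - 1)).range ≤ (powMonoidHom (α := Fˣ) (q + 1)).ker := by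
    rintro _ ⟨x, rfl⟩
    rw [MonoidHom.mem_ker, powMonoidHom_apply, powMonoidHom_apply, ← pow_mul, mul_comm, ← Forms.units_card hF]
    exact pow_card_eq_one'
  have hcard : Nat.card (powMonoidHom (α := Fˣ) (q - 1)).range = q + 1 := by
    have h := Subgroup.card_eq_card_quotient_mul_card_subgroup (powMonoidHom (α := Fˣ) (q - 1)).ker
    rw [Nat.card_congr (QuotientGroup.quotientKerEquivRange (powMonoidHom (α := Fˣ) (q - 1))).toEquiv,
      Forms.card_units_pow_eq_one hF (dvd_mul_left _ _), Forms.units_card hF] at h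
    exact (Nat.eq_of_mul_eq_mul_right (by omega) h).symm
  have heq := Subgroup.eq_of_le_of_card_ge hle (by rw [hcard, Forms.card_norm_kernel hF])
  have hδ0 : δ ≠ 0 := by rintro rfl; simp at hδ
  have hmem : (Units.mk0 δ hδ0)⁻¹ ∈ (powMonoidHom (α := Fˣ) (q + 1)).ker := by
    rw [MonoidHom.mem_ker, powMonoidHom_apply, inv_pow, inv_eq_one]
    exact Units.ext (by simpa using hδ)
  rw [← heq] at hmem
  obtain ⟨x, hx⟩ := hmem
  refine ⟨x, x.ne_zero, ?_⟩
  have h1 : (x : F) ^ (q - 1) = δ⁻¹ := by simpa using congrArg Units.val hx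
  have h2 : (x : F) ^ q = x * δ⁻¹ := by rw [← h1, ← pow_succ', Nat.sub_add_cancel hq.le]
  rw [h2]
  field_simp [x.ne_zero]

end Cfsg.Agent.Semisimple
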