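/-
Classes of elements of prime order r in G/Z for a group G of invertible matrices containing the monomial
matrices with entries in a scalar group W, r | |W|, in which conjugacy is conjugacy in the general linear group.
-/
import Mathlib
import Cfsg.Agent.Lib.Semisimple.Classes

set_option autoImplicit false

open Polynomial UniqueFactorizationMonoid
open scoped Matrix

namespace Cfsg.Agent.ProjClasses

variable {F : Type*} [Field F] {n r : ℕ}

/-! ### Monomial matrices -/

/-- The monomial matrix `x ↦ (i ↦ v i * x (σ i))`. -/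
noncomputable def monoMat (σ : Equiv.Perm (Fin n)) (v : Fin n → Fˣ) : Matrix (Fin n) (Fin n) F :=
  Matrix.of fun i j => if σ i = j then (v i : F) else 0

theorem monoMat_mulVec (σ : Equiv.Perm (Fin n)) (v : Fin n → Fˣ) (x : Fin n → F) (i : Fin n) :
    (monoMat σ v *ᵥ x) i = v i * x (σ i) := by
  simp [monoMat, Matrix.mulVec, dotProduct]

theorem monoMat_mul (σ τ : Equiv.Perm (Fin n)) (v w : Fin n → Fˣ) :
    monoMat σ v * monoMat τ w = monoMat (σ.trans τ) (fun i => v i * w (σ i)) := by
  refine Matrix.ext_iff_mulVec.2 fun x => funext fun i => ?_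
  rw [← Matrix.mulVec_mulVec, monoMat_mulVec, monoMat_mulVec, monoMat_mulVec, Units.val_mul, mul_assoc]
  rfl

theorem monoMat_one (v : Fin n → Fˣ) : monoMat 1 v = Matrix.diagonal fun i => (v i : F) := by
  ext i j
  by_cases h : i = j <;> simp [monoMat, h, Matrix.diagonal]

/-- The monomial matrix as an element of the general linear group. -/
noncomputable def mono (σ : Equiv.Perm (Fin n)) (v : Fin n → Fˣ) : GL (Fin n) F where
  val := monoMat σ v
  inv := monoMat σ.symm fun i => (v (σ.symm i))⁻¹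
  val_inv := by
    rw [monoMat_mul, Equiv.self_trans_symm]
    simp [← Equiv.Perm.one_def, monoMat_one]
  inv_val := by
    rw [monoMat_mul, Equiv.symm_trans_self]
    simp [← Equiv.Perm.one_def, monoMat_one]

theorem val_mono (σ : Equiv.Perm (Fin n)) (v : Fin n → Fˣ) :
    (mono σ v : Matrix (Fin n) (Fin n) F) = monoMat σ v := rfl

theorem monoMat_pow_apply (σ : Equiv.Perm (Fin n)) (v : Fin n → Fˣ) : ∀ (j : ℕ) (x : Fin n → F) (i : Fin n),
    (monoMat σ v ^ j *ᵥ x) i = (∏ l ∈ Finset.range j, (v ((σ ^ l) i) : F)) * x ((σ ^ j) i)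
  | 0, x, i => by simp
  | j + 1, x, i => by
    rw [pow_succ', ← Matrix.mulVec_mulVec, monoMat_mulVec, monoMat_pow_apply σ v j, Finset.prod_range_succ',
      ← mul_assoc, pow_zero, Equiv.Perm.one_apply]
    simp only [pow_succ, Equiv.Perm.mul_apply]
    ring

/-- The scalar matrix of a unit. -/
noncomputable def scal (c : Fˣ) : GL (Fin n) F := mono 1 fun _ => c

theorem val_scal (c : Fˣ) : ((scal c : GL (Fin n) F) : Matrix (Fin n) (Fin n) F) = (c : F) • 1 := by
  rw [scal, val_mono, monoMat_one, Matrix.smul_one_eq_diagonal]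

theorem scal_commute (c : Fˣ) (g : GL (Fin n) F) : scal c * g = g * scal c :=
  Units.ext (by rw [Units.val_mul, Units.val_mul, val_scal, smul_mul_assoc, mul_smul_comm, one_mul, mul_one])

theorem val_scal_mul (c : Fˣ) (g : GL (Fin n) F) :
    ((scal c * g : GL (Fin n) F) : Matrix (Fin n) (Fin n) F) = (c : F) • (g : Matrix (Fin n) (Fin n) F) := by
  rw [Units.val_mul, val_scal, smul_mul_assoc, one_mul]

theorem scal_mul (c d : Fˣ) : (scal (c * d) : GL (Fin n) F) = scal c * scal d :=
  Units.ext (by rw [val_scal_mul, val_scal, val_scal, smul_smul, Units.val_mul])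

theorem scal_one : (scal (1 : Fˣ) : GL (Fin n) F) = 1 := Units.ext (by rw [val_scal]; simp)

theorem scal_pow (c : Fˣ) : ∀ k : ℕ, (scal c : GL (Fin n) F) ^ k = scal (c ^ k)
  | 0 => by rw [pow_zero, pow_zero, scal_one]
  | k + 1 => by rw [pow_succ, pow_succ, scal_mul, scal_pow c k]

theorem scal_injective (hn : 0 < n) : Function.Injective (scal : Fˣ → GL (Fin n) F) := fun a b h => by
  have := congrArg (fun g : GL (Fin n) F => (g : Matrix (Fin n) (Fin n) F) ⟨0, hn⟩ ⟨0, hn⟩) h
  simp [val_scal] at this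
  exact Units.ext this

/-! ### Characteristic polynomials of matrices killed by a squarefree polynomial -/

theorem factor_dvd {A : Matrix (Fin n) (Fin n) F} {P π : F[X]} (hA : aeval A P = 0) (hπ : Irreducible π)
    (hd : π ∣ A.charpoly) : π ∣ P := by
  obtain ⟨v, hv, hv0⟩ := Semisimple.exists_vec_of_dvd (Matrix.toLinAlgEquiv' A) hπ (by
    show π ∣ (Matrix.toLin' A).charpoly
    rwa [Matrix.charpoly_toLin'])
  have hP : aeval (Matrix.toLinAlgEquiv' A) P v = 0 := by
    rw [← AlgEquiv.coe_algHom, aeval_algHom_apply, hA, map_zero, LinearMap.zero_apply]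
  refine (hπ.coprime_iff_not_dvd (n := P)).not_left.1 fun hco => hv ?_
  obtain ⟨a, b, hab⟩ := hco
  have := congrArg (fun Q => aeval (Matrix.toLinAlgEquiv' A) Q v) hab
  simpa [map_add, map_mul, hv0, hP] using this.symm

open scoped Classical in
theorem charpoly_eq_prod (A : Matrix (Fin n) (Fin n) F) :
    A.charpoly = (normalizedFactors A.charpoly).prod := by
  rw [prod_normalizedFactors_eq A.charpoly_monic.ne_zero, A.charpoly_monic.normalize_eq_self]

/-! ### The classes -/

variable [Fact r.Prime] (hn : 0 < n) (G₀ : Subgroup (GL (Fin n) F)) (W : Subgroup Fˣ) (ζ : Fˣ)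

/-- Powers of `ζ` indexed by `ZMod r`. -/
def zp (ζ : Fˣ) (j : ZMod r) : Fˣ := ζ ^ j.val

/-- The diagonal representative with exponents `φ`. -/
noncomputable def rep (φ : Fin n → ZMod r) : GL (Fin n) F := mono 1 fun i => zp ζ (φ i)

/-- Multiplicities. -/
def cnt (φ : Fin n → ZMod r) (j : ZMod r) : ℕ := (Finset.univ.filter fun i => φ i = j).card

variable {ζ} (hζ : orderOf ζ = r)

include hζ in
theorem zp_add (i j : ZMod r) : zp ζ (i + j) = zp ζ i * zp ζ j := by
  rw [zp, zp, zp, ← pow_add, ZMod.val_add]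
  have h := pow_mod_orderOf ζ (i.val + j.val)
  rw [hζ] at h
  exact h

include hζ in
theorem zp_injective : Function.Injective (zp ζ : ZMod r → Fˣ) := fun i j h => by
  refine ZMod.val_injective r ?_
  rw [zp, zp, pow_inj_mod, hζ, Nat.mod_eq_of_lt (ZMod.val_lt i), Nat.mod_eq_of_lt (ZMod.val_lt j)] at h
  exact h

include hζ in
theorem zp_pow (j : ZMod r) : zp ζ j ^ r = 1 := by
  have h := pow_orderOf_eq_one ζ
  rw [hζ] at h
  rw [zp, ← pow_mul, mul_comm, pow_mul, h, one_pow]

include hζ in
theorem exists_zp {x : F} (hx : x ^ r = 1) : ∃ j : ZMod r, (zp ζ j : F) = x := by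
  have hp : IsPrimitiveRoot (ζ : F) r := hζ ▸ (IsPrimitiveRoot.orderOf ζ).map_of_injective
    (f := Units.coeHom F) Units.val_injective
  obtain ⟨k, hk, rfl⟩ := hp.eq_pow_of_pow_eq_one hx
  exact ⟨(k : ZMod r), by rw [zp, ZMod.val_natCast, Nat.mod_eq_of_lt hk, Units.val_pow_eq_pow_val]⟩

include hζ in
theorem X_pow_sub_one_eq : (X ^ r - C 1 : F[X]) = ∏ j : ZMod r, (X - C (zp ζ j : F)) := by
  classical
  have hr0 : 0 < r := (Fact.out : r.Prime).pos
  have hinj : Set.InjOn (fun j : ZMod r => (zp ζ j : F)) (Finset.univ : Finset (ZMod r)) :=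
    fun a _ b _ h => zp_injective hζ (Units.ext h)
  refine eq_of_monic_of_dvd_of_natDegree_le (monic_prod_of_monic _ _ fun _ _ => monic_X_sub_C _)
    (monic_X_pow_sub_C _ hr0.ne') (Finset.prod_dvd_of_coprime ?_ fun j _ => ?_) ?_
  · intro a _ b _ hab
    exact isCoprime_X_sub_C_of_isUnit_sub ((sub_ne_zero.2 fun h => hab (hinj (Finset.mem_univ a)
      (Finset.mem_univ b) h)).isUnit)
  · rw [dvd_iff_isRoot, IsRoot.def, eval_sub, eval_pow, eval_X, eval_C, ← Units.val_pow_eq_pow_val,
      zp_pow hζ, Units.val_one, sub_self]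
  · rw [natDegree_X_pow_sub_C, natDegree_prod_of_monic _ _ fun _ _ => monic_X_sub_C _]
    simp

theorem charpoly_rep (φ : Fin n → ZMod r) :
    (rep ζ φ : Matrix (Fin n) (Fin n) F).charpoly = ∏ i, (X - C (zp ζ (φ i) : F)) := by
  rw [rep, val_mono, monoMat_one, Matrix.charpoly_diagonal]

theorem card_filter_eq_count (φ : Fin n → ZMod r) (j : ZMod r) :
    cnt φ j = (Finset.univ.val.map φ).count j := by
  rw [cnt, Multiset.count_map, Finset.card_def, Finset.filter_val]
  simp [eq_comm]

include hζ in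
theorem charpoly_rep_eq_iff (φ ψ : Fin n → ZMod r) :
    (rep ζ φ : Matrix (Fin n) (Fin n) F).charpoly = (rep ζ ψ : Matrix (Fin n) (Fin n) F).charpoly ↔
      cnt φ = cnt ψ := by
  have hmap : ∀ χ : Fin n → ZMod r, (rep ζ χ : Matrix (Fin n) (Fin n) F).charpoly =
      (((Finset.univ.val.map χ).map fun j => (zp ζ j : F)).map fun c => X - C c).prod := fun χ => by
    rw [charpoly_rep, Multiset.map_map, Multiset.map_map]; rfl
  have hinj : Function.Injective (fun j : ZMod r => (zp ζ j : F)) := fun a b h =>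
    zp_injective hζ (Units.ext h)
  constructor
  · intro h
    rw [hmap, hmap] at h
    have h2 := congrArg Polynomial.roots h
    rw [roots_multiset_prod_X_sub_C, roots_multiset_prod_X_sub_C] at h2
    funext j
    rw [card_filter_eq_count, card_filter_eq_count, Multiset.map_injective hinj h2]
  · intro h
    have : Finset.univ.val.map φ = Finset.univ.val.map ψ := Multiset.ext.2 fun j => by
      rw [← card_filter_eq_count, ← card_filter_eq_count, h]
    rw [hmap, hmap, this]

theorem exists_phi (a : ZMod r → ℕ) (ha : ∑ j, a j = n) : ∃ φ : Fin n → ZMod r, cnt φ = a := by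
  classical
  let e : (Σ j, Fin (a j)) ≃ Fin n := Fintype.equivOfCardEq (by simp [ha])
  refine ⟨fun i => (e.symm i).1, funext fun j => ?_⟩
  rw [cnt]
  refine (Finset.card_bij (s := (Finset.univ : Finset (Fin (a j))))
    (fun k _ => e ⟨j, k⟩) (fun k _ => by simp) (fun k _ l _ h => by simpa using h) fun i hi => ?_).symm.trans
    (Finset.card_fin _)
  obtain ⟨k, hk⟩ : ∃ k, e.symm i = ⟨j, k⟩ := by
    simp only [Finset.mem_filter, Finset.mem_univ, true_and] at hi
    generalize e.symm i = s at hi ⊢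
    obtain ⟨s1, s2⟩ := s
    subst hi
    exact ⟨s2, rfl⟩
  exact ⟨k, Finset.mem_univ _, by rw [← hk, Equiv.apply_symm_apply]⟩

theorem sum_cnt (φ : Fin n → ZMod r) : ∑ j, cnt φ j = n := by
  classical
  simp only [cnt]
  rw [← Finset.card_eq_sum_card_fiberwise (fun i _ => Finset.mem_univ (φ i)), Finset.card_univ, Fintype.card_fin]

include hζ in
/-- A matrix with `g ^ r = 1` has the characteristic polynomial of a diagonal representative. -/
theorem exists_rep {A : Matrix (Fin n) (Fin n) F} (hA : A ^ r = 1) :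
    ∃ φ : Fin n → ZMod r, A.charpoly = (rep ζ φ : Matrix (Fin n) (Fin n) F).charpoly := by
  classical
  have hkill : aeval A (X ^ r - C 1 : F[X]) = 0 := by simp [hA]
  have hfac : ∀ π ∈ normalizedFactors A.charpoly, ∃ j : ZMod r, π = X - C (zp ζ j : F) := by
    intro π hπ
    have hirr := irreducible_of_normalized_factor π hπ
    have hd := factor_dvd hkill hirr (dvd_of_mem_normalizedFactors hπ)
    rw [X_pow_sub_one_eq hζ] at hd
    obtain ⟨j, -, hj⟩ := (hirr.prime.dvd_finset_prod_iff _).1 hd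
    exact ⟨j, eq_of_monic_of_associated (by
      rw [← normalize_normalized_factor π hπ]; exact monic_normalize hirr.ne_zero) (monic_X_sub_C _)
      (hirr.associated_of_dvd (irreducible_X_sub_C _) hj)⟩
  choose! j hj using hfac
  set m := (normalizedFactors A.charpoly).map j with hm
  have hprod : A.charpoly = (m.map fun i => X - C (zp ζ i : F)).prod := by
    conv_lhs => rw [charpoly_eq_prod A]
    rw [hm, Multiset.map_map]
    congr 1
    conv_lhs => rw [← Multiset.map_id' (normalizedFactors A.charpoly)]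
    exact Multiset.map_congr rfl fun π hπ => hj π hπ
  have hcard : m.card = n := by
    have h := congrArg natDegree hprod
    rw [Matrix.charpoly_natDegree_eq_dim, Fintype.card_fin,
      natDegree_multiset_prod_of_monic _ (fun p hp => by
        obtain ⟨i, -, rfl⟩ := Multiset.mem_map.1 hp; exact monic_X_sub_C _), Multiset.map_map] at h
    simpa using h.symm
  obtain ⟨φ, hφ⟩ := exists_phi (fun i => m.count i) (by
    rw [Multiset.sum_count_eq_card (fun _ _ => Finset.mem_univ _), hcard])
  refine ⟨φ, ?_⟩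
  have : Finset.univ.val.map φ = m := Multiset.ext.2 fun i => by
    rw [← card_filter_eq_count, hφ]
  rw [hprod, charpoly_rep, ← this, Multiset.map_map]
  rfl

theorem charpoly_eq_pow {A : Matrix (Fin n) (Fin n) F} {a : F} (hirr : Irreducible (X ^ r - C a))
    (hA : A ^ r = a • 1) : r ∣ n ∧ A.charpoly = (X ^ r - C a) ^ (n / r) := by
  classical
  have hr0 : 0 < r := (Fact.out : r.Prime).pos
  have hkill : aeval A (X ^ r - C a : F[X]) = 0 := by simp [hA, Algebra.algebraMap_eq_smul_one]
  have hfac : ∀ π ∈ normalizedFactors A.charpoly, π = X ^ r - C a := by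
    intro π hπ
    have hi := irreducible_of_normalized_factor π hπ
    exact eq_of_monic_of_associated (by
      rw [← normalize_normalized_factor π hπ]; exact monic_normalize hi.ne_zero) (monic_X_pow_sub_C a hr0.ne')
      (hi.associated_of_dvd hirr (factor_dvd hkill hi (dvd_of_mem_normalizedFactors hπ)))
  have hprod : A.charpoly = (X ^ r - C a) ^ (normalizedFactors A.charpoly).card := by
    conv_lhs => rw [charpoly_eq_prod A, Multiset.eq_replicate_card.2 hfac, Multiset.prod_replicate]
  have hdeg := congrArg natDegree hprod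
  rw [Matrix.charpoly_natDegree_eq_dim, Fintype.card_fin, natDegree_pow, natDegree_X_pow_sub_C] at hdeg
  refine ⟨⟨_, hdeg.trans (mul_comm _ _)⟩, hprod.trans ?_⟩
  congr 1
  exact (Nat.div_eq_of_eq_mul_left hr0 hdeg).symm

theorem exists_blockPerm (hrn : r ∣ n) :
    ∃ (σ : Equiv.Perm (Fin n)) (d : Fin n → Prop), σ ^ r = 1 ∧
      ∀ i, ∃! l, l < r ∧ d ((σ ^ l) i) := by
  obtain ⟨k, rfl⟩ := hrn
  have hr0 : 0 < r := (Fact.out : r.Prime).pos
  let e : ZMod r × Fin k ≃ Fin (r * k) :=
    ((ZMod.finEquiv r).toEquiv.symm.prodCongr (Equiv.refl (Fin k))).trans finProdFinEquiv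
  let τ : Equiv.Perm (ZMod r × Fin k) := (Equiv.addRight (1 : ZMod r)).prodCongr (Equiv.refl (Fin k))
  have hτ : ∀ (l : ℕ) p, (τ ^ l) p = (p.1 + l, p.2) := by
    intro l
    induction l with
    | zero => simp
    | succ l ih =>
      intro p
      rw [pow_succ', Equiv.Perm.mul_apply, ih]
      simp [τ, add_assoc]
  have hσ : ∀ (l : ℕ), (e.permCongr τ) ^ l = e.permCongr (τ ^ l) := fun l =>
    (map_pow e.permCongrHom τ l).symm
  refine ⟨e.permCongr τ, fun i => (e.symm i).1 = 0, ?_, fun i => ?_⟩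
  · rw [hσ, Equiv.ext_iff]
    intro i
    simp [Equiv.permCongr_apply, hτ]
  · refine ⟨(-(e.symm i).1).val, ⟨ZMod.val_lt _, ?_⟩, ?_⟩
    · simp [hσ, Equiv.permCongr_apply, hτ]
    · rintro l ⟨hl, hl0⟩
      simp only [hσ, Equiv.permCongr_apply, hτ, Equiv.symm_apply_apply] at hl0
      rw [← ZMod.val_natCast_of_lt hl]
      congr 1
      exact eq_neg_of_add_eq_zero_right hl0

/-- An element of `G₀` with `r`-th power the scalar `a`. -/
theorem exists_block (hrn : r ∣ n) (hmono : ∀ σ v, (∀ i, v i ∈ W) → mono σ v ∈ G₀) {a : Fˣ} (ha : a ∈ W) :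
    ∃ g ∈ G₀, g ^ r = scal a := by
  classical
  obtain ⟨σ, d, hσ, hd⟩ := exists_blockPerm hrn
  let v : Fin n → Fˣ := fun i => if d i then a else 1
  refine ⟨mono σ v, hmono σ v fun i => ?_, Units.ext (Matrix.ext_iff_mulVec.2 fun x => funext fun i => ?_)⟩
  · show (if d i then a else 1) ∈ W
    split_ifs
    · exact ha
    · exact W.one_mem
  rw [Units.val_pow_eq_pow_val, val_mono, monoMat_pow_apply, hσ, Equiv.Perm.one_apply, val_scal,
    Matrix.smul_mulVec, Matrix.one_mulVec, Pi.smul_apply, smul_eq_mul]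
  congr 1
  obtain ⟨l, ⟨hl, hdl⟩, huniq⟩ := hd i
  rw [Finset.prod_eq_single_of_mem l (Finset.mem_range.2 hl) (fun m hm hne => by
    have : ¬ d ((σ ^ m) i) := fun h => hne (huniq m ⟨Finset.mem_range.1 hm, h⟩)
    simp [v, this])]
  simp [v, hdl]

/-! ### Rotation orbits of multiplicity vectors -/

/-- Multiplicity vectors of non-scalar elements. -/
abbrev MultVec (n r : ℕ) [NeZero r] : Type := {a : ZMod r → ℕ // ∑ j, a j = n ∧ ∀ j, a j < n}

theorem finite_sum_eq (n r : ℕ) [NeZero r] : Finite {a : ZMod r → ℕ // ∑ j, a j = n} :=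
  Finite.of_injective (fun a (j : ZMod r) => (⟨a.1 j, Nat.lt_succ_of_le (by
    conv_rhs => rw [← a.2]
    exact Finset.single_le_sum (fun i _ => Nat.zero_le (a.1 i)) (Finset.mem_univ j))⟩ : Fin (n + 1)))
    fun a b h => Subtype.ext (funext fun j => congrArg Fin.val (congrFun h j))

instance [NeZero r] : Finite (MultVec n r) :=
  haveI := finite_sum_eq n r
  Finite.of_injective (fun a => (⟨a.1, a.2.1⟩ : {a : ZMod r → ℕ // ∑ j, a j = n}))
    fun _ _ h => Subtype.ext (congrArg Subtype.val h :)

noncomputable instance [NeZero r] : Fintype (MultVec n r) := Fintype.ofFinite _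

instance [NeZero r] : AddAction (ZMod r) (MultVec n r) where
  vadd i a := ⟨fun j => a.1 (j - i),
    (Equiv.sum_comp (Equiv.subRight i) a.1).trans a.2.1, fun j => a.2.2 (j - i)⟩
  zero_vadd a := Subtype.ext (funext fun j => congrArg a.1 (sub_zero j))
  add_vadd i j a := Subtype.ext (funext fun k => congrArg a.1 (by ring))

theorem vadd_apply [NeZero r] (i : ZMod r) (a : MultVec n r) (j : ZMod r) : (i +ᵥ a).1 j = a.1 (j - i) := rfl

include hn in
theorem card_multVec : Nat.card (MultVec n r) = Nat.choose (n + r - 1) (r - 1) - r := by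
  classical
  have hr1 := (Fact.out : r.Prime).one_lt
  have hall : Nat.card {a : ZMod r → ℕ // ∑ j, a j = n} = Nat.choose (n + r - 1) (r - 1) := by
    rw [← Nat.card_congr (Sym.equivNatSumOfFintype (ZMod r) n), Nat.card_eq_fintype_card,
      Sym.card_sym_eq_choose, ZMod.card, add_comm r n, ← Nat.choose_symm (by omega)]
    congr 1
    omega
  have := finite_sum_eq n r
  have := Fintype.ofFinite {a : ZMod r → ℕ // ∑ j, a j = n}
  rw [← hall]
  let f : MultVec n r ⊕ ZMod r → {a : ZMod r → ℕ // ∑ j, a j = n} :=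
    Sum.elim (fun a => ⟨a.1, a.2.1⟩) fun j => ⟨Pi.single j n, by simp⟩
  have hf : Function.Bijective f := by
    constructor
    · rintro (a | i) (b | j) h <;> have h' := congrArg Subtype.val h <;> simp only [f, Sum.elim_inl, Sum.elim_inr] at h'
      · exact congrArg Sum.inl (Subtype.ext h')
      · have := a.2.2 j; rw [h'] at this; simp at this
      · have := b.2.2 i; rw [← h'] at this; simp at this
      · have := congrFun h' i
        by_contra hne
        rw [Pi.single_eq_same, Pi.single_eq_of_ne (fun e : i = j => hne (congrArg Sum.inr e))] at this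
        omega
    · rintro ⟨a, ha⟩
      by_cases hlt : ∀ j, a j < n
      · exact ⟨Sum.inl ⟨a, ha, hlt⟩, rfl⟩
      · push Not at hlt
        obtain ⟨j, hj⟩ := hlt
        refine ⟨Sum.inr j, Subtype.ext (funext fun i => ?_)⟩
        show (Pi.single j n : ZMod r → ℕ) i = a i
        have h1 : a j + ∑ i ∈ Finset.univ.erase j, a i = n := by
          rw [Finset.add_sum_erase _ _ (Finset.mem_univ j), ha]
        rcases eq_or_ne i j with rfl | hne
        · rw [Pi.single_eq_same]; omega
        · rw [Pi.single_eq_of_ne hne]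
          have := Finset.single_le_sum (f := a) (fun x _ => Nat.zero_le _)
            (Finset.mem_erase.2 ⟨hne, Finset.mem_univ i⟩)
          omega
  rw [← Nat.card_eq_of_bijective f hf, Nat.card_sum, Nat.card_zmod, Nat.add_sub_cancel]

include hn in
theorem card_orbits : Nat.card (AddAction.orbitRel.Quotient (ZMod r) (MultVec n r)) =
    (Nat.choose (n + r - 1) (r - 1) - r - (if r ∣ n then 1 else 0)) / r + (if r ∣ n then 1 else 0) := by
  classical
  have hr : r.Prime := Fact.out
  set e := if r ∣ n then 1 else 0 with he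
  have hfix : ∀ i : ZMod r, i ≠ 0 → Fintype.card (AddAction.fixedBy (MultVec n r) i) = e := by
    intro i hi
    have hconst : ∀ a ∈ AddAction.fixedBy (MultVec n r) i, ∀ j, a.1 j = a.1 0 := by
      intro a ha j
      have hk : ∀ k : ℕ, a.1 ((k : ZMod r) * i) = a.1 0 := by
        intro k
        induction k with
        | zero => simp
        | succ k ih =>
          rw [← ih]
          have := congrArg (fun b : MultVec n r => b.1 (((k + 1 : ℕ) : ZMod r) * i)) ha
          rw [vadd_apply] at this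
          rw [← this]
          congr 1
          push_cast; ring
      have := hk (j * i⁻¹).val
      rwa [ZMod.natCast_zmod_val, mul_assoc, inv_mul_cancel₀ hi, mul_one] at this
    by_cases hdv : r ∣ n
    · rw [he, if_pos hdv, Fintype.card_eq_one_iff]
      obtain ⟨k, hk⟩ := hdv
      have hk0 : 0 < k := by
        rcases Nat.eq_zero_or_pos k with rfl | h
        · simp at hk; omega
        · exact h
      refine ⟨⟨⟨fun _ => k, by simp [hk, Finset.card_univ], fun _ => by
        rw [hk]; exact lt_mul_left hk0 hr.one_lt⟩, rfl⟩, fun b => ?_⟩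
      refine Subtype.ext (Subtype.ext (funext fun j => ?_))
      have h := b.1.2.1
      rw [Finset.sum_congr rfl (fun j _ => hconst _ b.2 j), Finset.sum_const, Finset.card_univ, ZMod.card,
        smul_eq_mul] at h
      rw [hconst _ b.2 j]
      exact Nat.eq_of_mul_eq_mul_left hr.pos (h.trans hk)
    · rw [he, if_neg hdv, Fintype.card_eq_zero_iff]
      exact ⟨fun b => hdv ⟨b.1.1 0, by
        have h := b.1.2.1
        rw [Finset.sum_congr rfl (fun j _ => hconst _ b.2 j), Finset.sum_const, Finset.card_univ, ZMod.card,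
          smul_eq_mul] at h
        exact h.symm⟩⟩
  have hb := AddAction.sum_card_fixedBy_eq_card_orbits_mul_card_addGroup (ZMod r) (MultVec n r)
  rw [Finset.sum_eq_add_sum_sdiff_singleton_of_mem (Finset.mem_univ (0 : ZMod r)),
    Finset.sum_congr rfl (fun i hi => hfix i (by simpa using hi)), Finset.sum_const, smul_eq_mul,
    Finset.card_sdiff, ZMod.card] at hb
  have h0 : Fintype.card (AddAction.fixedBy (MultVec n r) (0 : ZMod r)) = Nat.choose (n + r - 1) (r - 1) - r := by
    rw [← card_multVec (r := r) hn, Nat.card_eq_fintype_card]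
    exact Fintype.card_congr (Equiv.subtypeUnivEquiv fun x => zero_vadd _ x)
  rw [h0] at hb
  simp only [Finset.inter_univ, Finset.singleton_inter_of_mem, Finset.mem_univ, Finset.card_singleton,
    Finset.card_univ, ZMod.card] at hb
  rw [Nat.card_eq_fintype_card]
  generalize Nat.choose (n + r - 1) (r - 1) - r = A at hb ⊢
  generalize Fintype.card (AddAction.orbitRel.Quotient (ZMod r) (MultVec n r)) = O at hb ⊢
  have hO : 0 < O ∨ e = 0 := by
    rcases Nat.eq_zero_or_pos e with h | h
    · exact Or.inr h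
    · left
      rcases Nat.eq_zero_or_pos O with rfl | h'
      · have := hr.one_lt
        simp at hb
        omega
      · exact h'
  have he1 : e ≤ 1 := by rw [he]; split_ifs <;> simp
  rcases Nat.le_one_iff_eq_zero_or_eq_one.1 he1 with h | h <;> rw [h] at hb hO ⊢
  · simp at hb ⊢
    rw [hb, Nat.mul_div_cancel _ hr.pos]
  · have hO' : 0 < O := hO.resolve_right one_ne_zero
    obtain ⟨o, rfl⟩ : ∃ o, O = o + 1 := ⟨O - 1, by omega⟩
    have hA : A - 1 = o * r := by
      have := hr.one_lt
      rw [add_mul, one_mul, mul_one] at hb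
      omega
    rw [hA, Nat.mul_div_cancel _ hr.pos]

/-! ### The count -/

include hn hζ in
theorem card_classes [Finite F] (hζW : ζ ∈ W) (hrW : r ∣ Nat.card W)
    (hroot : ∀ c : Fˣ, c ^ r ∈ W → c ∈ W) (hmono : ∀ σ v, (∀ i, v i ∈ W) → mono σ v ∈ G₀)
    (hscal : ∀ c : Fˣ, scal c ∈ G₀ → c ∈ W)
    (hconj : ∀ g h : G₀, IsConj (g : GL (Fin n) F) (h : GL (Fin n) F) → IsConj g h) :
    Nat.card {C : ConjClasses (G₀ ⧸ Subgroup.center G₀) //
      ∃ g : G₀ ⧸ Subgroup.center G₀, ConjClasses.mk g = C ∧ orderOf g = r} =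
      (Nat.choose (n + r - 1) (r - 1) - r - (if r ∣ n then 1 else 0)) / r + r * (if r ∣ n then 1 else 0) := by
  classical
  have hr : r.Prime := Fact.out
  -- scalars and centre
  let sc : W → G₀ := fun c => ⟨scal c, hmono _ _ fun _ => c.2⟩
  have hcenter : ∀ z : G₀, z ∈ Subgroup.center G₀ ↔ ∃ c : W, sc c = z := by
    intro z
    constructor
    · intro hz
      set Z := ((z : GL (Fin n) F) : Matrix (Fin n) (Fin n) F) with hZ
      have hcomm : ∀ σ v (hv : ∀ i, v i ∈ W), monoMat σ v * Z = Z * monoMat σ v := fun σ v hv =>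
        congrArg (fun g : G₀ => ((g : GL (Fin n) F) : Matrix (Fin n) (Fin n) F))
          (Subgroup.mem_center_iff.1 hz ⟨mono σ v, hmono σ v hv⟩)
      have hoff : ∀ i j, i ≠ j → Z i j = 0 := by
        intro i j hij
        have h := congrFun (congrFun (hcomm 1 (fun l => if l = i then ζ else 1)
          (fun l => by split_ifs <;> [exact hζW; exact W.one_mem])) i) j
        rw [monoMat_one, Matrix.diagonal_mul, Matrix.mul_diagonal, if_pos rfl, if_neg (Ne.symm hij), Units.val_one,
          mul_one] at h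
        have hne : (ζ : F) ≠ 1 := fun e => hr.ne_one (by
          rw [← hζ, Units.ext (e.trans Units.val_one.symm), orderOf_one])
        exact (mul_left_eq_self₀.1 h).resolve_left hne
      have hdiag : ∀ i, Z i i = Z ⟨0, hn⟩ ⟨0, hn⟩ := by
        intro i
        have h := congrFun (congrArg (fun M => M *ᵥ Pi.single i (1 : F))
          (hcomm (Equiv.swap ⟨0, hn⟩ i) (fun _ => 1) fun _ => W.one_mem)) ⟨0, hn⟩
        simp only [← Matrix.mulVec_mulVec, monoMat_mulVec, Units.val_one, one_mul, Equiv.swap_apply_left] at h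
        have hsingle : monoMat (Equiv.swap ⟨0, hn⟩ i) (fun _ => (1 : Fˣ)) *ᵥ Pi.single i (1 : F) =
            Pi.single ⟨0, hn⟩ 1 := by
          funext l
          rw [monoMat_mulVec, Units.val_one, one_mul]
          rcases eq_or_ne l ⟨0, hn⟩ with rfl | hl
          · simp
          · rw [Pi.single_eq_of_ne hl, Pi.single_eq_of_ne]
            intro he
            exact hl ((Equiv.swap ⟨0, hn⟩ i).injective (he.trans (Equiv.swap_apply_left _ _).symm))
        rw [hsingle, Matrix.mulVec_single_one, Matrix.mulVec_single_one] at h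
        exact h
      have hZeq : Z = Z ⟨0, hn⟩ ⟨0, hn⟩ • 1 := by
        ext i j
        rcases eq_or_ne i j with rfl | hij
        · simp [hdiag i]
        · simp [hoff i j hij, hij]
      have hne : Z ⟨0, hn⟩ ⟨0, hn⟩ ≠ 0 := fun h => by
        have hu := Matrix.isUnits_det_units (z : GL (Fin n) F)
        rw [show ((z : GL (Fin n) F) : Matrix (Fin n) (Fin n) F) = 0 by rw [← hZ, hZeq, h, zero_smul],
          (haveI : Nonempty (Fin n) := ⟨⟨0, hn⟩⟩; Matrix.det_zero (R := F) (n := Fin n))] at hu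
        exact not_isUnit_zero hu
      have hzs : scal (Units.mk0 _ hne) = (z : GL (Fin n) F) := Units.ext (by rw [val_scal]; exact hZeq.symm)
      exact ⟨⟨_, hscal _ (hzs ▸ z.2)⟩, Subtype.ext hzs⟩
    · rintro ⟨c, rfl⟩
      exact Subgroup.mem_center_iff.2 fun g => Subtype.ext (scal_commute (c : Fˣ) (g : GL (Fin n) F)).symm
  let mk : G₀ → G₀ ⧸ Subgroup.center G₀ := QuotientGroup.mk
  have hmk : ∀ g h : G₀, IsConj (mk g) (mk h) ↔
      ∃ (T : G₀) (c : W), T * g * T⁻¹ = sc c * h := by
    intro g h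
    rw [isConj_iff]
    constructor
    · rintro ⟨x, hx⟩
      obtain ⟨T, rfl⟩ := QuotientGroup.mk_surjective x
      obtain ⟨c, hc⟩ := (hcenter _).1 (QuotientGroup.eq.1 hx)
      refine ⟨T, c⁻¹, ?_⟩
      rw [show h = T * g * T⁻¹ * sc c from (eq_inv_mul_iff_mul_eq.1 hc).symm]
      refine Subtype.ext ?_
      show (T : GL (Fin n) F) * (g : GL (Fin n) F) * (T : GL (Fin n) F)⁻¹ =
        scal ((c : Fˣ)⁻¹) * ((T : GL (Fin n) F) * (g : GL (Fin n) F) * (T : GL (Fin n) F)⁻¹ * scal (c : Fˣ))
      rw [← scal_commute (c : Fˣ), ← mul_assoc, ← scal_mul, inv_mul_cancel, scal_one, one_mul]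
    · rintro ⟨T, c, hc⟩
      refine ⟨mk T, ?_⟩
      show mk (T * g * T⁻¹) = mk h
      rw [hc, show mk (sc c * h) = mk (sc c) * mk h from rfl,
        show mk (sc c) = 1 from (QuotientGroup.eq_one_iff _).2 ((hcenter _).2 ⟨c, rfl⟩), one_mul]
  have hord : ∀ g : G₀, orderOf (mk g) = r ↔
      (∃ a : W, g ^ r = sc a) ∧ ¬ ∃ c : W, sc c = g := fun g => by
    rw [orderOf_eq_prime_iff, ← hcenter, Ne,
      show mk g = 1 ↔ g ∈ Subgroup.center G₀ from QuotientGroup.eq_one_iff g,
      show mk g ^ r = 1 ↔ g ^ r ∈ Subgroup.center G₀ from QuotientGroup.eq_one_iff (g ^ r), hcenter]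
    simp only [eq_comm]
  -- the set of representatives
  let H : Subgroup W := (powMonoidHom r).range
  let B : Type _ := {t : W ⧸ H // t ≠ 1 ∧ r ∣ n}
  let repG : (Fin n → ZMod r) → G₀ := fun φ => ⟨rep ζ φ, hmono _ _ fun i => W.pow_mem hζW _⟩
  have hrep_pow : ∀ φ, repG φ ^ r = 1 := fun φ => Subtype.ext (Units.ext (by
    show (rep ζ φ : Matrix (Fin n) (Fin n) F) ^ r = 1
    rw [rep, val_mono, monoMat_one, Matrix.diagonal_pow]
    convert Matrix.diagonal_one (n := Fin n) (α := F) using 2
    funext i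
    show (zp ζ (φ i) : F) ^ r = 1
    rw [← Units.val_pow_eq_pow_val, zp_pow hζ, Units.val_one]))
  have hss1 : ∀ g : G₀, g ^ r = 1 → Semisimple.SS (K := F) ((g : GL (Fin n) F) : Matrix (Fin n) (Fin n) F) := by
    intro g hg
    refine ⟨X ^ r - C 1, ?_, ?_⟩
    · have hF : (r : F) ≠ 0 := by
        intro h0
        haveI : CharP F r := by
          obtain ⟨p, _⟩ := CharP.exists F
          have hp : p.Prime := CharP.char_is_prime F p
          rwa [← (Nat.prime_dvd_prime_iff_eq hp hr).1 ((CharP.cast_eq_zero_iff F p r).1 h0)]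
        have h1 : ζ ^ r = 1 := by rw [← hζ]; exact pow_orderOf_eq_one ζ
        have h2 : ((ζ : F) - 1) ^ r = 0 := by
          rw [sub_pow_char, one_pow, ← Units.val_pow_eq_pow_val, h1, Units.val_one, sub_self]
        exact hr.ne_one (by rw [← hζ, Units.ext ((sub_eq_zero.1 (pow_eq_zero_iff hr.ne_zero |>.1 h2)).trans
          Units.val_one.symm), orderOf_one])
      exact (Polynomial.separable_X_pow_sub_C 1 hF one_ne_zero).squarefree
    · have h' := congrArg (fun x : G₀ => ((x : GL (Fin n) F) : Matrix (Fin n) (Fin n) F)) hg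
      simp only [SubmonoidClass.coe_pow, Units.val_pow_eq_pow_val, OneMemClass.coe_one, Units.val_one] at h'
      simp [h']
  have hA_conj : ∀ (g : G₀), g ^ r = 1 → ∀ φ, ((g : GL (Fin n) F) : Matrix (Fin n) (Fin n) F).charpoly =
      (rep ζ φ : Matrix (Fin n) (Fin n) F).charpoly → IsConj g (repG φ) := fun g hg φ h =>
    hconj _ _ (Semisimple.isConj_gl _ _ (hss1 g hg) (hss1 _ (hrep_pow φ)) h)
  have hirr : ∀ a : W, a ∉ H → Irreducible (X ^ r - C ((a : Fˣ) : F)) := by
    intro a ha
    refine X_pow_sub_C_irreducible_of_prime hr fun b hb => ha ?_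
    have hb0 : b ≠ 0 := fun h => by rw [h, zero_pow hr.ne_zero] at hb; exact (a : Fˣ).ne_zero hb.symm
    have hu : Units.mk0 b hb0 ^ r = (a : Fˣ) := Units.ext hb
    exact ⟨⟨Units.mk0 b hb0, hroot _ (hu ▸ a.2)⟩, Subtype.ext hu⟩
  have hpow_val : ∀ (g : G₀) (a : W), g ^ r = sc a →
      ((g : GL (Fin n) F) : Matrix (Fin n) (Fin n) F) ^ r = ((a : Fˣ) : F) • 1 := fun g a h => by
    rw [← Units.val_pow_eq_pow_val, ← SubmonoidClass.coe_pow, h]
    exact val_scal _
  have hB_conj : ∀ (g h : G₀) (a : W), a ∉ H → g ^ r = sc a → h ^ r = sc a → IsConj g h := fun g h a ha hg hh =>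
    hconj _ _ (Semisimple.isConj_gl _ _
      ⟨_, (hirr a ha).squarefree, by simp [hpow_val g a hg, Algebra.algebraMap_eq_smul_one]⟩
      ⟨_, (hirr a ha).squarefree, by simp [hpow_val h a hh, Algebra.algebraMap_eq_smul_one]⟩
      ((charpoly_eq_pow (hirr a ha) (hpow_val g a hg)).2.trans
        (charpoly_eq_pow (hirr a ha) (hpow_val h a hh)).2.symm))
  have hblock : ∀ t : B, ∃ g : G₀, g ^ r = sc t.1.out := fun t => by
    obtain ⟨g, hg, hgr⟩ := exists_block G₀ W t.2.2 hmono t.1.out.2
    exact ⟨⟨g, hg⟩, Subtype.ext hgr⟩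
  have hphi : ∀ a : MultVec n r, ∃ φ : Fin n → ZMod r, cnt φ = a.1 := fun a => exists_phi a.1 a.2.1
  choose blk hblk using hblock
  choose ph hph using hphi
  have hsc_mul : ∀ c d : W, sc (c * d) = sc c * sc d := fun c d => Subtype.ext (scal_mul (c : Fˣ) d)
  have hsc_pow : ∀ (c : W) (k : ℕ), sc c ^ k = sc (c ^ k) := fun c k => Subtype.ext (scal_pow (c : Fˣ) k)
  have hsc_inj : Function.Injective sc := fun c d h => Subtype.ext (scal_injective hn (congrArg Subtype.val h))
  have hconj_pow : ∀ (T g : G₀) (c : W) (h : G₀), T * g * T⁻¹ = sc c * h →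
      T * g ^ r * T⁻¹ = sc (c ^ r) * h ^ r := by
    intro T g c h hc
    rw [← conj_pow, hc, (show Commute (sc c) h from Subtype.ext (scal_commute (c : Fˣ) (h : GL (Fin n) F))).mul_pow,
      hsc_pow]
  have hcnt_shift : ∀ (φ : Fin n → ZMod r) (i j : ZMod r), cnt (fun l => i + φ l) j = cnt φ (j - i) := fun φ i j => by
    simp only [cnt]; congr 1; ext l; simp [eq_sub_iff_add_eq, add_comm]
  have hrep_shift : ∀ (φ : Fin n → ZMod r) (i : ZMod r) (hi : zp ζ i ∈ W),
      sc ⟨zp ζ i, hi⟩ * repG φ = repG (fun l => i + φ l) := fun φ i hi => Subtype.ext (Units.ext (by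
    show ((scal (zp ζ i) * rep ζ φ : GL (Fin n) F) : Matrix (Fin n) (Fin n) F) = _
    rw [val_scal_mul]
    show _ = monoMat 1 fun l => zp ζ (i + φ l)
    rw [rep, val_mono, monoMat_one, monoMat_one, ← Matrix.diagonal_smul]
    congr 1
    funext l
    rw [zp_add hζ]
    simp))
  have hzW : ∀ i : ZMod r, zp ζ i ∈ W := fun i => W.pow_mem hζW _
  have hphor : ∀ a, orderOf (mk (repG (ph a))) = r := fun a => by
    refine (hord _).2 ⟨⟨1, by rw [hrep_pow]; exact (Subtype.ext scal_one).symm⟩, ?_⟩
    rintro ⟨c, hc⟩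
    have h : ∀ l, (zp ζ (ph a l) : F) = (c : Fˣ) := fun l => by
      have := congrArg (fun g : G₀ => ((g : GL (Fin n) F) : Matrix (Fin n) (Fin n) F) l l) hc
      simp [sc, repG, rep, val_scal, val_mono, monoMat_one] at this
      exact this.symm
    have hcs : ∀ l, ph a l = ph a ⟨0, hn⟩ := fun l => zp_injective hζ (Units.ext ((h l).trans (h _).symm))
    have := a.2.2 (ph a ⟨0, hn⟩)
    rw [← hph a, cnt, Finset.filter_true_of_mem (fun l _ => hcs l)] at this
    simp at this
  have hblor : ∀ t : B, orderOf (mk (blk t)) = r := fun t => by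
    refine (hord _).2 ⟨⟨_, hblk t⟩, ?_⟩
    rintro ⟨c, hc⟩
    have h := hblk t
    rw [← hc, hsc_pow] at h
    exact t.2.1 (by rw [← t.1.out_eq]; exact (QuotientGroup.eq_one_iff _).2 ⟨c, hsc_inj h⟩)
  let C := {C : ConjClasses (G₀ ⧸ Subgroup.center G₀) //
    ∃ g : G₀ ⧸ Subgroup.center G₀, ConjClasses.mk g = C ∧ orderOf g = r}
  let fA : AddAction.orbitRel.Quotient (ZMod r) (MultVec n r) → C :=
    Quotient.lift (fun a => ⟨ConjClasses.mk (mk (repG (ph a))), _, rfl, hphor a⟩) fun a b hab => by
      obtain ⟨i, rfl⟩ := hab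
      refine Subtype.ext (ConjClasses.mk_eq_mk_iff_isConj.2 ((hmk _ _).2 ?_))
      obtain ⟨T, hT⟩ := isConj_iff.1 (hA_conj (repG (ph (i +ᵥ b))) (hrep_pow _) (fun l => i + ph b l) (by
        refine (charpoly_rep_eq_iff hζ _ _).2 (funext fun j => ?_)
        rw [hcnt_shift, hph, hph, vadd_apply]))
      exact ⟨T, ⟨zp ζ i, hzW i⟩, by rw [hrep_shift, hT]⟩
  let fB : B → C := fun t => ⟨ConjClasses.mk (mk (blk t)), _, rfl, hblor t⟩
  have hf : Function.Bijective (Sum.elim fA fB) := by
    constructor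
    · refine Function.Injective.sumElim ?_ ?_ ?_
      · rintro ⟨a⟩ ⟨b⟩ h
        obtain ⟨T, c, hc⟩ := (hmk _ _).1 (ConjClasses.mk_eq_mk_iff_isConj.1 (congrArg Subtype.val h))
        have hcr := hconj_pow _ _ _ _ hc
        rw [hrep_pow, hrep_pow, mul_one, mul_inv_cancel, mul_one] at hcr
        have hc1 : ((c : Fˣ) : F) ^ r = 1 := by
          have := hsc_inj (show sc (c ^ r) = sc 1 from hcr.symm.trans (Subtype.ext scal_one).symm)
          rw [← Units.val_pow_eq_pow_val, ← SubmonoidClass.coe_pow, this]; simp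
        obtain ⟨i, hi⟩ := exists_zp hζ hc1
        have hci : c = ⟨zp ζ i, hzW i⟩ := Subtype.ext (Units.ext hi.symm)
        rw [hci, hrep_shift] at hc
        have hchar : (rep ζ (ph a) : Matrix (Fin n) (Fin n) F).charpoly =
            (rep ζ (fun l => i + ph b l) : Matrix (Fin n) (Fin n) F).charpoly := by
          show ((repG (ph a) : GL (Fin n) F) : Matrix (Fin n) (Fin n) F).charpoly =
            ((repG (fun l => i + ph b l) : GL (Fin n) F) : Matrix (Fin n) (Fin n) F).charpoly
          rw [← hc, Subgroup.coe_mul, Subgroup.coe_mul, InvMemClass.coe_inv, Units.val_mul, Units.val_mul,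
            Matrix.coe_units_inv, Matrix.charpoly_units_conj]
        have hcnt := (charpoly_rep_eq_iff hζ _ _).1 hchar
        refine Quotient.sound ⟨i, Subtype.ext (funext fun j => ?_)⟩
        show (i +ᵥ b).1 j = a.1 j
        rw [vadd_apply, ← hph a, hcnt, hcnt_shift, hph]
      · intro s t h
        obtain ⟨T, c, hc⟩ := (hmk _ _).1 (ConjClasses.mk_eq_mk_iff_isConj.1 (congrArg Subtype.val h))
        have hcr := hconj_pow _ _ _ _ hc
        rw [hblk, hblk, ← hsc_mul,
          show T * sc s.1.out * T⁻¹ = sc s.1.out by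
            rw [Subgroup.mem_center_iff.1 ((hcenter _).2 ⟨_, rfl⟩) T, mul_inv_cancel_right]] at hcr
        refine Subtype.ext ?_
        rw [← s.1.out_eq, ← t.1.out_eq]
        refine QuotientGroup.eq.2 ⟨c⁻¹, ?_⟩
        rw [powMonoidHom_apply, hsc_inj hcr, inv_pow, mul_inv_rev]
        rw [mul_comm (t.1.out)⁻¹, mul_assoc, inv_mul_cancel, mul_one]
      · rintro ⟨a⟩ t h
        obtain ⟨T, c, hc⟩ := (hmk _ _).1 (ConjClasses.mk_eq_mk_iff_isConj.1 (congrArg Subtype.val h))
        have hcr := hconj_pow _ _ _ _ hc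
        rw [hrep_pow, mul_one, mul_inv_cancel, hblk, ← hsc_mul] at hcr
        have h1 : c ^ r * t.1.out = 1 := hsc_inj (hcr.symm.trans (Subtype.ext scal_one).symm)
        refine t.2.1 ?_
        rw [← t.1.out_eq]
        exact (QuotientGroup.eq_one_iff _).2 ⟨c⁻¹, by
          rw [powMonoidHom_apply, inv_pow]; exact inv_eq_of_mul_eq_one_right h1⟩
    · rintro ⟨_, x, rfl, hx⟩
      obtain ⟨g, rfl⟩ := QuotientGroup.mk_surjective x
      obtain ⟨⟨a, ha⟩, hns⟩ := (hord g).1 hx
      by_cases haH : a ∈ H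
      · obtain ⟨c, rfl⟩ := haH
        set g' := sc c⁻¹ * g with hg'
        have hg'1 : g' ^ r = 1 := by
          rw [hg', (show Commute (sc c⁻¹) g from Subtype.ext (scal_commute _ _)).mul_pow, hsc_pow, ha,
            powMonoidHom_apply, ← hsc_mul, inv_pow, inv_mul_cancel]
          exact Subtype.ext scal_one
        obtain ⟨φ, hφ⟩ := exists_rep (A := ((g' : GL (Fin n) F) : Matrix (Fin n) (Fin n) F)) hζ (by
          rw [← Units.val_pow_eq_pow_val, ← SubmonoidClass.coe_pow, hg'1]; simp)
        have hconj' := hA_conj g' hg'1 φ hφ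
        have hlt : ∀ j, cnt φ j < n := fun j => by
          by_contra hcon
          push Not at hcon
          have hall : ∀ l, φ l = j := fun l => by
            have hcard : (Finset.univ.filter fun i => φ i = j).card = Fintype.card (Fin n) :=
              le_antisymm (Finset.card_le_univ _) (by rw [Fintype.card_fin]; exact hcon)
            exact (Finset.mem_filter.1 (Finset.eq_univ_iff_forall.1 (Finset.eq_univ_of_card _ hcard) l)).2
          obtain ⟨T, hT⟩ := isConj_iff.1 hconj'
          have hsj : repG φ = sc ⟨zp ζ j, hzW j⟩ := Subtype.ext (Units.ext (by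
            show monoMat 1 (fun l => zp ζ (φ l)) = _
            rw [show (fun l => zp ζ (φ l)) = fun _ => zp ζ j from funext fun l => by rw [hall]]
            rfl))
          have hg'c : g' = sc ⟨zp ζ j, hzW j⟩ := by
            have : T⁻¹ * (T * g' * T⁻¹) * T = T⁻¹ * repG φ * T := by rw [hT]
            rw [hsj, mul_assoc T⁻¹ (sc _) T, ← Subgroup.mem_center_iff.1 ((hcenter _).2 ⟨_, rfl⟩) T,
              inv_mul_cancel_left] at this
            rw [← this]; group
          exact hns ⟨c * ⟨zp ζ j, hzW j⟩, by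
            rw [hsc_mul, ← hg'c, hg', ← mul_assoc, ← hsc_mul, mul_inv_cancel]
            exact Subtype.ext (by show scal (1 : Fˣ) * _ = _; rw [scal_one, one_mul])⟩
        let av : MultVec n r := ⟨cnt φ, sum_cnt φ, hlt⟩
        refine ⟨Sum.inl (Quotient.mk _ av), Subtype.ext (ConjClasses.mk_eq_mk_iff_isConj.2 ((hmk _ _).2 ?_))⟩
        obtain ⟨T, hT⟩ := isConj_iff.1 ((hA_conj (repG (ph av)) (hrep_pow _) φ
          ((charpoly_rep_eq_iff hζ _ _).2 (hph av))).trans hconj'.symm)
        exact ⟨T, c⁻¹, hT⟩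
      · have hdvd : r ∣ n := (charpoly_eq_pow (hirr a haH) (hpow_val g a ha)).1
        let t : B := ⟨(a : W ⧸ H), fun h => haH ((QuotientGroup.eq_one_iff a).1 h), hdvd⟩
        refine ⟨Sum.inr t, Subtype.ext (ConjClasses.mk_eq_mk_iff_isConj.2 ((hmk _ _).2 ?_))⟩
        obtain ⟨c, hc⟩ := QuotientGroup.eq.1 (show (t.1.out : W ⧸ H) = (a : W ⧸ H) from t.1.out_eq)
        rw [powMonoidHom_apply] at hc
        have htH : t.1.out ∉ H := fun h => t.2.1 (by rw [← t.1.out_eq]; exact (QuotientGroup.eq_one_iff _).2 h)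
        obtain ⟨T, hT⟩ := isConj_iff.1 (hB_conj (blk t) (sc c⁻¹ * g) t.1.out htH (hblk t) (by
          rw [(show Commute (sc c⁻¹) g from Subtype.ext (scal_commute _ _)).mul_pow, hsc_pow, ha, ← hsc_mul,
            inv_pow, hc, mul_inv_rev, inv_inv, mul_assoc, mul_comm t.1.out, ← mul_assoc, inv_mul_cancel, one_mul]))
        exact ⟨T, c⁻¹, hT⟩
  rw [← Nat.card_eq_of_bijective _ hf, Nat.card_sum, card_orbits (r := r) hn]
  have hB : Nat.card B = (r - 1) * (if r ∣ n then 1 else 0) := by
    by_cases hdv : r ∣ n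
    · rw [if_pos hdv, mul_one, Nat.card_congr (Equiv.subtypeEquivRight (q := fun t => t ≠ 1)
        (fun t : W ⧸ H => and_iff_left hdv))]
      have hidx : Nat.card (W ⧸ H) = r := by
        show H.index = r
        rw [IsCyclic.index_powMonoidHom_range, Nat.gcd_eq_right hrW]
      letI := Fintype.ofFinite (W ⧸ H)
      rw [Nat.card_eq_fintype_card, Fintype.card_subtype_compl, Fintype.card_subtype_eq,
        ← Nat.card_eq_fintype_card, hidx]
    · rw [if_neg hdv, mul_zero]
      haveI : IsEmpty B := ⟨fun t => hdv t.2.2⟩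
      exact Nat.card_of_isEmpty
  rw [hB]
  have h1 := hr.one_lt
  split_ifs <;> omega

end Cfsg.Agent.ProjClasses
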