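/-
Semisimple classes of `Sp(2n,q)`: the characteristic polynomials are the `X^n H(X + 1/X)`, `H` monic of degree `n`.
-/
import Cfsg.Agent.Lib.Semisimple.Classes
import Cfsg.Agent.Lib.Forms.Classify
import Cfsg.Agent.Lib.Forms.Symp
import Cfsg.Agent.Lib.ClassicalSimple.SympMatrix

set_option autoImplicit false

open Polynomial Module Matrix

namespace Cfsg.Agent.Semisimple

universe u

variable {F : Type u} [Field F]

/-- `X^n H(X + 1/X)`, a self-reciprocal polynomial of degree `2n`. -/
noncomputable def recip (n : ℕ) (H : F[X]) : F[X] :=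
  ∑ k ∈ Finset.range (n + 1), C (H.coeff k) * ((X ^ 2 + 1) ^ k * X ^ (n - k))

theorem recip_aeval {n : ℕ} {H : F[X]} (hH : H.natDegree ≤ n) {L : Type*} [Field L] [Algebra F L] {x : L}
    (hx : x ≠ 0) : aeval x (recip n H) = x ^ n * aeval (x + x⁻¹) H := by
  rw [aeval_eq_sum_range' (Nat.lt_succ_of_le hH), recip, map_sum, Finset.mul_sum]
  refine Finset.sum_congr rfl fun k hk => ?_
  have hk' : k ≤ n := Nat.lt_succ_iff.1 (Finset.mem_range.1 hk)
  simp only [map_mul, map_pow, map_add, map_one, aeval_X, aeval_C, Algebra.smul_def]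
  have h1 : x ^ 2 + 1 = x * (x + x⁻¹) := by field_simp
  rw [h1, mul_pow]
  have h2 : x ^ k * x ^ (n - k) = x ^ n := by rw [← pow_add, Nat.add_sub_cancel' hk']
  linear_combination (algebraMap F L (H.coeff k) * (x + x⁻¹) ^ k) * h2

theorem aeval_ratFunc_X (P : F[X]) :
    aeval (RatFunc.X : RatFunc F) P = algebraMap F[X] (RatFunc F) P := by
  rw [← RatFunc.algebraMap_X, aeval_algebraMap_apply, aeval_X_left_apply]

theorem recip_mul {m n : ℕ} {H G : F[X]} (hH : H.natDegree ≤ m) (hG : G.natDegree ≤ n) :
    recip (m + n) (H * G) = recip m H * recip n G := by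
  apply IsFractionRing.injective F[X] (RatFunc F)
  rw [map_mul, ← aeval_ratFunc_X, ← aeval_ratFunc_X, ← aeval_ratFunc_X,
    recip_aeval (natDegree_mul_le.trans (by omega)) RatFunc.X_ne_zero, recip_aeval hH RatFunc.X_ne_zero,
    recip_aeval hG RatFunc.X_ne_zero, map_mul, pow_add]
  ring

theorem recip_one : recip 0 (1 : F[X]) = 1 := by simp [recip]

theorem recip_coeff_zero (n : ℕ) (H : F[X]) : (recip n H).coeff 0 = H.coeff n := by
  rw [coeff_zero_eq_eval_zero, recip, eval_finset_sum, Finset.sum_eq_single n]
  · simp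
  · intro k hk hkn
    have : n - k ≠ 0 := by have := Finset.mem_range.1 hk; omega
    simp [this]
  · simp

theorem recip_injective : ∀ (n : ℕ) (H G : F[X]), H.natDegree ≤ n → G.natDegree ≤ n → recip n H = recip n G → H = G := by
  intro n
  induction n with
  | zero =>
    intro H G hH hG h
    have := congrArg (fun P => coeff P 0) h
    simp only [recip_coeff_zero] at this
    rw [eq_C_of_natDegree_le_zero hH, eq_C_of_natDegree_le_zero hG, this]
  | succ n ih =>
    intro H G hH hG h
    have h0 := congrArg (fun P => coeff P 0) h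
    simp only [recip_coeff_zero] at h0
    have hsplit : ∀ P : F[X], recip (n + 1) P =
        X * recip n P + C (P.coeff (n + 1)) * (X ^ 2 + 1) ^ (n + 1) := by
      intro P
      rw [recip, Finset.sum_range_succ, Nat.sub_self, pow_zero, mul_one, recip, Finset.mul_sum]
      congr 1
      refine Finset.sum_congr rfl fun k hk => ?_
      rw [show n + 1 - k = (n - k) + 1 by have := Finset.mem_range.1 hk; omega, pow_succ]
      ring
    rw [hsplit, hsplit, h0] at h
    have h1 := mul_left_cancel₀ (X_ne_zero (R := F)) (add_right_cancel h)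
    have hcut : ∀ P : F[X], P.natDegree ≤ n + 1 →
        (P - C (P.coeff (n + 1)) * X ^ (n + 1)).natDegree ≤ n ∧
        recip n (P - C (P.coeff (n + 1)) * X ^ (n + 1)) = recip n P := by
      intro P hP
      refine ⟨natDegree_le_iff_coeff_eq_zero.2 fun k hk => ?_, Finset.sum_congr rfl fun k hk => ?_⟩
      · rw [coeff_sub, coeff_C_mul_X_pow]
        split_ifs with h'
        · rw [h', sub_self]
        · rw [coeff_eq_zero_of_natDegree_lt (by omega), sub_zero]
      · rw [coeff_sub, coeff_C_mul_X_pow, if_neg (by have := Finset.mem_range.1 hk; omega), sub_zero]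
    have h2 := ih _ _ (hcut H hH).1 (hcut G hG).1 (by rw [(hcut H hH).2, (hcut G hG).2, h1])
    rw [h0] at h2
    exact sub_left_injective h2

/-- Monic self-reciprocal polynomials of degree `2n`. -/
def SelfRecip (n : ℕ) (P : F[X]) : Prop := (P.Monic ∧ P.natDegree = 2 * n) ∧ P.reflect (2 * n) = P

theorem recip_selfRecip {n : ℕ} {H : F[X]} (hH : H.Monic) (hd : H.natDegree = n) : SelfRecip n (recip n H) := by
  have hbase : ∀ k : ℕ, (((X : F[X]) ^ 2 + 1) ^ k).reflect (2 * k) = (X ^ 2 + 1) ^ k := by
    intro k
    induction k with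
    | zero => simp
    | succ k ih =>
      have hd1 : (((X : F[X]) ^ 2 + 1) ^ k).natDegree ≤ 2 * k := by
        compute_degree
        omega
      have hd2 : ((X : F[X]) ^ 2 + 1).natDegree ≤ 2 := by compute_degree
      rw [pow_succ, mul_add, mul_one, reflect_mul _ _ hd1 hd2, ih]
      congr 1
      rw [reflect_add, reflect_monomial, revAt_le le_rfl, ← C_1, reflect_C, Nat.sub_self]
      simp
      ring
  have hterm : ∀ k ≤ n, (C (H.coeff k) * ((X ^ 2 + 1) ^ k * X ^ (n - k))).reflect (2 * n) =
      C (H.coeff k) * ((X ^ 2 + 1) ^ k * X ^ (n - k)) := by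
    intro k hk
    rw [reflect_C_mul, show 2 * n = 2 * k + 2 * (n - k) by omega,
      reflect_mul _ _ (by compute_degree; omega) (by compute_degree; omega), hbase, reflect_monomial,
      revAt_le (by omega), show 2 * (n - k) - (n - k) = n - k by omega]
  have hrefl : (recip n H).reflect (2 * n) = recip n H := by
    ext i
    rw [coeff_reflect, recip, finset_sum_coeff, finset_sum_coeff]
    refine Finset.sum_congr rfl fun k hk => ?_
    rw [← coeff_reflect, hterm k (Nat.lt_succ_iff.1 (Finset.mem_range.1 hk))]
  have hdeg : (recip n H).natDegree ≤ 2 * n := natDegree_sum_le_of_forall_le _ _ fun k hk => by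
    have := Finset.mem_range.1 hk
    compute_degree
    omega
  have hlead : (recip n H).coeff (2 * n) = 1 := by
    have h := congrArg (fun P => coeff P 0) hrefl
    simp only [coeff_reflect, revAt_le (Nat.zero_le _), Nat.sub_zero, recip_coeff_zero] at h
    rw [h, ← hd]
    exact hH
  have hnd := natDegree_eq_of_le_of_coeff_ne_zero hdeg (by rw [hlead]; exact one_ne_zero)
  exact ⟨⟨by rw [Monic, leadingCoeff, hnd, hlead], hnd⟩, hrefl⟩

theorem card_monicDeg [Fintype F] (n : ℕ) :
    Nat.card {P : F[X] // P.Monic ∧ P.natDegree = n} = Fintype.card F ^ n := by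
  rw [Nat.card_congr ((monicEquivDegreeLT n).trans (degreeLTEquiv F n).toEquiv)]
  simp

theorem card_selfRecip [Fintype F] (n : ℕ) : Nat.card {P : F[X] // SelfRecip n P} = Fintype.card F ^ n ∧
    ∀ P : F[X], SelfRecip n P → ∃ H, (H.Monic ∧ H.natDegree = n) ∧ recip n H = P := by
  have : Finite {P : F[X] // P.Monic ∧ P.natDegree = n} :=
    Finite.of_equiv _ ((monicEquivDegreeLT n).trans (degreeLTEquiv F n).toEquiv).symm
  let f : {P : F[X] // SelfRecip n P} → (Fin n → F) := fun P i => P.1.coeff (i + 1)
  have hf : Function.Injective f := by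
    intro P Q h
    refine Subtype.ext (Polynomial.ext fun i => ?_)
    have hlow : ∀ j ≤ n, P.1.coeff j = Q.1.coeff j := by
      intro j hj
      rcases j with _ | j
      · have h1 : ∀ R : F[X], SelfRecip n R → R.coeff 0 = 1 := fun R hR => by
          conv_lhs => rw [← hR.2]
          rw [coeff_reflect, revAt_le (Nat.zero_le _), Nat.sub_zero, ← hR.1.2]
          exact hR.1.1
        rw [h1 _ P.2, h1 _ Q.2]
      · exact congrFun h ⟨j, by omega⟩
    rcases Nat.lt_or_ge (2 * n) i with hi | hi
    · rw [coeff_eq_zero_of_natDegree_lt (by rw [P.2.1.2]; exact hi),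
        coeff_eq_zero_of_natDegree_lt (by rw [Q.2.1.2]; exact hi)]
    rcases Nat.lt_or_ge n i with hi' | hi'
    · rw [← P.2.2, ← Q.2.2, coeff_reflect, coeff_reflect, revAt_le hi]
      exact hlow _ (by omega)
    · exact hlow _ hi'
  have : Finite {P : F[X] // SelfRecip n P} := Finite.of_injective f hf
  let g : {H : F[X] // H.Monic ∧ H.natDegree = n} → {P : F[X] // SelfRecip n P} :=
    fun H => ⟨recip n H.1, recip_selfRecip H.2.1 H.2.2⟩
  have hg : Function.Injective g := fun H G h =>
    Subtype.ext (recip_injective n _ _ H.2.2.le G.2.2.le (congrArg Subtype.val h))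
  have h1 := Nat.card_le_card_of_injective g hg
  have h2 := Nat.card_le_card_of_injective f hf
  rw [card_monicDeg] at h1
  rw [Nat.card_fun, Nat.card_eq_fintype_card (α := F), Nat.card_fin] at h2
  have hcard := le_antisymm h2 h1
  refine ⟨hcard, fun P hP => ?_⟩
  obtain ⟨H, hH⟩ := ((Nat.bijective_iff_injective_and_card g).2 ⟨hg, by rw [card_monicDeg, hcard]⟩).2 ⟨P, hP⟩
  exact ⟨H.1, H.2, congrArg Subtype.val hH⟩

/-- The characteristic polynomial of an isometry of a non-degenerate alternating matrix form of determinant one. -/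
theorem charpoly_selfRecip {n : ℕ} (A : Matrix.symplecticGroup (Fin n) F) :
    SelfRecip n (A : Matrix (Fin n ⊕ Fin n) (Fin n ⊕ Fin n) F).charpoly := by
  set M : Matrix (Fin n ⊕ Fin n) (Fin n ⊕ Fin n) F := A.1
  have hdet : M.det = 1 := by
    have h : ∀ g ∈ Subgroup.closure (ClassicalSimple.sympTransvectionSet n F),
        (g : Matrix (Fin n ⊕ Fin n) (Fin n ⊕ Fin n) F).det = 1 := by
      intro g hg
      induction hg using Subgroup.closure_induction with
      | mem g hg =>
        obtain ⟨w, c, hc⟩ := hg
        rw [hc, sympTransvection, ← Matrix.smul_vecMulVec, Matrix.vecMulVec_eq Unit,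
          Matrix.det_one_add_replicateCol_mul_replicateRow, dotProduct_smul]
        have h0 : (Matrix.J (Fin n) F *ᵥ w) ⬝ᵥ w = 0 := by
          rw [dotProduct_comm]
          exact (Forms.sympB_apply w w).symm.trans (Forms.sympB_isAlt n w)
        rw [h0, smul_zero, add_zero]
      | one => exact Matrix.det_one
      | mul a b _ _ ha hb => rw [Submonoid.coe_mul, Matrix.det_mul, ha, hb, mul_one]
      | inv a _ ha =>
        have := congrArg Subtype.val (mul_inv_cancel a)
        rw [Submonoid.coe_mul] at this
        have h2 := congrArg Matrix.det this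
        rwa [Matrix.det_mul, ha, one_mul, Submonoid.coe_one, Matrix.det_one] at h2
    exact h A (ClassicalSimple.closure_sympTransvectionSet (m := n) (F := F) ▸ Subgroup.mem_top A)
  have hM : M * Matrix.J (Fin n) F * M.transpose = Matrix.J (Fin n) F := SymplecticGroup.mem_iff.1 A.2
  have hnd : M.charpoly.natDegree = 2 * n := by rw [Matrix.charpoly_natDegree_eq_dim]; simp; omega
  refine ⟨⟨M.charpoly_monic, hnd⟩, ?_⟩
  have hrev : M.charpoly.reflect (2 * n) = M.charpolyRev := by
    rw [← Matrix.reverse_charpoly, Polynomial.reverse, hnd]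
  rw [hrev]
  let φ := (C : F →+* F[X]).mapMatrix (m := Fin n ⊕ Fin n)
  have hM' : φ M * φ (Matrix.J (Fin n) F) * φ M.transpose = φ (Matrix.J (Fin n) F) := by
    rw [← map_mul, ← map_mul, hM]
  have hφd : ∀ B, (φ B).det = C B.det := fun B => (RingHom.map_det _ B).symm
  have key : (1 - (X : F[X]) • φ M) * (φ (Matrix.J (Fin n) F) * φ M.transpose) =
      -(φ (Matrix.J (Fin n) F) * Matrix.charmatrix M.transpose) := by
    have hX : Matrix.scalar (Fin n ⊕ Fin n) (X : F[X]) = (X : F[X]) • 1 := by
      ext i j; simp [Matrix.scalar, Matrix.diagonal_apply, Matrix.one_apply]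
    rw [sub_mul, one_mul, Matrix.smul_mul, ← mul_assoc, hM', Matrix.charmatrix, hX]
    show _ = -(φ (Matrix.J (Fin n) F) * ((X : F[X]) • 1 - φ M.transpose))
    rw [mul_sub, Matrix.mul_smul, mul_one, neg_sub]
  have h2 := congrArg Matrix.det key
  rw [Matrix.det_mul, Matrix.det_mul, Matrix.det_neg, Matrix.det_mul, hφd, hφd, Matrix.det_transpose, hdet, map_one,
    mul_one, show (Matrix.charmatrix M.transpose).det = M.charpoly from Matrix.charpoly_transpose M,
    show (-1 : F[X]) ^ Fintype.card (Fin n ⊕ Fin n) = 1 by simp [← two_mul, pow_mul], one_mul] at h2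
  refine mul_right_cancel₀ (C_ne_zero.2 (Matrix.isUnit_det_J (Fin n) F).ne_zero) ?_
  rw [show M.charpolyRev = (1 - (X : F[X]) • φ M).det from rfl]
  exact h2.trans (mul_comm _ _)

/-- A symplectic semisimple realisation of a polynomial. -/
def Realised (P : F[X]) : Prop :=
  ∃ (V : Type u) (_ : AddCommGroup V) (_ : Module F V) (_ : FiniteDimensional F V)
    (B : LinearMap.BilinForm F V) (g : End F V) (N : ℕ),
    B.IsAlt ∧ (∀ x, (∀ y, B x y = 0) → x = 0) ∧ (∀ x y, B (g x) (g y) = B x y) ∧
      (N : F) ≠ 0 ∧ g ^ N = 1 ∧ g.charpoly = P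

theorem realised_mul {P Q : F[X]} (hP : Realised P) (hQ : Realised Q) : Realised (P * Q) := by
  obtain ⟨V, _, _, _, B, g, N, hA, hS, hg, hN, hgN, rfl⟩ := hP
  obtain ⟨W, _, _, _, B', g', N', hA', hS', hg', hN', hgN', rfl⟩ := hQ
  let B₂ : LinearMap.BilinForm F (V × W) :=
    B.comp (LinearMap.fst F V W) (LinearMap.fst F V W) + B'.comp (LinearMap.snd F V W) (LinearMap.snd F V W)
  have hB : ∀ x y : V × W, B₂ x y = B x.1 y.1 + B' x.2 y.2 := fun x y => by
    simp [B₂, LinearMap.BilinForm.comp_apply]
  refine ⟨V × W, inferInstance, inferInstance, inferInstance, B₂, g.prodMap g', N * N', fun x => ?_, fun x hx => ?_,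
    fun x y => ?_, by rw [Nat.cast_mul]; exact mul_ne_zero hN hN', ?_, LinearMap.charpoly_prodMap g g'⟩
  · rw [hB, hA, hA', add_zero]
  · refine Prod.ext (hS _ fun y => ?_) (hS' _ fun y => ?_)
    · simpa [hB] using hx (y, 0)
    · simpa [hB] using hx (0, y)
  · rw [hB, hB]
    exact congrArg₂ (· + ·) (hg _ _) (hg' _ _)
  · have : (g.prodMap g') ^ (N * N') = (g ^ (N * N')).prodMap (g' ^ (N * N')) := by
      exact (map_pow (LinearMap.prodMapRingHom F V W) (g, g') _).symm
    rw [this, pow_mul, hgN, one_pow, mul_comm, pow_mul, hgN', one_pow]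
    exact LinearMap.ext fun x => rfl

theorem realised_one : Realised (1 : F[X]) :=
  ⟨(Fin 0 → F), inferInstance, inferInstance, inferInstance, 0, 1, 1, fun _ => rfl, fun _ _ => Subsingleton.elim _ _,
    fun _ _ => rfl, by simp, one_pow _, by
      rw [← LinearMap.charpoly_toMatrix (1 : End F (Fin 0 → F)) (Pi.basisFun F (Fin 0))]
      exact Matrix.charpoly_isEmpty ..⟩

/-- The block of an irreducible `h`: `SL₂` over `F[X]/h` on its plane, with the trace form. -/
theorem realised_irreducible [Fintype F] (p : ℕ) [Fact p.Prime] [CharP F p] {h : F[X]} (hm : h.Monic)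
    (hi : Irreducible h) :
    ∃ (P : F[X]), Realised P ∧ (∀ π : F[X], π ∣ P → Irreducible π → π ∣ recip h.natDegree h) ∧
      P.natDegree = 2 * h.natDegree := by
  classical
  have : Fact (Irreducible h) := ⟨hi⟩
  haveI := finite_adjoinRoot hm
  let K := AdjoinRoot h
  haveI : Finite K := Module.finite_of_finite F
  haveI : CharP K p := charP_of_injective_algebraMap (algebraMap F K).injective p
  have := Fintype.ofFinite K
  set s : K := AdjoinRoot.root h with hs
  let B : LinearMap.BilinForm F (K × K) :=
    LinearMap.mk₂ F (fun a b => Algebra.trace F K (a.1 * b.2 - a.2 * b.1))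
      (fun a a' b => by simp [add_mul]; ring) (fun c a b => by simp [smul_mul_assoc, ← smul_sub])
      (fun a b b' => by simp [mul_add]; ring) (fun c a b => by simp [mul_smul_comm, ← smul_sub])
  have hBa : B.IsAlt := fun a => by
    show Algebra.trace F K (a.1 * a.2 - a.2 * a.1) = 0
    rw [mul_comm, sub_self, map_zero]
  have hBs : ∀ x, (∀ y, B x y = 0) → x = 0 := by
    intro x hx
    refine Prod.ext ((traceForm_nondegenerate F K).1 _ fun y => ?_) ((traceForm_nondegenerate F K).1 _ fun y => ?_)
    · have := hx (0, y)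
      simpa [B, Algebra.traceForm_apply] using this
    · have := hx (y, 0)
      simpa [B, Algebra.traceForm_apply] using this
  suffices hg : ∃ (g : End F (K × K)) (N : ℕ), (∀ x y, B (g x) (g y) = B x y) ∧ (N : F) ≠ 0 ∧ g ^ N = 1 ∧
      ∀ x, g (g x) + x = s • g x by
    obtain ⟨g, N, hg1, hN, hgN, hrel⟩ := hg
    refine ⟨g.charpoly, ⟨K × K, inferInstance, inferInstance, inferInstance, B, g, N, hBa, hBs, hg1, hN, hgN, rfl⟩,
      fun π hπ hπi => ?_, ?_⟩
    · obtain ⟨v, hv0, hv⟩ := exists_vec_of_dvd g hπi hπ
      let S : End F (K × K) := Algebra.lsmul F F (K × K) s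
      have hgg : g ^ 2 + 1 = S * g := LinearMap.ext fun x => by
        rw [pow_two]; exact hrel x
      have hSh : aeval S h = 0 := by
        rw [aeval_algHom_apply, hs, AdjoinRoot.aeval_eq, AdjoinRoot.mk_self, map_zero]
      have hcomm : Commute S g := by
        show S * g = g * S
        have e : g * S * g = S * g * g := by
          rw [mul_assoc, ← hgg, mul_add, add_mul, mul_one, one_mul, ← pow_succ, ← pow_succ']
        have hu : IsUnit g := by
          have : N ≠ 0 := fun h0 => hN (by rw [h0, Nat.cast_zero])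
          exact IsUnit.of_pow_eq_one hgN this
        exact (hu.mul_right_cancel e).symm
      have h0 : aeval g (recip h.natDegree h) = 0 := by
        have hsum : (aeval g (recip h.natDegree h)) = g ^ h.natDegree * aeval S h := by
          rw [recip, map_sum, aeval_eq_sum_range, Finset.mul_sum]
          refine Finset.sum_congr rfl fun k hk => ?_
          have hk' : k ≤ h.natDegree := Nat.lt_succ_iff.1 (Finset.mem_range.1 hk)
          simp only [map_mul, map_pow, map_add, map_one, aeval_X, aeval_C]
          rw [hgg, hcomm.mul_pow, mul_assoc, ← pow_add, Nat.add_sub_cancel' hk',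
            ← Algebra.smul_def, mul_smul_comm, (hcomm.pow_pow k h.natDegree).eq]
        rw [hsum, hSh, mul_zero]
      by_contra hnd
      obtain ⟨a, b, hab⟩ := hπi.coprime_iff_not_dvd.2 hnd
      apply hv0
      have h1 := congrArg (fun P : F[X] => aeval g P v) hab
      simpa [Module.End.mul_apply, hv, h0] using h1.symm
    · rw [LinearMap.charpoly_natDegree, Module.finrank_prod, finrank_adjoinRoot hm]; omega
  by_cases hc : ∃ c : K, c * c = 1 ∧ c + c = s
  · obtain ⟨c, hc1, hc2⟩ := hc
    refine ⟨Algebra.lsmul F F (K × K) c, if c = 1 then 1 else 2, fun x y => ?_, ?_, ?_, fun x => ?_⟩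
    · show Algebra.trace F K (c * x.1 * (c * y.2) - c * x.2 * (c * y.1)) = Algebra.trace F K (x.1 * y.2 - x.2 * y.1)
      congr 1
      linear_combination (x.1 * y.2 - x.2 * y.1) * hc1
    · split_ifs with h1
      · simp
      · intro h2
        apply h1
        rcases mul_self_eq_one_iff.1 hc1 with h | h
        · exact h
        · have h2' : (2 : K) = 0 := by rw [← map_ofNat (algebraMap F K), ← map_zero (algebraMap F K)]; exact congrArg _ (by exact_mod_cast h2)
          linear_combination h - h2'
    · split_ifs with h1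
      · rw [pow_one, h1, map_one]
      · rw [← map_pow, pow_two, hc1, map_one]
    · show c • c • x + x = s • c • x
      rw [smul_smul, smul_smul, hc1, ← hc2, add_mul, hc1, add_smul, one_smul]
  · push Not at hc
    let g : End F (K × K) :=
      { toFun := fun x => (-x.2, x.1 + s * x.2)
        map_add' := fun x y => by ext <;> simp [mul_add] <;> ring
        map_smul' := fun a x => by ext <;> simp [mul_smul_comm] }
    have hrel : ∀ x, g (g x) + x = s • g x := fun x => by
      ext <;> simp [g, smul_eq_mul] <;> ring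
    have hiso : ∀ x y, B (g x) (g y) = B x y := fun x y => by
      show Algebra.trace F K ((-x.2) * (y.1 + s * y.2) - (x.1 + s * x.2) * (-y.2)) =
        Algebra.trace F K (x.1 * y.2 - x.2 * y.1)
      congr 1
      ring
    -- semisimple over the extension, hence over `F`
    let M : Matrix (Fin 2) (Fin 2) K := !![0, -1; 1, s]
    have hM : M.charpoly = X ^ 2 - C s * X + 1 := by
      rw [Matrix.charpoly_fin_two]; simp [M, Matrix.trace_fin_two, Matrix.det_fin_two]
    have hsep : (X ^ 2 - C s * X + 1 : K[X]).Separable := by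
      have hroot : ∀ x : AlgebraicClosure K, x ^ 2 - algebraMap K _ s * x + 1 = 0 → 2 * x ≠ algebraMap K _ s := by
        intro x hx h2x
        have hx2 : x * x = 1 := by linear_combination (-1 : AlgebraicClosure K) * hx + x * h2x
        rcases mul_self_eq_one_iff.1 hx2 with h | h
        · exact hc 1 (one_mul 1) ((algebraMap K (AlgebraicClosure K)).injective (by
            rw [map_add, map_one, ← h2x, h, mul_one, one_add_one_eq_two]))
        · exact hc (-1) (by ring) ((algebraMap K (AlgebraicClosure K)).injective (by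
            rw [map_add, map_neg, map_one, ← h2x, h]; ring))
      rw [Polynomial.separable_def,
        ← Polynomial.isCoprime_map (algebraMap K (AlgebraicClosure K)),
        Polynomial.isCoprime_iff_aeval_ne_zero_of_isAlgClosed (AlgebraicClosure K) (AlgebraicClosure K)]
      intro x
      by_contra! hx
      obtain ⟨hx1, hx2⟩ := hx
      simp [derivative_pow] at hx1 hx2
      exact hroot x (by linear_combination hx1) (by linear_combination hx2)
    have hdet : M.det ≠ 0 := by simp [M, Matrix.det_fin_two]
    have hMs : SS (K := K) ((Matrix.GeneralLinearGroup.mkOfDetNeZero M hdet : GL (Fin 2) K) : Matrix (Fin 2) (Fin 2) K) :=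
      ⟨_, hsep.squarefree, hM ▸ Matrix.aeval_self_charpoly M⟩
    have hcop := coprime_of_ss p _ hMs
    set A := Matrix.GeneralLinearGroup.mkOfDetNeZero M hdet
    refine ⟨g, orderOf A, hiso, ?_, ?_, hrel⟩
    · rw [Ne, CharP.cast_eq_zero_iff F p]
      exact fun h => (Fact.out : p.Prime).not_dvd_one (hcop ▸ Nat.dvd_gcd h dvd_rfl)
    · have hit : ∀ (k : ℕ) (x : K × K),
          (g ^ k) x = (((M ^ k) *ᵥ ![x.1, x.2]) 0, ((M ^ k) *ᵥ ![x.1, x.2]) 1) := by
        intro k
        induction k with
        | zero => intro x; simp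
        | succ k ih =>
          intro x
          rw [pow_succ', pow_succ', Module.End.mul_apply, ih, ← Matrix.mulVec_mulVec]
          generalize (M ^ k) *ᵥ ![x.1, x.2] = w
          simp [g, M, Matrix.mulVec, dotProduct, Fin.sum_univ_two, neg_one_mul]
      refine LinearMap.ext fun x => ?_
      have h1 := congrArg Units.val (pow_orderOf_eq_one A)
      rw [Units.val_pow_eq_pow_val, Units.val_one, show (A : Matrix (Fin 2) (Fin 2) K) = M from rfl] at h1
      rw [hit, h1]
      simp

/-- Every `X^n H(X + 1/X)` is realised. -/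
theorem realised_recip [Fintype F] (p : ℕ) [Fact p.Prime] [CharP F p] : ∀ (n : ℕ) (H : F[X]),
    H.Monic → H.natDegree = n → Realised (recip n H) := by
  intro n
  induction n using Nat.strong_induction_on with
  | _ n ih =>
    intro H hH hd
    rcases Nat.eq_zero_or_pos n with h0 | h0
    · subst h0
      rw [hH.natDegree_eq_zero.1 hd, recip_one]
      exact realised_one
    obtain ⟨h, hm, hi, G, hG⟩ := Polynomial.exists_monic_irreducible_factor H
      (fun hu => by have := natDegree_eq_zero_of_isUnit hu; omega)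
    have hGm : G.Monic := hm.of_mul_monic_left (hG ▸ hH)
    have hdeg : n = h.natDegree + G.natDegree := by rw [← hd, hG, natDegree_mul hm.ne_zero hGm.ne_zero]
    obtain ⟨P, hP, hPfac, hPdeg⟩ := realised_irreducible p hm hi
    suffices hPh : P = recip h.natDegree h by
      rw [hdeg, hG, recip_mul le_rfl le_rfl, ← hPh]
      exact realised_mul hP (ih _ (by have := hi.natDegree_pos; omega) G hGm rfl)
    obtain ⟨V, _, _, _, B, g, N, hA, hS, hg, hN, hgN, hgP⟩ := id hP
    obtain ⟨m, H', hH', hPH⟩ : ∃ m H', (H'.Monic ∧ H'.natDegree = m) ∧ recip m H' = P := by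
      obtain ⟨m, k, e, he⟩ := Forms.exists_alt_coords B hA
      have hk : k = 0 := by
        by_contra hk
        have : Nonempty (Fin k) := ⟨⟨0, Nat.pos_of_ne_zero hk⟩⟩
        obtain ⟨i⟩ := this
        have h1 := hS (e.symm (Pi.single (Sum.inr i) 1)) fun y => by
          rw [he, show (fun j => e (e.symm (Pi.single (Sum.inr i) (1 : F))) (Sum.inl j)) = 0 by
            funext j; simp, sympForm, Matrix.mulVec_zero, dotProduct_zero]
        simpa using congrFun ((LinearEquiv.map_eq_zero_iff _).1 h1) (Sum.inr i)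
      subst hk
      let e' : V ≃ₗ[F] (Fin m ⊕ Fin m → F) :=
        e.trans (LinearEquiv.funCongrLeft F F (Equiv.sumEmpty (Fin m ⊕ Fin m) (Fin 0)).symm)
      have he' : ∀ x i, e' x i = e x (Sum.inl i) := fun x i => rfl
      let A := LinearMap.toMatrix' (e'.conj g)
      have hmem : A ∈ Matrix.symplecticGroup (Fin m) F := Forms.mem_symplecticGroup_iff_form.2 fun u v => by
        obtain ⟨x, rfl⟩ := e'.surjective u
        obtain ⟨y, rfl⟩ := e'.surjective v
        rw [← Matrix.toLin'_apply, ← Matrix.toLin'_apply, Matrix.toLin'_toMatrix', LinearEquiv.conj_apply_apply,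
          LinearEquiv.conj_apply_apply, LinearEquiv.symm_apply_apply, LinearEquiv.symm_apply_apply]
        exact ((he (g y) (g x)).symm.trans ((hg y x).trans (he y x)) :)
      obtain ⟨H', hH', hPH⟩ := (card_selfRecip m).2 _ (charpoly_selfRecip ⟨A, hmem⟩)
      refine ⟨m, H', hH', hPH.trans ?_⟩
      show A.charpoly = P
      rw [← Matrix.charpoly_toLin', Matrix.toLin'_toMatrix', LinearEquiv.charpoly_conj, hgP]
    have hm2 := congrArg natDegree hPH
    rw [(recip_selfRecip hH'.1 hH'.2).1.2, hPdeg] at hm2
    obtain rfl : m = h.natDegree := by omega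
    obtain ⟨h', hm', hi', G', hG'⟩ := Polynomial.exists_monic_irreducible_factor H'
      (fun hu => by have := natDegree_eq_zero_of_isUnit hu; have := hi.natDegree_pos; omega)
    have hGm' : G'.Monic := hm'.of_mul_monic_left (hG' ▸ hH'.1)
    have hd' : h.natDegree = h'.natDegree + G'.natDegree := by
      rw [← hH'.2, hG', natDegree_mul hm'.ne_zero hGm'.ne_zero]
    have hdvd : recip h'.natDegree h' ∣ P :=
      ⟨recip G'.natDegree G', by rw [← hPH, hG', hd', recip_mul le_rfl le_rfl]⟩
    obtain ⟨π, hπm, hπ, hπd⟩ := Polynomial.exists_monic_irreducible_factor (recip h'.natDegree h')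
      (fun hu => by
        have h1 := natDegree_eq_zero_of_isUnit hu
        rw [(recip_selfRecip hm' rfl).1.2] at h1
        have := hi'.natDegree_pos
        omega)
    have h2 : π ∣ recip h.natDegree h := hPfac π (hπd.trans hdvd) hπ
    have : Fact (Irreducible π) := ⟨hπ⟩
    set x := AdjoinRoot.root π
    have hev : ∀ q : F[X], π ∣ q → aeval x q = 0 := fun q hq => by
      rw [AdjoinRoot.aeval_eq]; exact AdjoinRoot.mk_eq_zero.2 hq
    have hx0 : x ≠ 0 := fun hx => by
      have h1 := hev _ h2
      rw [hx, aeval_def, eval₂_at_zero, recip_coeff_zero, show h.coeff h.natDegree = 1 from hm, map_one] at h1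
      exact one_ne_zero h1
    have r1 := hev _ hπd
    have r2 := hev _ h2
    rw [recip_aeval le_rfl hx0] at r1 r2
    have e1 := minpoly.eq_of_irreducible_of_monic hi' ((mul_eq_zero.1 r1).resolve_left (pow_ne_zero _ hx0)) hm'
    have e2 := minpoly.eq_of_irreducible_of_monic hi ((mul_eq_zero.1 r2).resolve_left (pow_ne_zero _ hx0)) hm
    have hhh : h' = h := e1.trans e2.symm
    rw [← hPH, hG', hhh]
    have hG0 : G'.natDegree = 0 := by rw [hhh] at hd'; omega
    rw [hGm'.natDegree_eq_zero.1 hG0, mul_one]


end Cfsg.Agent.Semisimple
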